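import Cfsg.Agent.H6.LR.B2
import Cfsg.Agent.H6.More2
import Cfsg.Agent.H6.LR.P.Rep
import Cfsg.Agent.H6.LR.A.Rep

set_option autoImplicit false
set_option maxRecDepth 100000
set_option Elab.async false

namespace Cfsg.H6.LR.P

theorem hev0 : Good ev0 inv0 := pg_good _ _

theorem hR0 : Rels ev0 R0 := pg_rels _ _

def X0 : List (List ℕ) := [[0], [17], [20], [22], [24], [26], [28], [30], [32], [34], [36]]

theorem hX0 : gen ev0 X0 = ⊤ := pg_gen (m := 38) (by decide +kernel)

theorem cen0 : ev0 17 ∈ Subgroup.center Grp := by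
  rw [← evL_singleton ev0]
  exact mem_center_of_rels hev0 hX0 (rels_of_cyc hev0 hR0 (by decide +kernel))

theorem ub : UB (⊤ : Subgroup Grp) 39916800 := by
  have := normal_zpowers_of_central cen0
  have t2 : ev0 17 ^ 2 = 1 := by
    rw [← evL_singleton ev0, ← evL_rp]
    exact hR0 _ (by decide +kernel)
  have h0 : QuotientGroup.mk' (Subgroup.zpowers (ev0 17)) (ev0 17) = 1 :=
    (QuotientGroup.eq_one_iff _).mpr (Subgroup.mem_zpowers _)
  have hc : ∀ i < 9, cycChk inv0 (relSet inv0 R0) (rp 3 [18 + 2 * (i + 1)]) = true ∧ ∀ j < i,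
      cycChk inv0 (relSet inv0 R0) (rp 2 [18 + 2 * (i + 1), 18 + 2 * (j + 1)] ++ [17]) = true := by
    decide +kernel
  have h := carm_ub (fun l => QuotientGroup.mk' (Subgroup.zpowers (ev0 17)) (ev0 (18 + 2 * l)))
    fun i hi => ⟨by
      have := cyc_sound hev0 hR0 (hc i hi).1
      rw [evL_rp, evL_singleton] at this
      rw [← map_pow, this, map_one], fun j hj => by
      have := congrArg (QuotientGroup.mk' (Subgroup.zpowers (ev0 17)))
        (cyc_sound hev0 hR0 ((hc i hi).2 j hj))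
      rwa [evL_append, evL_rp, evL_singleton, map_mul, h0, mul_one, evL_cons, evL_singleton, map_pow,
        map_mul] at this⟩
  refine ub_quot (ub_zpowers (by norm_num) t2) (h.mono ?_)
  rw [← gen_map_top _ (QuotientGroup.mk'_surjective _) hX0]
  refine gen_le (List.forall_mem_cons.mpr ⟨?_, List.forall_mem_cons.mpr ⟨?_, fun w hw => ?_⟩⟩)
  · rw [evL_singleton, hev0.zero, map_one]; exact one_mem _
  · rw [evL_singleton, h0]; exact one_mem _
  · obtain ⟨i, hi, rfl⟩ : ∃ i < 9, w = [18 + 2 * (i + 1)] := by revert w; decide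
    have := evL_mem_gen (fun l => QuotientGroup.mk' (Subgroup.zpowers (ev0 17)) (ev0 (18 + 2 * l)))
      (Carm.mem_L.mpr ⟨i, hi, rfl⟩)
    rwa [evL_singleton] at this ⊢

instance finite : Finite Grp := ub.top.1

/-- The faithful action. -/
noncomputable def φ : Grp →* Equiv.Perm ℕ := (act_of rep).choose

theorem hφ : IsAct φ ev img 5040 38 := (act_of rep).choose_spec

/-- The action on eleven points. -/
noncomputable def φA : Grp →* Equiv.Perm ℕ := (act_of A.rep).choose

theorem hφA : IsAct φA ev A.img 11 38 := (act_of A.rep).choose_spec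

def X : List (List ℕ) := [[1], [2], [3], [4], [5], [6], [7], [8], [9], [10]]

def XC : List (List ℕ) := [[1], [2], [3], [4], [5], [6], [7], [9], [10]]

def XK : List (List ℕ) := [[1], [2], [3], [4], [5], [9], [10], [17], [18], [19]]

def lW0 : List (List ℕ) := [[nat_lit 1], [nat_lit 2], [nat_lit 3], [nat_lit 5], [nat_lit 6], [nat_lit 7]]

theorem l0 : lvlChk img 5040 38 [] (0, lW0, unp 5039 (nat_lit 0xb300000fcd00000eac02000d3300000ff4000000850300011c040013420400129003000ec900000e00000008df040013800400096303000d5401000cfa05000e26050006600500137a0200039a020007c403000db3020012fe05000f3604000f9205000e2a0500096c0200038f000004fc000004b203000b3a030004b20100026502000ede00000a9800000485050009be040006e50400080a01000ac10300068f0100023202000bc605000dc902000cdf010000a7010009830400098303000983020006f60400064005001386050013860200111b020003010000055e03000d5b01000f320000079900000a1701000bdb0400054f050001720200026202000276000008ed050002850400028503000ce802001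32e000000fc010010db0000001a00000b810200102c040003c6020003c60100047205000aeb02000f4d00000ea805000b3c01000ff20300106f020001dc030001dc0100025e05000fda00000f9905000f99000006c10500003e0300053b05000d3c04000cc805000cc803000c3500000e2904000c62030002ec02000a0b010011eb03000d0e0200083805000ee304001130010011c6040011c603000d6505000d650000101c000013730200100505000f8e01000074030008f9040005c00000054e00000dbf0100091e0300091e0200091e0100091e0000008b0400008b01000f2701000f7404000f7401000a8905000a89020003e202000042050004fe030004fe0200040c040011f7020011f7000007c8040007c802000f03000006f80100071d020008e8000008790500129e0100007b030001d2050001d202000667050006670200024f05000abd030003f802000094050009660400114105000909010005a701000e2b0400063103000631020009a5000012c3030012c30200039d02000679000004a500000ac404000ac4030010f9030003d40200007601000b8f020004fb0400118e010011c902001266050012660200004501000e5900000366040003b30000079e0100124104000d6703000d670000127a0100018105000236030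0053e0300088400000443030011b005000c6d02000c85000008fa040008fa020005720000134403000919030004860100062204000622010005de010005f9020012cd000004f40100114f02000ae503000ae50200081f00000bd705000a2500000b0e020008370000106a020005d203000dea0200010300001047020001c802000133040004b4040004b4000010b8040010b80200078700000003050009cc02000002040007e0030007e00200129b020010830200077705000c9f040009160000102e02000e870500091c0000032f00000817050000750500128d020006e4030006e4020006e401000afb04001250030002a004000cf2010012c0030012c002000fe9040012c0010005810100019f0200055c05000e2304000a3002000f110200104005001040020010d1050010d1030003af00000bef01000c5b0200024403000244010012d702000aaf00000cb800000d4105000d4103000d7c01000d7c0000118302000b2904000b290300018c01000faf02000aa202000aa20000045605000c4505000c4502000f97000006c50100004c0500004c040010fa0500120a0400120a01001326040013260300132602000b2f05000b2f000002ae010005d604000eb104000eb10000007c0500007c0200007c000005f504000519000007260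50011fa050011fa0300019901000324000004e9020012b5030003ac03000b6404000b64030003ac0000010a00000a9901000a6f00000ad904000ad9010006b2050006b2020006b201000f4c000011860400059001001009050001f904000ace05000697030006b6030012700200113d050010be040010be030001de040013710400002c040006370100063700000f6504000f650000061d020009290500092900001216050006390400133903000b7504000cc40000124d020001d904000a960100079f000007a803000e5c050005a501000da805000da80400078804000788010007fc01000e2f000003a60400116b000008a8030008a8010012b60500090b0200003602000c250200032e0100048b0300048b010013960300139602001396010013a60000123b0300123b02000f5002000f5001000f5000000bde03000bde010009dc000005980400032d0500032d000000dd050000dd04000a8400000de504000de503000fa30100068e0400007f020004250200008e0500008e0300008e0200008e01000eb504000898000005c3030008ba00000558050006ed050006ed000002e9040011970400119703001197000004200500042004000420000002e901001143020007170500022b00000c1803000f4f0500000e0400000e00000ff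803000ff801000a1400001269000002a70200034e0500020e0300020e02000a3805000a38030006bf0200020e010002b301000e1e0200102f05000f0105000894020008940100000a000002d2040006f405000aa80300014c0500014c0200014c00000f7702001251040012510000000602000259000007b5000002e002000fbb05000fbb00000c0f05000c0f00000a2605000a26010008990400053d0500053d020003aa050006fb050006fb040009b2040009b2000011700500117001000834000000c9030003c200000f5f030009e105000b760000037904000fad02000fad000003db040003db030002c0050002c0030011fd010010e6000002a4020004220100041d0100041d00000f6905000f6904000f6903000d0904000d090200021b04000d6a03000d6a02000d6a01000d6a000011a7020011a70100120305001203030012030000103203001032020010320000021b0100073e0300073e000004c4050010ce05000ca602000ad7030003dd040003dd020002bb05000677040003bb0100010d0400010d0300010d010010b4050004f001000dd805000dd801000cbf0000043a0100072202000d2c03000d2c02000e77000011d7040002d7000001b2020001b2000000880500085a0300085a0200074300000ff004000ff001000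fde020007e1020007e1010010d7040010d700000e1105000e1103000e1102000e1101000220040006cf000001870400018702001376000010ec00000ab801000532050005320400053203000ef30400058900000d98020012a5020005e1000003e0010003e000001061040005a90000086f03000e9502000e9501000e95000011cb000000ad00000a7200000737050007370200073700000aca04000a6c04000a6c02000d3402000d34000002ad050002ad02000ddc04000ddc02000ddc00000d8e05000d8e03000d8e020009bf0300019105000191010003bf0100108a0300108a0200111e00000699040000e905000e1a03000aa503000aa502000a2903000a2902000a2901000b840000090104000f150000018a010002ef0500121903000e2104000e4a020008010200080100000e4a01000e4a000002dc050002dc04000be6010010a9030008260500055d040004b60100017900000f3b03000641030011dd020011dd010011dd0000114a0400114a020005c7050005c70400062d0400017505000175040001750300131d0400131d010005260400052d0500039c0100094d020008d1030008d1020011dc040011dc0300049b0500049b000011dc020010ae050010ae040010ae00000a44020010ba010011620500108702000090050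000900200131804001318020011a0040003dc050003dc020008100500081004000ba4020012fa0200041e05000f9a01000c28040005d7030003280100032800000bdf04000bdf000012db01000f9102000f9100000e7a04000acc04000e7a010011730200041700000e9f03000e9f010009b10300028e04000d020100119e050009c302000f7e03000f7e02000f7e010003b702000375050003750300037501000fd904000fd903000fd902000fd90100133a0200044e0300044e01000f7305000f7304000f7301000f73000001b600000849010007b1040011500300115002001150010009e0050009e0020012ad05000f4705000f4703000f4702000f4701000f4700000f0c04000f0c010004820500048202000c8e01000c8e00000db4020007790500077902000779000006bd050006bd040006bd020006bd000010f5050006ec030007b4050007b4040007b4030007b4020007b4000010f501000b9105000b910000005b000013a0000001010500010102000101000011310000032303000502050005020400050203000b8b030004950500049503000495010004d1010004d100000b5003000b5002000b5001000ab504000ab503000ab5020009d1000008880100065b0400065b010007ff040007ff020006ab01000c1502000f780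5000f780000131f0400131f0300131f02000a9104000aba03000aba02000f6304000f6300000aa604000aa603000aa6020009f2050009f2010003370300033701000337000000bd040007de02000a2105000a2100000de801000c5e04000c5e03000c5e02000427000008d40500045a0000100b0400100b0300100b0200100b000008f101000599010010f0040010f0020010f0000003980200039800000034040000340100084a010006f90500090d0200090d01000068030000680200006800000ada030003bc040003bc030003bc020003bc01000ada000002070500101f0400101f0100034705000347000007d70400112903001129020009ad00000db805000db800000e0901000f930400061a0500011f05000547050005470400011f0200058f0400100f02000bf1000004210400042100000c7a05000c7a030003cf02000b6c000006b3010010fe0300034c0300034c01000e9103000bbf02000bbf0000092f05000824030003060400042f0400042f01000404050004040000099e0100099e00000015050000150000033300000edb01000e3a050002c5050002c502000020020008c0050008c0020009a30000016504000165030008ac020008ac00000bf305000bf304000e7d03000e7d02000e7d01000e7d000003cc050003c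c030001d1040001d1020001d100000140050001400300014002000140000012a9020012a901000828030008280200082801000828000011a400001134000003a40200046302000be405000be4020005100300051002000510010002d5020008920300089202000f89040004f10200100102000bbe03000912040009120300091202000912010009120000041501000e9401000abb05000abb0200047e0500047e02000c190300062c0500062c0300078c0500078c00000614000009ab050009ab03000a2d02000ef103000ef102000ef1010003690300117f03000b8c000008fb050007180500032b0200007304000b2305000b230000036801000be204000be203000f4404000f4403000f4400000be202000be201000bcf05000bcf04000bcf03000bcf02000bcf00000e10010005f20500021601000fb702000fb7000009d6010002fe040002fe020002fe000011f0050011f0020011f0000007630400065405000654020005fe020011510400123305001233020012330100008d0100008d00000a4d0100068403000684020001240100012400000f43040001ba030001ba020001ba010001ba00000f4302000f4300000143030001430100016805000168000006dd0000072c030007d2010009d5050009d5030007d20000015a05000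15a0400015a0300015a0200134500000c90050004ea050004ea040004ea030004ea020004ea010004ea00000c900200060e03000cee05000c6f0000077205000772010004e7050004e7040001b301000fd701000fd70000028901000c2105000c2102000c2100000fc902000734000005280200074b030005280000137e0200137e0100137e000012b804000c1d040006ae010005d5050003d2010003d200000e3203000e3202000f1900000b5a05000b5a0000067103000671020006710100073001000d3105000d3101000e2205000e2203000e2200000dca04000c9e03000c9e010003c9010002b803000da702000da70000025c0400025c0300025c00000d2603000996050009960100086e0300095d0400095d0200086e0200086e010009ec020002f9040002f9030002f901001387050012c10400125f000009d0030009d002000100030001000200010001000e810500002603000026020012d3030012d3010012d300000f3405000f34000007e201000b9c0200010902000c6702000237030010b0030010b0010005b9020005b9000010fc010010fc00000b890500053505000b89000010a400000fa705000fa703000fa7000012b2030012b2010000b8010012ab040012ab030012ab010010340100108105000da205000da2040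00da202000da200001081020010b705000a5b05000a5b00000d8001000d800000009500001148030011480100026a050006d20400026a0200026a0100126d0100011505000115000010ef01000f2d04000f2d03000f2d02000f2d01000f2d0000070002000999040009990200099900000d9c05000d9c02000d9c0000107b0500107b0400107b02000863040008630300086301000863000010e20500009805000098040009800500044a030013080400130d0500130d0300130d0100130d00001308020013080100035004000350000004510000138a0400138a010011c801000676040011050400110503001105020011280200112800000dcc02000dcc00000ea70200015b0500037e0500037e0000015b0400015b00000aae04000aae03000aae020012910400129102001291000008b7050008b7000011c5030011c50200035302000a5204000a5203000a5201001175030003740100082a0100034a0400034a030003a502000c3c03000c3c01000f3a05000f3a02000270050002700300027002000d8a000006b5050006b5010004d6050004d6040004d6020009c7030009c70200009905000099040000990300009902000dda03000dda020008a4040008a4030008a4020008a400000264040002640300026401000dda00000a660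2000987050009870000020b0500020b000004c1010007f501000862020008620000034f0400034f0100034f000008b8050008e6050008e60100000d0400000d0300000d020010280000078a010010c20500043b020006e2050006e20200061703000a6401000a640000016d00000927000001080500010800001062050000040100105000000775010007040400070400000f6b05000f6b01000f6b000007a4030007a40000110402000b7805000b7802000a3505000a3503000a3502000a3501000a35000002c30500005f02000975030009750000067202000d9504000e5205000e5204000e5201000d9503000d95020012720200106e0400106e0000049c0200049c0000081201000cf10400059f050008fd0400109000000751010007510000049805000498020006030500060302000bc505000bc504000bc503000bc502000bc5010006b10300122605000cb201000cb200001226020006b1020000ea040000ea02000c89000000c5040007d1040007d1030007d1000007f7010012570400125703001257000002e1010006c005000f7002000f70000012d60000126b0200126b0000049204000b1b01000b9605000b9600000492010003da040003da00000d9a05000d9a01000d9a00000b82040006db030006db000000b20000015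604000fbf0400104801000fca01000a8d050007bd040001da050001da030001da02000d1605000d1601000de100000c4a04001239030003ba01000618050006180300061801000ce005000d250000082c04000d3805000d380200011e010005e5050005e502000cbe05000cbe010001890400102904001029020012af040012af030012af020012af010012af00000915040007960200079600000c3d05000c3d000000ca0500067503000675020006750100129f04000a1e03000a1e02000a1e000009ac040009ac030009ac020009ac000011090200112d0500112d0200049e0400050003000523050005230300052302000cdd04000cdd03000cdd02000635010006350000070804000fac040008c8050008c800000cfd05000cfd04000cfd02000cfd01000cfd0000111f0200111f000002520500025204000252010002520000108c0300108c0200108c010001d6020001d600000f9502000f950100069f0500069f0400069f0300069f01000437030004370200043701000d9901000d9900000126040001260100083e0500083e0400083e0300083e0200132b020010700500019a04000b6d02001022030010220200038701000a76010004a002000580040005800100058000000ff704000ff7010004a8050004a8030004a802000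bea05000bea04000bea02000fcb05000fcb03000fcb02000fcb000004a801000b8605000b8603000b8602000b860100033102000f6c04000f6c000006320000074e05000c7d04000c7d02000c7d00000d0502000d05000007a7030007a701001071010004cd020004cd000006d00200103c04000d5e05000d5e04000d5e03000d5e020008320400009a050007b3020007b300000b4f05000b4f0000001f05001026010007160400071603000716020011b6040011b6020011b60000125b000012d4050012d4040012d4030012d402000ab401000ab400000fe002000fe001000fe00000133e0400133e0200133e00000bcb05000bcb02000531020005310100023c0500023c0400023c0300135404000d0b0200067b0500067b0400067b020005430300054301000b0a05000b0a03000b0a02000b0a010009d2030009d2020009d20100025401000d5c050005ac050005ac040005ac01000d5c000002f60000043e0300043e02000185010008710100066604000666030006660200087100000f7b05000f7b04000fd203000fd202000fd201000fd200000d3205000d32000010f6050010f600000b2005000b2004000b2002001224000007bc010010910300109100000e8504000e850000036000000ea204000ea203000ea202000fbe050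010b5020010b50000002405000024000010130200128e050002050200128e000004da04000e7804000278040012ec00000715050007150300071502000715010010f3000007c5050007c5020007c5000001c1000007a0050004ef0400079505000795020007950000120704001207000001bf020001bf0100038c0500038c00000fa402000fa40000047a050008550500085504000855030000370400003703000037020002cd050002cd040002cd02000fc205000fc203000fc202000fc201000fc20000100204001002010010020000079405000794040007940000071c0300071c0200071c01001392050013920400071c00000180050001800300018002000bcd05000bcd000002ce050002ce030002ce020002ce01000c720000035a0500035a0300035a0200035a0100015e0500015e0300015e0200015e010005770300125203001252010012520000068d0500068d0200068d000002d9040002d9030002d90200058d000007ca050007ca040007ca010007ca00000cd604000cd60000095f0500095f0200095f0000138d0500138d0400138d0300138d00000cfb05000cfb010000fd0300021e0500021e0300021e0200021e0100021e000001c5040001e9050001e90100104300000c6403000c6402000e840000047c0400047c0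100139b0500139b0000095604000956010010c40400099d0500099d0400099d0300099d0200099d00000a130100047404000474020011f401000c0005000c0002000c0001000bec04000bec01000c0000000a7104000c4905000c4904000c4903000c490200065d0400065d01000c7f04000c7f02000b8303000b8302000b830100017b0200017b00000aad050003be00000b0f05000b0f04000b0f03000b0f02000b0f01000b0f00001181050011810200118101000e4104000e4103000e4100000d6805000d6801000d6800001012020010120000095e0400095e0200095e01000e8d03000e8d02000e8d01000e8d00000b7c04000c2d02000c2d01000c2d000001d7040001d70000135f0200135f0100039f0400039f01000689040006890000104e02000ccc04000ccc03000ccc020012be030012be020012be01000186050001860400018602000186000012880500128802001288000005870400058703000587020001a6050001a60400120d0300120d0200120d010001a6000001200400029b0500029b0200029b0000046a04000e8c00001055030010550200105501000f9b04000f9b0000130c000007f2040007f201000910040009100200091001000910000007bf050007bf0000092c0200092c00000371050003710400037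1010005fa030006cb03001361000012b9050012b9020003d0050003d0040003d00000057b0300070a0400070a0300070a0100070a00000be9050006cb020006cb010005fa020005fa01000536010007610000119c0100119c00000f8005000f8002000f8000000868010005cd05000b9904000b9903000b9900000daf010012000500120002000fb105000fb102000c7b05000c7b0300002b0500002b0400002b0300002b0100002b00000c7b020011b4050011b40300057c050011b40000129a040004c8050004c8040004c8010011ce04000f6200000dd305000dd304000e8e01000e8e00000dd303000dd300000ba602000ab205000ab201000def03000def01000457050004570300045702000c8004000c0503000c050200134c0400134c0300134c0200134c00000ab005000ab003000ab001000b6e0300008c0500008c0400008c0200008c00000b6e02000b6e01000949040009490300094900000e3505000e3502000e3501000e35000013900500139004001390000013880200138800000bc1020010e7040001d4050001d4040001d4030001d40200076e0500076e0300076e0100076e0000004e0400004e0300004e0200004e0100004e0000040205000402030004020100040200000b4104000b4103000b4102000b4100000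35e0400035e0300013c0500013c0400013c0300013c0200013c0100035e000004ac00000f2205000f22010008ec050008ec0100103a0500103a0400103a0300103a0200103a0100116a0500116a01000b3d04000b3d03000b3d02000b3d0100102a0400102a0300102a01000201050007e70500087e0500087e0300087e0200087e010007e7040007e7030007e702000263000012490400124903001249010012490000132505001325020013250100132500000a4305000a43040002820500028202000a320500108d0500108d0400108d0200108d0000093705000fee0400054b0500054b0400054b0300054b0200054b01000937000009180400091802000918000011cc050011cc020011cc0000019b04000d4a05000d4a02000d4a00000129040001290300086c0500086c0400086c0100086c0000019b0300019b0100019b00000c6605000c6604000c6603000c66020006cc020006cc010006cc000010110500101103001011020001db050001db030001db000010110100101100000a3204000a3203000a3202000a3201000e0105000e0103000e0102000e0101000465040000b400000eed02000eed01000135050012a7040012a7030012a702000de204000de203000de202000de201000de20000052205000522020005e9010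005e9000013a4050013a404000a5004000a50030000c6050000c601000cdc04000cdc03000cdc02000cdc000006bb020006bb01000db504000db5000009aa0400124b0400124b00000852010006e9050006e9010006e90000097904000979030009790200097900000e9305000e9304000e9303000e93010010cc00000c6305000c6304000c6300000bc403000bc402000bc401000f46020010800200022705000227040002fb030002fb02000c4b05000c4b02000c4b00000883030008830200115601000f7605000f510000023102000750020009510400095103000951010009510000050702000507000004e2020004e20000040b0500040b0200040b0100040b00001085050010850400108502000ce904000ce903000ce902001123040011230300112300000d7105000d7104000d7101000a0c04000a0c03000a0c01000d7100000f5b05000f5b02000f5b000010c9040010c9020010c9000009b6040009b603000fc505000fc502000fc500000fe805000fe804000fe802000fe801000fe80000028402000284000011a3040011a3030011a3020000710000022303000223020005c4020005c4010002230000043802000eeb050011e20500051d0400051d0200051d000008cd050008cd020008cd000004c905000bd203000bd20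1000a5d04000a5d01001126050002e8050002e80400021c05000c5405001189050011890300118902000f9f04000f9f030011f604000f9f02000f9f010012f8040012f8030012f800001189010002550400025501000d7f04000d7f00000973050012ba000001bb050001bb000004670100046700000f8205000f8202000f82010004ab04000df803000f3f04000f3f03000f3f02000f3f000006a9040006a903000ba205000ba204000ba202000ba2010006a90200060f020011980500119804000f2e05000f2e04000f2e03000f2e02000f2e010011630500116304001163030011630200046b0500046b0300046b0200046b0100046b00000aac04000aac01000aac00000cd200001228040012280300122802001228010002b6050002b60100072f0300072f0200072f010005bb050005bb0000077a010007710500077104000771020007710000070d0500070d0400070d030011170200111701001117000004a4020004a401000a5c05000a5c0400063f0400063f0300063f01000723040007230100072300000f4b05000f4b04000f4b03000f4b02000f4b00000238050002380200023801000b6b05000b6b04000b6b01000238000004a3050004a3000008f7000012b104000a8c00000aa9000005cb050005cb040005cb01000ce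605000ce604000ce603000ce602000dbd04000dbd0300032103000321020003210000092505000925030009250200097f0300097f0200097f0100097f000006d505000a2802000a28000003400500034004000340030003400200034000000fc804000fc803000fc802000fc8010002db050002db030002db020002db000006d5040006d5010006d500000dbd02000dbd00000fa202001103050011030400032705000d4b02000d4b0000026d0500026d0400026d0300026d0200026d0100026d00000385020003850000121d0300121d0200121d01000578000013070500130702001307010013070000124f0400124f0100124f00000089020000b6030000b60000008901000e0804000e080100031e0400031e0300031e0200031e0100031e00000d8f04000d8f01000240020002400100024000000c960400015204000152010005d9040005d9030005d9020005d900000f1c01000d0702000d0701000d6104000d6102001353050006c2050006c2040000cf040000cf01000b1701000b9d0100031705000317000002fc050002fc040002fc03000df005000df004000df002000df001000df0000002fc020002fc000012a0040012a0030012a0010012a000000b0305000e65050000140500001402000924020009240100092400001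2fc010012fc000011360000016605000166040001660200016600000cad05000cad04000cad03000297050002970300029701000096020001c40000045205000155050001550100106405000f3305000f3303000f3302000f3301000f33000010640400057a0400057a0300057a0100057a0000010705000107040001070300010701001064020012110500121101001211000002c1040002c10300083105000831040008310300083102000831000002c101000537050005370400053703000537010002c10000083b0300083b0200083b0100083b00000e9c05000e9c0000128705001287040012870300128701000af002000af0000002080400020802000ad604000ad602000ad601000c1004000c1003000c1001000c1000000310050003100200031000000322010008eb01000a2e02000b670300112f0500112f0200112f000006ee040006ee0000111901001119000008090400080901000f2c05000f2c03000f2c02000f2c010009e6040009e60000017e0100017e000008410100047f0400047f0300047f0200047f0000111405000de604000de603000de602000de601000de60000111402000c2a05000c2a0000109b0500109b0400109b0300109b0200109b0100109b00000d7403000d7402000d740100105c0300105c010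004770500047701000477000008a5050008a5020008a500000de904000de903000de902000de901000de9000006d1050006d1030006d1020006d100000a3705000a3703000a3702000a3701000a370000041104000411020004110100041100000c8405000c84000010a7050010a7020010a700000972050009720200097201000fb505000fb502000d3504000d350300114b0200114b00000fb5010004e800000c2005000c200200056705000567010000a3040000a301000a9505000a9503000a9502000102030001020200104402001044000004d9040004d9020004d9000008b0050008b0040008b0030008b0020008b0010008b00000109a0500109a030007f6040007f6030007f6020007f601000d1703000d1702000d170000109a01000bf702000bf700000c270500015904000159010009f30500118c0300118c0200118c0100109d0500109d0000036a0500036a0400036a0300036a020009a0040009a0030009a0020009a00100036a00000c7e000007dc0500072b0500072b0200072b010007dc000012100500121002001210010009000500090004000900030009000200090001000e7905000e7903000e7902000e790100036c040011ba02000b70040010eb040010eb030010eb020010eb000003d3050003d302000cf70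4000197050001970200136c0400136c0000118004001180000011020000074100000c9b04000c9b0100026f00000ef704000ef70000013e0500013e040012c7050012c7020012c7010002e5040002e5010002e5000000aa050000aa0200138f0500138f0200138f0000099402000994000012b7050012b701001362050007eb050007eb030007eb010007eb0000139305001393040013930200139300000aa105000aa102000a4705000848000003d6000011780500117804001178010011f9050011f9000011d4030011d4010011d400000fc605000fc603000fc602000fc601000c570400114e0500114e01000b1a05000b1a04000b1a02000b1a000000be0000081a0400081a0300081a0200059b0500059b0200059b000011a2020011a201000ec105000ec103000ec1020011a20000080e0500080e03000b0904000b09020009dd010009dd00000d9d000010ed010010ed00000ad204000ad202000edc03000edc02000edc010004d8020004d8000008da0000073a0200073a000008f6050008f6040008f6030008f6020006d400000a6905000a6903000a6902000a690100107600000ef402000ef4000004bf040004bf030004bf020013030500107f0500095805000958020009580100107f0300107f0200069a0400069a0300069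a0200069a00000b8005000b8004000b8001000b80000012730100064f0500064f0200064f00000f6f02000f6f000010f1050010f1040010f1030010f1020010f100000b6a05000b6a03000b6a0000067f0400067f0300067f0200067f01000977040009770300097702000977010009770000111a0500111a0000082e0400082e0300082e0200082e0100048c010008d00400032005000320030003200200032001000320000009fd040009fd0100021a0500021a0400021a0300021a00000b3f04000b3f01001348050013480200134801001348000003cd040003cd030003cd020003cd010003cd000001670500016701000167000004e3050004e302000727040000ce010000ce00000a0004000a00010009ed040009ed010009ed0000011405000ab105000ab102000a2205000a2204000a2203000a2202000a22000002ee050002ee000013000500130002001300000003410500034102000341000003a0050003a0040003a0030003a0020003b60500102402001024010003b6040003b6010003b6000007120500071203000367050003670100036700000712020007120100126a0500126a010001630300016302000163010001630000077404000774000000c1050000c1020000c10000133205001332030013320200133201000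569050007dd050007dd040007dd020007dd010007dd00000d8705000d8702000a6805000a6804000a6802000d87000012ee040000bb020000bb010000bb00000569030005690200056901000569000012f9000013130500131304001313010005e6050005e6040005e6030005e602000d9104000cec05000cec02000cec0100080d0500080d0400080d01000edd0200130e0400130e0300130e02000663040006630100066300000d7605000d76020000e3020000e30000057e0400057e0300057e0200057e010002da050002da030002da0200086d0400086d0300086d0200086d010013380500133802001338010013380000028c0500028c0400028c02000db205000db204000db2030011b7050011b7040011b703000db2020008200400082003000820000006bc00000d6c03000d6c02000d6c01000e3805000e3803000e380100096d00000246050002460200024600000be80400087a0500087a0200087a01000c4704000c4700000904050009040100090400000773010009bb040009bb00000a7000000049050000490200004901001160050011600200116000000d2e03000d2e02000d2e0000059703000597020001c7030001c7020001c7010005dc050005dc020005dc0000044b0500044b0200044b0100044b00000303050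0030304000303030003030200030300000a1205000a1202000a120000128204000ed204000ed203000ed202000ed201000ed200000f0605000f0601000f060000138300000ec605000ec601000ec600000e6705000e6703000e6702000e670000006204000062020000620100077c01000f1e05000f1e04000f1f040008e5040008e502000eb301000c0a01000bff05000bff03000bff02000bff01000bff00000d9b03000d9b00001294050012940100129400000a9c0000049d000004af0400064b0500064b0400064b0200064b010001ab040001ab030001ab020001ab0100137402000b5f05000b5f04000b5f0000123c00000b3b04000b3b0000060201000602000003480400034801000cb404000cb403000cb402000cb4000001e8040001e8030001e8020001e80100004a00000624050006240200062400000b4705000b4700000c5505000c5504000c5503000c55010003950400039501000395000008bb050008bb020008bb01000fa605000fa604000acd05000acd04000acd01000b8a05000b8a03000b8a020011f1050011f1040011f1020011f100000a7505000a7504000a7503000a7502000a7500000ba304000ba303000ba302000ba301000ba300000218000002be050002be040002be000012530000112a000011960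4001196030011960200119601000bd105000bd100000d1d04000d1d010009c8010009c8000001ae040001ae010010bc050010bc000008040100080400000bc705000bc700000f4005000f40000010f2030010f2020010f2010010f20000070b0500070b00000ef605000ef603000ef60200098f0500098f0400098f020003a1040003a1030003a1010003a10000126805001268020012680100126800000f7905000f79040009060500090604000e6105000e6104000e6103000e6102001006050010060400100603001006020010060100118405001184010011840000049004000490030004900100049000000556010005560000070f0400070f0200070f00000ce504000ce502000ce5010007ac050007ac040007ac030007ac02000d8303000d8302000d830100019c0500019c0200019c01000e1f04000e1f03000e1f02000e1f000000c0040000c003000b7a05000b7a04000b7a03000b7a02000b7a01000b7a0000116f020002220500022204000ec004000ec002000ec0000003f6040000b7050000b7020000b7010003f6030003f6020011db050011db020002430500024304000243010000400400037605000376020003760100037600000f290400023a0500023a0400023a0200023a0100023a00000f2903000f2902000f2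901000f290000120202001202010004730500047304000b3405000b3404000b340100126305001263040012630300126302000683050006830400085405000854040008540300085402000ce404000ce403000ce402000ce401000ce400000e6f05000445050004450200044500000bf805000bf804000bf802000c3805000c3802000c3801000c380000120c0400120c0200120c000000670500006704000067030000670200006701000067000006aa040006aa030006aa020006aa00000f9604000f9603000f9602000f960100139504001395030013950200139501001395000003420500034204000342030003420200034201000feb05000feb03000feb02000feb01000e6204000e6203000e6202000e6201000e620000117900000d4005000d4004000d4002000d4000000f9405000f9404000f9402000f9401000d1105000d1103000d11000013680400088505000885020008850100088500000e9604000e9603000e9601000e960000088a0500088a0300088a0200088a0100007e0500007e0200007e0000039e0400039e0200039e01000afe05000afe02000afe00000e0a04000e0a03000e0a02000e0a01000e0a000013500500135004001350010004c0050004c0030004c001000eb705000eb703000eb702000eb700001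2840400128403001284020012840100128400000079050000790200007901000079000002830500028304000283000007d4050007d4010007d40000013f0500013f0300013f0200013f00000a7c04000a7c010001180500011804000118030001180200011800000db704000db701000ead05000ead040010af050010af040010af020010af010010af00000ead03000ead02000ead01000db700000784050007840200135e0500135e00000a8205000a8204000a8202000a8201000a82000001480500014804000148030001480100000702000410050004100400041003000410020004100100000700000d0d03000d0d010003960400039602000396000003730200037300000a8004000a8003000a8002000a80010003e7010003e700000633050006330000123504001235030012350200123501000efe05000efe04000efe03000efe02000efe00000cac04000cac03000cac02000cac01000cac0000060605000606020006060100060600000f8805000f8804000f88020013ae050013ae040013ae030013ae020013ae01000f8800000cb005000cb002000cb001000cb0000011ee050011ee040011ee020011ee00000ac505000ac503000ac502000ac50100103b0500103b0400103b0300103b0200103b01000ac5000007c6040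007c6010007c6000003990500039902000399010003990000028f0500028f0400028f0200028f00001092050010920400109203001092010010920000070305000703040007030300070302000703000006c8050006c8040006c8030006c8020006c8010007660400076603000766020007660100076600000f0f05000f0f03000f0f01000f0f00000dfb020008d7050008d7040008d7010008d700000ca200000ba105000ba1040011a804001206050010ee050010ee040010ee030010ee020010ee010010ee0000120602001206000010b3040010b30100132d0500132d0400132d0200132d0100033c0500033c0200033c0100033c00000d8504000d8501000d850000087205000872040008720200087200000a9404000a9401000b6004000b6003000b6002000b6000000f2f020007420500074202000f3905000f3902000f390000009b0500009b0400009b0300009b0200009b0100009b00000c6905000c6903000c6902000c6901000afd04000afd01000d7704000d7703000d7702000d7701000d770000136d0500136d0200136d01000c3e04000c3e000007d6040007d6030007d6010007d600000c6005000c6004000c6003000c6002000c600000012105000121020001210100012100000f3e02000f3e00000698050006980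200069801000df104000df102000c0b05000c0b04000c0b03000c0b02000c0b01000c0b000012450400124503001245020001be030001be020001be000012450100085804000858030008580200085801000858000011a5020011a5010011a50000044904000449000004f5040004f5020004f5010004f500000c9c04000c9c03000c9c02000594030005940200059401000261050002610400026103000261020002610100117e0500117e0100104205001042000010160100101600000df705000df704000df703000df702000df700000dc604000dc603000dc602000dc601000fe305000fe302000fe300000c8604000c8603000c860200103f0500103f0400103f0100064804000250040002500300025001000250000000a0050000a0020000a0010000a000000dc205000dc2040011d2050011d204000bb905000bb904000bb9000003d9050003d9040003d9030003d9010006f5040006f5020006f5010006f500000dc203000dc202000dc20100064802000648010008a0040008a0030008a001000a6d04000a6d0000001302000f5a040000bc050000bc030000bc020000bc000012120100121200000a6004000a6003000a6002000a6001000a6000000e1705000e1704000e1703000e1702000e1701000e170000052a0500052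a0400052a0200052a0100082f0400082f01000759020007590100075900000c2204000ed504000ed50100137d0400137d0300137d0200137d00000164050001640200016400001144050011440400114403001144020011440000093204000932030009f7040009f7030009f7020009f7010009f700000ed405000ed402000ed401000ed40000020905000209040002090200020900001066050010660400106603001066020010ca050010ca040010ca030010ca020010ca01000ee505000ee504000ee503000ee5000010660100106600000932020005ea010005ea0000113f0500113f0400113f0300113f0200113f010006dc040006dc010003810500038102000381000007a5050007a5000002710400027101000b5204000b52020011570500115702001157010012bf050012bf04000eb004000eb0010000f4050000f4040000f4030000f4020000f40000048303000483020004830100058c04000bd905000bd904000bd902000bd901000bd90000058c0300058c0100058c00000d4e05000d4e02000d4e00000c7805000c7804000c7802000c78000001980500019804000198030001980200019801000198000007ec050007ec04000cd805000cd804000cd803000cd802000a4905000a4904000a4903000a4902000a4900000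7ec010007ec00000d2905000d2902000d2901000d29000000da030000da020000da010000da0000123e0500123e0300123e010009d3040009d301001357040013a7040013a7010013a700000eaf05000eaf02000c0c04000c0c010005df040005df01001279050012790200127901001279000010980500109804001098020010980000137f0500137f0400137f0300137f0200137f000004bb040004bb030004bb020004bb010004bb00001276050012760200127600000344050003440200034400000ed305000ed304000ed302000ed3000004c6050004c6040004c6030004c6020004c60100044f040012610500126102001261010012610000026c0500026c0400026c0000103d0500103d0400103d0300103d0200103d00000f6004000f6003000f6002000f60010007d0050007d0020007d0010007d000000ffb05000ffb040005af040005af010004480500044804000448030004480200044800000e3705000e3704000e3703000e3702000e370100066804000668030006680200066801000668000007010200070101000701000002e2050002e2040002e2020002e20000000805000008040000080200000801000008000009c6030009c602000ecc04000ecc03000ecc02000ecc01000c7905000c7902000c7900000171040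00171030001710200017100000054040000540300005402000054000011df050011df040011df030011df020011df010011df000007b2050007b2040007b2030007b2020001cd040001cd030001cd02000f5e05000f5e04000f5e03000f5e02000f5e000007b2010002950500029502000295000008a1040008a1030008a1020008a1010008a1000000230500002304000023010009210500092103000921020009210100103e0500103e0400103e0300103e0200103e0100103e000005d8040005d8030005d8020005d8010005d800000a7f05000a7f02000a7f01000a7f000001f4050001f4040001f4000001f3050001f3040001f300000446050004460400044603000446000004f9050004f9040004f9030004f9020004f901000bc205000bc204000bc203000bc202000bc201000084040000840300008402000084010000840000073f0500073f010000480500004804000048020000480000016f0500016f0400016f0300016f0200016f0100016f0000122e0500122e0400122e0300122e02000ac903000ac902000ac901000ac90000066c0500061005000610040006100300061002000610010006100000066c0200066c0100066c000004b1050004b1040004b100000b8505000b8504000b8503000b8501000b85000005170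500051704000517000012d9050012d9040012d9030012d9020012d90100048f0200048f0100127c0500127c0400127c0200127c00000e4f04000e4f03000e4f02000e4f000007e902000288040002880300028801000288000012a2040012a2030012a20100093804000938010003bd040003bd030003bd010003bd0000108f0200108f00000050040000500100039004000390030003900200039001000a7a04000a7a00000d3e05000d3e02000d3e01000d3e0000110e0400110e0000077f0500077f04000e8f04000e8f03000e8f02000e8f01000e8f000008f4050008f4020008f400001359050013590200135900001264050012640400126403001264020012640100126400000c4c05000c4c04000c4c03000c4c02000c4c010009ea040009ea030009ea020009ea010009ea00000a3105000a3102000a3101000a3100000968050009680400096802000a2004000a2002000a2001000a200000064c0500064c0400064c0300064c0200064c000010210500102104001021030010210200046405000464020004640000037a0400037a0300037a0200037a0100133c0500133c0200133c0100133c000010570500105704001057000005cf050005cf040005cf030005cf020005cf0000046f0500046f0400046f0300046f0200046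f01001035050010350400103503001035010010350000077f0200077f0100077f0000112c0500112c0400112c0300112c0200112c0000101d0400101d0300101d0200101d010008ea050008ea040008ea030008ea020008ea0100101d00001164050011640000100305001003030010030200100301000ca700000d3005000d3000000b2404000b24010002b5050002b5040002b5020002b5010007280100072800000aa301000aa300000174050001740400017402000174000006b0020005fb050005fb020005fb00000beb03000beb02000beb00001337050013370300133702001337010008f8040008f8020008f801000eae05000eae01000cc605000cc604000cc602000cc60000117a0500117a0400117a0300117a0200117a0100117a00000bb005000bb004000bb003000bb002000bb000000625050006250100062500000616050006160400061603000616020006160100028b0100028b0000103002001030010010300000008005000080040000800000116d0000057d0400057d0300057d000001df040001df030001df020001df010002bc050002bc040002bc020002bc00000630020000920100009200000e6e05000e6e000004ce010004ce00000ef205000ef204000ef203000ef202000ef201000ac005000ac000000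af304000af303000af3000003c7050003c700000e8905000e8904000e8903000e8902000e89010000ff050000ff040000ff030000ff020000ff010011d1050011d1030011d1020011d1010011d10000129c0400129c0300129c0200129c000000eb0200135a0500135a040011a1050011a1040011a1030011a1020011a1010011a10000028d0400028d0300028d0200028d00000ffa01000ffa00000a8105000a8104000a8100000046040000460100078f0200078f000008cb030008cb020008cb00000a5905000a5901000a590000091105000911040009110300091102000911010006550400065500000bc805000bc80000081c0500081c0400081c0300081c0200081c010005c6040005c6030005c6020005c6010005c60000068c0500068c0200068c0100055b0500055b040005b5050005b5010003cb050003cb040003cb030013ab050013ab040013ab030013ab020013ab010013ab000003cb020003cb000008700100087000000baf05000baf02000baf01000baf0000119505001195040011950200119500000d8905000d8904000d8903000d8902000d8901000d890000050105000501040005010300050102000501000009650500096504000965030009650200096501000cd404000cd403000cd402000cd401000cd4000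0089b0500089b0400089b0300089b0200089b010003df050003df020003df0000055104000551030005510200055101000bac05000bac02000bac01000bac00000731020007310100073100000142050001420100014200000706050007060200070600000d2f05000d2f04000d2f03000d2f02000d2f0100132f0400093404000934010009340000035905000359000007da050007da040007da01000a3f04000a3f01001015050010150100101500000b3e05000b3e00000b3805000b3804000b38010011c0050011c0040011c0030011c0020011c00000078204000782020007820100078200000a0f05000a0f02000a0f000008d90000137704001377000003f1050003f1020010ff050010ff040010ff030010ff020010ff01000e6904000e6903000e6902000e6901000e6900000d2705000d2702000d2701000d27000006620500066204000e6405000e6404000e6401000dbe05000dbe04000dbe03000dbe02000dbe0000063b0500063b0400063b0300063b000005a6040005a6030005a6020005a60000088f0200088f0100088f0000061905000619040006190200061900000dd705000dd704000dd702000dd701000dd7000004080400040803000408020004080000133503001335020013350100044705000447020004470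000021904000219030002190200021901000219000004580500045804000458030004580200045801000458000008450500084504000845030008450200084501001248050012480000040604000406030004060200040601000406000005210500052104000521010005740500057404000574030005740200057401000d5d02000d5d01000d5d00000cf604000cf603000cf602000cf601000cf6000009840100098400000ade05000ade00001072050010720400107200000d8405000d8403000d8400000b5d05000b5d04000b5d03000b5d02000b5d01000225050002250400022503000225020002250100002a0400002a0300002a0200002a0100002a0000085d0500085d0200085d01000e3c05000e3c04000e3c02000e3c000002340500023404000234030002340200023401000234000007c2050007c2040007c2030007c20200027c0500027c0400027c0200027c01000b8e04000b8e03000b8e02000b8e01000b8e00000ce105000ce102000ce101000ce100000a1b05000a1b02000a1b000006e1050006e1040006e1030006e1020006e1010006e10000085e0500085e0400085e0300085e0200085e0000088c0500088c02000ece05000ece04000ece03000ece02000ece0100088c000012bc040012bc030012bc010012b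c000002a1020002a1010002a10000006f0500006f0400006f0200006f0000070204000702020007020100070200000c5305000c5304000c5303000c5302000c530000061e0400061e0300061e0200061e010009a7050009a7020009a7010009a700000fb404000fb403000fb402000fb401000fb40000124405001244040012440300124402001244010012440000030f0500030f0200030f00000f5d05000f5d04000f5d03000f5d01000b7d05000b7d04000b7d00000a0304000a0303000a0302000a030100073b0500073b0200073b0000105b0500105b0400105b01000e3e05000e3e04000e3e03000e3e02000e3e010007760500077604000776030007760200077601001007050010070200100701001007000012eb050012eb04000d9e05000d9e04000d9e01000a2a05000a2a04000a2a03000a2a02000a2a00000144050001440400014401000710050007100400071003000710020007100000061f0400061f0300061f0200061f0100061f00000c6c04000c6c03000c6c02000c6c01000c6c000007330500073302000733000002040500020402000204000000220500002204000022030000220200002201000022000000f1050000f1040000f1030000f1020000f101000ccb04000ccb02000ccb01000ccb000005cc01000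5cc0000064d0500064d0400064d0200064d000007320500073202000732010007320000094f0400094f000006c7050006c7040006c7030006c70000101a0500101a0400101a0300101a0200101a0100104604001046030010460100104600000d1b05000d1b04000d1b02000d1b01000d1b00000e2405000e2404000e2403000e2402000e24000005db040005db030005db020005db0100056d0400056d0300056d0200056d0100056d00000c8805000c8804000c8803000c8802000c8800000584050005840200058400001242050012420400124203001242020012420100026e0400026e0100026e00000fcc05000fcc02000fcc000001fb050001fb040001fb01000b7f05000b7f04000b7f03000b7f02000b7f01000d5004000d5003000d5002000d5001000d5000001360020013600100136000000e0705000e0702000e0701000e070000001c0500001c0400001c000001fe050001fe040001fe010001fe00000b6805000b6804000b6803000b6802000b680000078305000783040007830300078302000783010011070400110703001107020011070100110700000d9005000d9002000d90000012770500127702001277000009f6050009f6040009f6030009f6020009f6010009f600000a2405000a2404000a2403000a24020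00a2401000554040005540300055402000554010005540000114905001149020011490100114900000c0605000c0604000c0602000c0600001084050010840400108403001084020010840100108400000203050002030400020303000203020002030000038e0400038e0300038e0200038e0100038e00000a5705000a5702000a5701000a57000001e7050001e7040001e7020001e7000001ea050001ea040001ea030001ea020001ea010001ea00000ffe05000ffe04000ffe03000ffe02000ffe0000092a0500092a0400092a0300092a0200092a01000000050000000400000003000000020000000100000000)) = true := by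
  decide +kernel

def lW1 : List (List ℕ) := [[nat_lit 4, nat_lit 7, nat_lit 10, nat_lit 4], [nat_lit 2, nat_lit 7, nat_lit 8, nat_lit 2, nat_lit 7], [nat_lit 4, nat_lit 2, nat_lit 3, nat_lit 6, nat_lit 7]]

theorem l1 : lvlChk img 5040 38 [0] (2871, lW1, unp 219 (nat_lit 0x136700000b8e0000108401000e0e010012f302000ba1000012bf0000121502000d9a010012dd00000f690000113702000e5600000dc5000012d301000bdc000010c6000011ea0100122f00000d6d00000beb01000fb301000b38000011a800000b3d01000b3d0000134f0000109c0100137000000ceb000010f2010011a6000012f200000f8501000c4200000c6c00000d1101000eed00000f0500000ff9010012ac00000fb3000012ba02000b4a000012ba00000fc802000cdc0000113a000010780200114d00000cfd000012e6010012e600000d8b00000edd01000c47000011c000000f2b01000edd000010680000117a020010f600000bea00000d0402000ee30000117a000011650200132e00000d9a00001318020012ab00000e0e0000138a020011a00000108100000dfc02000dab00000dea0000124302000c530000104400000c3d01000fc4000012430000133702000c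3d0000133700000e8202000b5d00000e8200000ca301000ca3000012f300000e3301001378000012b300000d2a020010230000103300000d2a01000eec00000e3300000b69020011ea00000dfc00000b6901000b690000107800000e7802000e8d0000118a000013a802000f0100000b8d00000d640100113700000f8e000012de02000dd700000b6800000b4b02000beb00000b4b000012de01000d1a0000124c00000c06020013a800000fd500000de60100114800000bd3000010d601000bcc00000f4a00000d4a0200133d000010980000117602000bdd00000f7900001176010012d80000108000000f1702000fe40000134700000f1701000fc8000012b500000d4a01000cf200000f3e00000d0b0200123f00000e6f00000d0b0100107400000d4f00000f80020010f90000101700000d6902000d71000013a400000f8302000c5700000c0600000f8301000f8300000dba00000d6901001335000012590000102b02000d690000102b00000f80010012e9000011650000128502001285000012bd000013060200108400000e780000128d02000db20000128d0000130601000b9c0000130000000fa202000d1100000ff9000011ff0200137a000011ff00000fa201000e42000012780000136202001306000010e100000c7201000c72000011d40000136201000d4a000013a9000011e10100122900000fa200000b370200136200000df800000b3701000e9d00000b3700))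 = true := by
  decide +kernel

def lW2 : List (List ℕ) := [[nat_lit 4, nat_lit 10, nat_lit 8, nat_lit 7, nat_lit 5, nat_lit 8, nat_lit 10, nat_lit 3]]

theorem l2 : lvlChk img 5040 38 [2871,0] (4212, lW2, unp 1 (nat_lit 0x107400)) = true := by
  decide +kernel

def lW3 : List (List ℕ) := [[nat_lit 6, nat_lit 8, nat_lit 2, nat_lit 5, nat_lit 4, nat_lit 2, nat_lit 8, nat_lit 6], [nat_lit 3, nat_lit 5, nat_lit 6, nat_lit 10, nat_lit 8, nat_lit 1, nat_lit 5, nat_lit 1, nat_lit 7]]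

theorem l3 : lvlChk img 5040 38 [4212,2871,0] (7, lW3, unp 5 (nat_lit 0xdc2000010a401000b41000000070100000700)) = true := by
  decide +kernel

def lW4 : List (List ℕ) := [[nat_lit 1, nat_lit 2, nat_lit 1, nat_lit 7, nat_lit 5, nat_lit 8, nat_lit 3, nat_lit 6, nat_lit 8, nat_lit 4, nat_lit 8]]

theorem l4 : lvlChk img 5040 38 [7,4212,2871,0] (1, lW4, unp 2 (nat_lit 0x6ce0000000100)) = true := by
  decide +kernel

def bs : List ℕ := [1,7,4212,2871,0]

theorem lb : LBn φ (gen ev X) 5040 bs 39916800 := LBn.cast ((((((LBn.nil φ _ 5040).stepU hφ (mem_of_letChk (Ws := X) (by decide +kernel)) l0).stepU hφ (mem_of_letChk (Ws := X) (by decide +kernel)) l1).stepU hφ (mem_of_letChk (Ws := X) (by decide +kernel)) l2).stepU hφ (mem_of_letChk (Ws := X) (by decide +kernel)) l3).stepU hφ (mem_of_letChk (Ws := X) (by decide +kernel)) l4) (by decide +kernel)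

theorem hX : gen ev X = ⊤ := Subgroup.eq_top_of_le_card _ (ub.top.2.trans lb.1.le_card)

theorem main : Nat.card Grp = 39916800 ∧ fixS φ bs = ⊥ ∧ Oracle ev img 38 bs :=
  (hX ▸ lb).oracle hφ ub.top.2

theorem ora : Oracle ev img 38 bs := main.2.2

theorem hev : Good ev inv :=
  ora.good rfl (fun l hl => by
    rw [ev, evS, List.getD_eq_default _ _ hl]; rfl) (by decide +kernel)

theorem hlt (g : Grp) : ∀ p, p < 11 → (φA g)⁻¹ p < 11 :=
  gen_preserves (φ := φA) (ev := ev) (S := Set.Iio 11) (Set.finite_Iio 11) (Ws := X)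
    (fun w hw p hp => by
      have := hφA.trF (List.all_eq_true.mp (show X.all (inR 38) = true by decide +kernel) w hw) hp
      rw [this.1]; exact this.2) g (hX ▸ Subgroup.mem_top g)

theorem ev17 : ev 17 = ev0 17 := evL_singleton _ _

theorem cen : ev 17 ∈ Subgroup.center Grp := ev17 ▸ cen0

def aW0 : List (List ℕ) := [[nat_lit 1], [nat_lit 2], [nat_lit 8]]

theorem a0 : lvlChk A.img 11 38 [] (8, aW0, unp 10 (nat_lit 0x601000004020000040000000502000005010000070000000201000000010000000000000802)) = true := by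
  decide +kernel

def aW1 : List (List ℕ) := [[nat_lit 1], [nat_lit 2], [nat_lit 8, nat_lit 3, nat_lit 1, nat_lit 8]]

theorem a1 : lvlChk A.img 11 38 [8] (9, aW1, unp 9 (nat_lit 0x1020000020000000500000004010000030100000600000001010000030000000902)) = true := by
  decide +kernel

def aW2 : List (List ℕ) := [[nat_lit 1], [nat_lit 2], [nat_lit 8, nat_lit 6, nat_lit 4, nat_lit 8]]

theorem a2 : lvlChk A.img 11 38 [9,8] (10, aW2, unp 8 (nat_lit 0x50000000301000002000000040100000600000001010000010000000a02)) = true := by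
  decide +kernel

def aW3 : List (List ℕ) := [[nat_lit 1], [nat_lit 2]]

theorem a3 : lvlChk A.img 11 38 [10,9,8] (0, aW3, unp 7 (nat_lit 0x601000005010000040000000700000002010000000100000000)) = true := by
  decide +kernel

def aW4 : List (List ℕ) := [[nat_lit 3, nat_lit 1], [nat_lit 6, nat_lit 1], [nat_lit 7, nat_lit 1]]

theorem a4 : lvlChk A.img 11 38 [0,10,9,8] (1, aW4, unp 6 (nat_lit 0x4000000060200000702000007000000010200000101)) = true := by
  decide +kernel

def aW5 : List (List ℕ) := [[nat_lit 3, nat_lit 1], [nat_lit 1, nat_lit 2, nat_lit 3]]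

theorem a5 : lvlChk A.img 11 38 [1,0,10,9,8] (2, aW5, unp 5 (nat_lit 0x50000000700000002010000060000000200)) = true := by
  decide +kernel

def aW6 : List (List ℕ) := [[nat_lit 3, nat_lit 2, nat_lit 4, nat_lit 1], [nat_lit 7, nat_lit 6, nat_lit 1, nat_lit 7]]

theorem a6 : lvlChk A.img 11 38 [2,1,0,10,9,8] (3, aW6, unp 4 (nat_lit 0x600000004010000050000000301)) = true := by
  decide +kernel

def aW7 : List (List ℕ) := [[nat_lit 3, nat_lit 2, nat_lit 4, nat_lit 1], [nat_lit 2, nat_lit 1, nat_lit 2, nat_lit 5, nat_lit 3]]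

theorem a7 : lvlChk A.img 11 38 [3,2,1,0,10,9,8] (4, aW7, unp 3 (nat_lit 0x6000000040100000400)) = true := by
  decide +kernel

def aW8 : List (List ℕ) := [[nat_lit 2, nat_lit 3, nat_lit 6, nat_lit 3, nat_lit 7, nat_lit 1, nat_lit 5]]

theorem a8 : lvlChk A.img 11 38 [4,3,2,1,0,10,9,8] (5, aW8, unp 2 (nat_lit 0x60000000500)) = true := by
  decide +kernel

theorem fix3 : UB (fixS φA [10, 9, 8]) 40320 :=
  ub_of_lb (hX ▸ LBn.cast ((((LBn.nil φA _ 11).stepU hφA (mem_of_letChk (Ws := X) (by decide +kernel)) a0).stepU hφA (mem_of_letChk (Ws := X) (by decide +kernel)) a1).stepU hφA (mem_of_letChk (Ws := X) (by decide +kernel)) a2) (N' := 990) (by decide +kernel)) (by norm_num) ub.top.2 le_rfl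

theorem fix9 : UB (fixS φA [5,4,3,2,1,0,10,9,8]) 2 :=
  ub_of_lb (hX ▸ LBn.cast ((((((((((LBn.nil φA _ 11).stepU hφA (mem_of_letChk (Ws := X) (by decide +kernel)) a0).stepU hφA (mem_of_letChk (Ws := X) (by decide +kernel)) a1).stepU hφA (mem_of_letChk (Ws := X) (by decide +kernel)) a2).stepU hφA (mem_of_letChk (Ws := X) (by decide +kernel)) a3).stepU hφA (mem_of_letChk (Ws := X) (by decide +kernel)) a4).stepU hφA (mem_of_letChk (Ws := X) (by decide +kernel)) a5).stepU hφA (mem_of_letChk (Ws := X) (by decide +kernel)) a6).stepU hφA (mem_of_letChk (Ws := X) (by decide +kernel)) a7).stepU hφA (mem_of_letChk (Ws := X) (by decide +kernel)) a8) (N' := 19958400) (by decide +kernel)) (by norm_num) ub.top.2 le_rfl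

def cW0 : List (List ℕ) := [[nat_lit 1], [nat_lit 2], [nat_lit 3], [nat_lit 5], [nat_lit 6], [nat_lit 7]]

theorem c0 : lvlChk img 5040 38 [] (0, cW0, unp 5039 (nat_lit 0x139c01000444050012d403000827020004610100046100000379040004fc000009c0010006400500091a0000094e01000de6020001d60000128802000acc03000acc020003080300044005000c35020003db01000e3f020002c101000e8e05000e8e02000d49020010e7040001bb050002d40200028f0400012d0300012d0200087503000dda020007f503000cd304000b6b01001321000009e2020005f50000016605000006010008db040000580200074401001139040004370000067804000a3204000a32010012f80000045601000bd60100135104000d17000005fa0300076e0200139804000f88040010e3010009b3050010fa04000792010008940100070d0100083405000b4e03000d7404001043000012660100020b00000d0c00000cff03000cff02000f5c050004f00000131c0400093a0400093a01000bcb0200091e010009ae0400089a0400089a0100039302000ba501000a2f04000a2f02000a2f00001020020006d60500034f00000dfe02000dfe00000a0704000b720100137a0200110401000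bd404001304040000db04000e1503000c7705001199010010da03000de904000de901000a08010002b205000c8e0500131802000d4200000f77050005e20500056c0500056c0400035b02000d790400051902000e00020010f0020003f402000f43020000050300000502000f0c04000ec3020005f6000002c80400116105000c94040008b40200133d03000baf010009f2010012ce0100024f05000f6d05000669010006690000107a0400107a010007c8010007c800000e2a0100128b020005c0010008a402000d450200057b00000e83020003c404001212000001a901000f1301000ef00400096c03000012010000120000054901001031040010310100104f0100012e0300012e0200060105000469040000de030000de02000cce010008490400084903000592050011f6020000c2040000c2030000c202000312000005ab05000d52050012a904000f8704000d200500056804000f1601000f1a04000f1a02000e7504000e7501000611040001b4010001090300010902000e0d0200076500000f7a0000117b0500117b0300117b00000c4c000004ab05000a09000006bf040006bf030006bf020001d2050001d2020001680200016800000572050005720000054c00000fe203000bee01000f8005000f800000033f00000ceb010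0103b01000c410400125b03000075050000750100083b0100006204000c7a0200085102000925030002fd050002fd03000ff000000b410100011100000b7905001086050010860200024b0000007204000072020010040100100400000a510000127b020001b101000397010009cb01000bcd0000062a000009e6000002ff030010a304000430050010e105001137000006b802000bce03000bce02000ec800000bab020009d70000037f0100118d0200118d0100091c0000078800000b65000005f0000009130300057105000571010010d10100120d01000424050004240200042c0500042c01000737050007d1050003c1000004a0050004a00200076a0300076a00000e4c02000e4c00000028020012860500128601000c16020000660200080305000ddc03000ddc020006e8050002df040002df000012470500124703001247000010a5020004cf010009c2000006ca000013430300134302000cf205000cf201000cba010007bd04000d160000105701000493010007ee010005ce010012b500000801020011fa0200027b0100027b00000f8d010001a501000e4b05000e4b02001204020002dd040003ea030003ea02000cd601000cd60000086d040006390400003c02000a4e03000a4e01000d550000006a0400025f04000d630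20003d102000fa50100002f05000d3805000bf9010009b600000ec004000ec002000b6e02000d3e05000766040000f90400067e05000526040009610100012605000126040002ca02001316020012f0040011eb030011eb02000810040008100300081001000810000004b700000926040009260200092601000926000012f300000f8a0000087d0400087d0000034504000aba03000aba010000e3020005e8040005e802000fbd05000fbd02000afa000005a10200038a020005b301000d3b00000e0f04000e6c01000d7602000f580200061c0500131005000ee5040009ba01001365000005830500063d010006e705000ab00100125704000bc90100059302000e6b0200053900000bfb0100112f00000f7e0200119e0000041b0500094b02000e310400088e040010f9000006da04000f920500117001001170000009c9030009c9010001f7000000ef00000e3d000001ee050001ee0300019905000f3003000f3002001133030005b7050005b700000fed03000fed020007fd0000033a050002c3050012b0020010e6030010e600000b28010006610200129703001093050010930300109302000588000010ac020010ac000002c201000c020000066605000666030006660200092d01000e7605000e7604000e7601001168010009b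e050009be00000985000010f80200047404000474020004740100129b0500129b02000cdf05000cdf0100002c040008bf0100132e0300132e0200132e00000a5a02000cc005000cc0020009c3000006e1050006e1010006dd040012f605000c4502000c45000001610100106f0500106f0200106f01000c4d01000fcb05000fcb02000fcb010010cd040010cd00000f71040010360100071b0100072c010003dc05000429050001f20500039a000006aa040006aa030006aa0200031500000ce804000e7d03000e7d02000e7d01000e7d000001d1020002990100029900000ffc000004f3010002600400026000000c3201000c320000106d04000f20050009fa030009fa020009300400043e010005eb04000ba0000000b9040000b9010000b9000008aa020000d601000f9d04000f9d0300027804000eb201000f31010011d802000e36020012de01000b430100096901000e30040001cb050001cb02000d640400111701000dae05000c52020001170500099b000003630400036303000ddb02000ddb00000bd904000a3d050010410200063e0500063e0400063e0200086f02000e3903000e3902000cc20200110902000501040005010300050102000d1805000623050000860500112902001129010011290000067f01000f6b01000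f6b00000c6602000c6600000dd904000dd9010008f0020004ea0400024c030003ad000003eb00000c1404000c1400000ec4000004db0000015c01000d6f05001059020004d3050001e400000d4f0000046b0500046b000005640500056404000200000010ea0400010605000106040012cf00000a6104000a740200058700000b0b04000b0b03000b0b010010330500106c0400074b050011cf050011cf030011cf02000262020013a6040013a60000080604000806000006d003000c6a05000c6a0000053304000533030005330200053300000c3a04000c3a030006ae030006ae0200047504000475010004750000038c0000052a0400100201000d8200000775040003b7040013170000043204000bd802000bd8000000b0020013920000073404000ba903000ba90000133f04000dc505000dc502000b440100136205001362010010b504000fbb05000fbb03000fbb02000fbb000010880400108803001088010010880000077e0400002901000db7000012a1040008b205000b820100110805000eb7050005a7050005a7010001960100131304000e2b03000fee05000fee03000fee0200077804000778020007780000128e02000cad03000cd8020002da0000068b0200068b000006310200063101000eb40000078d0200112d040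0044c01000bcf05000bcf040008c604001047040010c602000aa1050002720100114c01000db9020009a2010001da020001bd030009b505000c4204000c4203000c4202000ee202000ee201000ee20000013b0300013b0200059905000599000002ba040002ba00000cb5000000b302000ae302000da403000da4020005d204000ba80200106002000b0802001283020009a10200027702000c3b04000c3b000000a001000627050000ed020000ed000000f000000541040005410000102c0400102c00000f14000011480300114802001148000006d2050006d200000f8205000f8204000394000003b5010003b5000009df04000895000011dd010011dd00000673020006730100067300000f660400063c0300063c00001135040000590300099902000999000007af030007af0000065902000abc00000e8604000608040003b8040003b8000000700100007000000383050003e1000010a205000d3904000d51050001a804000d8104000d81020012720300127202000c700500051f05000d26050002b0040002b0020002b0010002b0000010e4020001cd00000de305000de3020001be040001be020001be00000ebf04000cca040009a004000f9c020013ac0400130d0500130d040012cd040010050500083f0400083f010007810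5000781020009e705000e4301000e430000021e0200021e0100021e0000009005000c2c050008a7050008a704000755020011e7010011e700000d1c0400111b0400111b02000d1f04000d1f030003aa050003aa02001320030013200000098f05000e0e03000e0e020000a1030000a10200032e0200032e0100055805000360020012050500062c0300062c02000a2d05000a2d01000633010008c800000cfc0100011d0400011d0200011d000008110400081100000d0605000d0602000ec50100015704000e4d040008d502000656010009b7050009b7030009b702000eb904000b98020007db050007db020007db01000e6a030012ed020012ed00000703040007030200054d000012520400013105000c0d04000c0d000002f8040002f8030002f802000758050009010400090101000c9204000c920200048202000482000012dc050012dc040012dc030008e604000d020000070c0200070c00000bda0100108f01000b900500111d0500111d000010220100133c0100115e0400115e020001730400017300000bec05000bec01000c4801000da50400064a040011460500114602000af504000920040010ad050010ad020007b3020008170200032f0200032f000009d1050009d1020009d100000902030013230300004c0500004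c040000dc050000dc020001b0040001b0030001b00100134204001342030013420200134201000c6805000c680100083505000add05000add04000add000011b1050011b1040011b10300093e0500093e0300093e02000cb905000cb902000a1f05000a1f0400048f0300074a000002cb020003a3010011bc050011bc030011bc010007c903000dff03000dff01000389030003d5000011b7040006eb01000a19040002100200021000000ce205000ce202000f1004000f100100068601000973050004720500047201000647040012f4040012f4010012f4000007050500070502000705000009890500098901000282050009350400043f0400043f00000e7a04000e7a03000e7a02000e7a010000f2030000f2020000f20000049505000495010010b803000e0b01000c910400019d0500019d0400019d0300019d0200019d0000001e0300001e0200001e000010fb050010fb040010fb0200037705000377040003770300037702000f4f05000f4f0100037a01000f9403000f9401000e0105000e01010009da050009da030009da0000131e0100015604001200050012000100008304000a3401000eed01000eed00000082010006a404000b3303000b33020001c001000e1604000e1603000e16020002a205000c7805000c7804000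c7802000d8803000d8802000bd205000bd203000bd2020008690200026d0300026d0200026d01000ebe05000d4b020002840100109f0500109f0100126c0400126c0200126c01000e2605000e2602000e260100089d010001f50400041a0200041a01000c4f02000c4f0000139704000b1403000b1402000b2704000ee604000ee60300011e010012a601000ec1010012b404000e9b050003f90400051d00000ca803000ef5050009b804001182000005a9030005a9020005a9000002670200024504000c400200108b0500108b04000148050001480400014802000d6e04000d6e02000fdd010010380400119a0400119a000008de01000c030100036b0500036b01001228020006ed0100069d0300069d0000003505000dee03000dee02000af902000af9010009ce0000134b0400134b0300134b0200014c0500085302000aec03000aec010010aa02000ecf01000eec05000eec010005dd00000f6805000f680100098b0200098b00000b5904000b59030006d50400004d0100102f020010bf0400075b0400013804000138030001380200050801000a5c0100045900000183010007e5020004b2030004b2020004b2010003d4050003d4020003d4000003f7050003f702000a5802000a580000115a050002650200021703000217020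0111901000d37040008a6010001d7040001d7030001d701000ede000004cd020007640400071603000716020012e705000a200400110f00000044050006f0040006f003000ff6020013af0100081f0200081f0000029a000010480400104801000644040006440300064401000644000013aa0500101e0500101e0400101e00000a9802000a9800001291040012910200129100000257050002570200025700000595040005950300059502000b7e04000b7e03000b7e0200062e0500062e0400048505000485000001d002000df005000ac90200066c0500066c02000b85050008d2050010c5040001eb030001eb0200090d0500090d0200090d01000fd405000fd401000fd40000107f02000b22030012c705000238050002380000060700000983040009830300098302000c6105000c61000006f6050006f6040006f6030006f6010013050100016c0400016c01000d5b05000d5b0100096005000f3204000f3203000f3202000f32000008ba0000122a0300122a0200122a0000031c0000072b0500072b0400072b01000b1901000f9102000f9101000f9100000370050003700400071e0500071e020000e4030000e40200049f02000fc10200039f01000e1e0200012a0500012a0400106e04000a0d0500123504000ce904000ce90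3000ce902000ce900000bdb05000bdb04000bdb03000bdb0100033602000336010004d6050004d6020006b4050006b4020006b40100054f050006800500068002000680000001d50000118901000a6802000738000002760000032a0400032a01000011040000110300001101000011000004a6030004a6020004a6010004a6000008ed050008ed020007d305000338050008cc040009b2040009b20000002e00000d9601000e9d05000e9d03000e9d01000a3302000a3301000a33000009fb0500065205000df505000df5040000fc010000fc0000068e020010db000001ec0000091203000912020009120100001a000008770500087703000ee905000f4d0000121a0500121a01000c3101001190050011900200109a01000a2300000b3c02000b3c010006c3050006c3030006c3020006c301000b9504000b9503000b9502000ce005000ce002000ce0010009e3010001dc040001dc030001dc01000b510500095305001371040009f4050009f4030009f40000009705000097030000970100032c02000f96020006c1050006c1020003490400031f0400031f0300031f0200031f0100031f000006ba010006ba00001209050004030400064304000643030012c6040012c601000afe05000afe02000afe01000e0a03000e0a02000e0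a01000e0a00001350050013500200135e0500135e000008850500088500000e960100088b0400019e0500019e0200053b05000d3c040002c7050002c7040002c7030002c70200029804000298030002980100007e050005d0050007d8010007d800000d1305000d1300000422030004220200042201000ee3040003e704000aa700001130040011300100032001001058040011c6050011c6040011c6030011c6020011c600000d6505000d6500000e5903000e5901000e59000006670500066702000150050001500100137304001373020000740400007403000074020000740100095702000957000004540500045400000fe004000fe00200021203000212020008f9040008f9030008f9020008f9010004b5050004b50100123204000e7c01000c2e05000c2e02000c2e000007a1040007a1030007a102000d1905000d1904000d1901000d19000002560200054e0000009a0500062002000620010006200000084b0400008b0400008b01000fdf050011530400115301000a4b04000a4b03000a4b010005bb0000059e02000e3204000e3203000e3202000e3201000f1905000b5a05000b5a02000b5a00000e1f04000e1f03000e1f020006710300067102000671010004e2050004e2020004e2000008330300083300000cdd05000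cdd04000cdd03000cdd02000cdd000008dc050008dc040008dc020008dc010003e2050003e202000515020005150000058a0500011a0500011a010011c9020011c9010009de040009de030009de020009de000008620500086202000517050005170400089c050004b105000fef03000405040002bf040002bf030002bf01000b0d05000b0d020004bc050004bc02000ac605000ac60400005a0000031b0300031b01000b5003000b500200132900000331010005f800000a7301000b2b01000b2b00000adc04000adc0100089005000890040008900200089000001363050013630000123605001236040012360100083003000830010010b6050010b6020010b601000fc704000ccc04000ccc020002870500028703000287020002870100092b0000074c0000094703000947020003b3050003b3020003b30000122905001229020012290000079e0200079e01000ff803000ff80100075404000a1405000a14000012410400124101000a0205000a0204000a02010009cc050009cc02000ef804000ef8030006220400062202000622010007d4010009280500092804000928010008160500081604000816030008160000127a0400127a010001810500018104000181030001810200023604000236030002360000074e0500074e000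008840500088402000884000004430400044303000443020011b0050011b0030011b002000a1601001090000010550100085c0200085c00000dfa05000a7c040001c200000955030009550100041c010010650400080700000d2401000d24000004d00100114f0300114f020007f2040007f20000077f0500077f0200110e04000ae503000ae5020008b6050001ad040001ad0200137901000daf010005020400050203000502020005020000119405001194040011940300119401000edd020007170500071701000003050000030200000301000d3a020006ff050006ff0100000204000d9f0500137201000d730000063f0200063f0100129504000c9f05000c9f04000c9f03000c9f0100076c000002a8010002a80000080904000809010006ea040006ea030006ea000009030100022605000226010013a902001314050013140400096201000916000011710500102e0500102e0400102e0300102e0200102e0000018e0400018e0300018e02000e8705000e87020010520400055c050009af00000e230400101902000a5605000a560100102d040002cc050002cc040002cc02000a3003000a300200104005001040020003af020003af000012ff00000bef0100041d0400041d0100041d000005450500054502000c5b05000c5b0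2000c5f0000105c0300105c0100022d01000cd404000cd4000001c40100106405001064040010640200109c04000aaf00000cb8000012f700000bf405000bf4010009c7050009c7030009c7020004b8010013ad05001395040013950200130701001307000006a6040006a602000d5e05000d5e04000d5e03000d5e0200018c0300018c0200018c0100018c000011b4050011b4030011b400000a8702000751010007510000127d0000128f0400128f0000009105000091010000910000123b0300123b02000faf02000faf01000aa202000aa200001260000012d1050012d101000f6704000f6703000f6701000f67000004660100010a00000a9905000a9903000a9902000a99010002ed050007fc040007fc01000e0302000e030100060a0400060a010006b2050006b2020006b2010006b200000f4c01000f4c00001186040008430500084303000843020011ac02000e7700000b9c03000b9c02000b9c0100059004000590030005900200059001000ad705000ad7020010090500100904001009020010090000033004000330030003300200033000000033040000330300114302001143010006b6040006b6030006b60100127002001270010012700000113d0500113d0400113d0200113d0000112c0400112c02000d0104000d0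103000d0102000d01000000fb050000fb010001de040001de02000b0701000b07000011840500118401001184000013640400136401000707050007070200070700000ccf03000ccf02000ccf0000119f0500119f01000df805000df802000b09040005ae010012e601000f0905000f98040002aa050002aa01000f6504000f6501000f650000061d02000929050009290000045205000452010012160500121602001216000003e4040003e4030003e4020003e4000005f4020005f4010005f40000023a0500023a04000b7504000b7502000b7501000cc404000cc403000cc4000005ca040005ca030004ed0100124d0500124d020001d9040001d9010001d900000a9604000a9601000d5f05000d5f01000b9205000b92040007a8040007a8030007a801000e5c05000e5c00000137050005a5040005a5010005a500001312050013120200131200000da805000da804000da8030008a8030008a801000712020007120100071200000c0104000c01000007930100007a0400007a0300007a02000ff1030012b6050012b6020012b600000b3203000b320000132b0500132b0300132b0200132b00000a2105000a21000004cb020000c60500003602000c2505000c2504000c2503000c250200048b0400048b0300048b0200048b01000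56905000569020005690000126a0500126a040003fe050003fe04000ac501000ac5000003bb040003bb020003bb0100026b0300026b0200026b01000e8205000e8201000ec600001383000008400400084003000840020008400000097403000974020004b3050004b30000038502000385000001a7050001a7030001a7020001a7010009680300096801000e8d03000e8d020001a605000e8c04000e8c03000e8c02000e8c01000e8c000011f10000020f04000c93010010b4050010ee050010ee010010ee00000dd805000dd803000dd80100007d0500007d00000e0600000bd004000bed02000bed0100043a0100072204000722020007220000005f0300005f000001b2030001b2020001b200000fde02000e7103000e7102000e71010007e1020007e1010010d7040010d7000010c70100098d0500098d0000020804000e1105000e1104000e1103000e1102000e1101000fd205000fd202000fd2010007f7010002200500022004000220020006cf040006cf030006cf020006cf0000022302000136020004600500046002000d700200137604001376010013760000107c0500107c0200107c000010ec020010ec0000017e0400017e01000ab805000ab803000ab80100053205000532040005320300053202000ef3040002d3050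002d30100028600000f1204000f120000058900000d9802000d98010012a5030012a5020005e1050005e1020005e1000003e0020003e0010003e000000d1a030012db040012db030012db01000fc30100134f0300134f0200134f01000e9503000e9502000e9501000e95000011cb050011cb0000082104000821010000ad020000ad000000c5040000c5010011d004000a7202000a7201000a7200000aca040002880400028801000a6c05000a6c04000a6c03000a6c0200006d0400006d0100091d0500091d0400091d0300091d0000100f0200100f0000038b0500038b0200038b000002ad050002ad020002ad00000d8e05000d8e03000d8e02000d8e01000d8e00000c5e04000c5e03000c5e02000a2904000a2903000a2902000a290100018a010002ef050002ef040002ef030002ef020002ef01000814000012190300121902001219010002c4050002c402000390040003900000099700000d7f04000d7f01001255050012550400125501000e2105000e2104000e2102000e21010010c0040010c0010010c000000e4a02000e4a01000e4a0000072a0400072a0100072a000002dc050002dc04000be604000be6010010a9040010a9030010a902000b630200034b0200055d040004b6040004b60100121d0500121d0200121d0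100017905000179040001790200017900000f3b04000f3b0300099c0400099c0300099c0200064105000641030003ca040003ca030003ca020003ca010000ca010000ca00000ad304000ad30000129f0400129f0100129f00000a1e04000a1e03000a1e020008ea04000f0f05000f0f01000990040009900100138c0500138c0000052d0500052d0000039c0400039c0100118b0500118b010001b3050001b3010001b3000002a3010000b1000003a2050010ae050010ae040010ae030010ae020010ae00000a4403000a4402000ed105000ed102000ed1000007ea0500082c0400082c01000939050010ba050010ba0100116205001162020010870500108702001087000011ab040011ab030011ab02000ba40200033e000012fa040012fa020012fa010012fa0000041e0500041e00000dc804000dc801000dc800000f9a01000f9a000011b80500028c04000c2804000c2803000c28010010cf05000dc204000dc201000dc20000048d0400048d020005d70300116700000e9f03000e9f010009b10300028e04000823010002d1030002d1020002d1010001e300000b8305000b8303000b8302000b830100005b0200005b0000025a050001010500010102000101000007f8040007f8020007f800001131050011310000031e0200031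e00000323050003230300032302000b8b03000b8b000004d1010004d10000048a0500106602001066010010210400102103000ed805000ed8010005aa040005aa01000a8e05000a8e0000016e03000450040004500200045000000c5d020000cb04000c8f01000c1502000c1500000f7805000f78000012a2040012a20100131f0400131f0300131f0200131f01000b3605000a9104000f6304000f6301000f6300000aa605000aa604000aa603000aa602000aa6010000bc010000bc0000095a04000de8010006ee040006ee030006ee020006ee000005a4050005a4020004270400042703000427020004270100042700000fa90100027a05000ee104000ee1010008d40500045a0000100b0400100b0300100b0200100b0100100b000002460500045e04000c5902000c9902000c9901000c99000011c8050011c8010011c800000b2305000b2302000b230000036805000368030003680200036801000c2b04000e10040005f2050005f20000021604000216010009d6010009d6000002fe040002fe020002fe000011f0050011f0040011f0030011f0020011f00000065405000654020005fe050005fe020011510400123305001233020012330100008d0500008d0200008d01000a4d04000a4d0100081a0500081a0400081a02000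3cf040003cf030003cf020003cf010003cf00000871020008710100087100000ac704000ac7020006b3050006b3040006b3020006b3010010fe040010fe030010fe020010fe0000084404000844020008440100034c0500034c0300034c01000b5504000b5503000b5502000b5501000fdb05000e9105000e9103000e9102000e910000000700000d0d04000d0d03000d0d00000ece05000ece0200039604000396000011e0040011e0020011e0000004da040004da01000bbf02000bbf00000a2e02000a2e00000a7604000a760100092f0500092f020003060400030602000306010007ec050007ec0100042f0400042f0100099e0100099e000000150500001504000015000003330500033300000edb01000edb00000e3a05000e3a03000e3a010002c5050002c50200002003000020020008c0050008c002000165040001650300016501000165000008ac050008ac020008ac00000bf305000bf304000bf3000003cc050003cc03000140050001400400014003000140020001400000082804000828030008280200082801000828000004570200045701000457000011a4050011a4040011a40000113401001134000003a4040003a4030003a402000463040004630300046302000be405000be402000be40000051004000510030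0051002000510010005100000090c01000e7b010002d5050002d5020002d500000f8904000f8902000f89000011da050011da010004f1050004f102000ab901001001050010010200083905000b4505000b4504000bbe04000bbe030004150400041501000e9401000e9400000abb05000abb0200047e0500047e0300047e0200047e01000c1905000c190300067400000841040008410100036904000369030003690100117f0500117f0300117f0200117f01000b8c05000b8c02000b8c00000f2605000d7703000d7702000d7701000d770000109405001094020010940000047f0500047f0400047f0300047f0200047f0100047f000008fb050008fb040008fb03000684040006840300068402000684010006840000048902000489010004890000134505001345040013450100134500000c9005000c900200060e0500060e0300060e0200060e01000cee05000cee04000cee02000cee000004e400000c6f000001c9040001c90100077205000772010004e7050004e7040004e7020004e700000fd701000fd7000002890500028901000aac04000aac01000aac00000c2105000c2102000c2100000fc905000fc904000fc902000fc90100035c0400035c0300035c0200035c0000025b0200052805000528020005280000137e0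500137e0400137e0300137e0200137e0100137e0000104e0300104e020012b8040012b8030012b8020005d5050005d5020005d501000794050007940400079402000794000003d2050003d2020003d2010003d200000bdd04000bdd03000bdd02000113050001130200011300000f8104000f8103000f8100000d3f0000090f04000730050007300100073000000542040005420300054201000d3105000d3103000d3102000d3101000d3100000c9e04000c9e03000c9e01000c9e0000111a0500111a0100111a00000c81000003c9050003c9010003c90000030b0500030b0400080d0500080d0400080d0300080d0200080d010002b8050002b8040002b8030002b8020002b8010012450400124502001245000001040300010402000f5e02000da705000da702000da70000086e0400086e0300086e0200086e0100086e00000cfe02000cfe00001074040009ec030009ec020002f9040002f9030002f901001387050012c1040012c1010012c10000125f0500125f0200125f00001262050009d0030009d0020009d00100010003000100020001000100010000000e8105000ad40400002603000026020012d3050012d3040012d3030012d3020012d3010012d3000005b9040005b9030005b9020005b9010005b9000010fc020010f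c010010fc00000b8905000b8904000b89000010a4040010a4020010a400000fa705000fa704000fa703000fa7000012b2030012b2020012b2010000b8050000b8010012ab040012ab030012ab010012ab000010340500103402001034010010340000108105001081020010b7050010b7040010b7030010b702000a5b05000a5b00000d8001000d800000004b050003b105000d3d05000d3d04000d3d0000053f0400053f0000026a0500026a0200026a0100026a0000126d0500126d0400126d010001150500011500000f2d04000f2d03000f2d02000f2d01000f2d0000070002000d9c05000d9c02000d9c0000107b0500107b0400107b020007a6030007a602000863040008630300086301000863000010e2050010e2020000980500009804000980050009800400044a0400044a030013080500130804001308030013080200130801001105040011050300110502000ea702000ea70100015b0500015b0400015b0200015b00000618050006180200061801000c4305000c4304000c4303000c4300000aae04000aae03000aae0200077b0500077b0100124b0400124b0200124b0100124b00000f3e05000f3e020008b7050008b7040008b7000011c5040011c5030011c5020011c5010001a0050001a0040001a00100035302000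a5205000a5204000a5203000a5202000a5201000a52000003740400037403000374020003740100082a0200082a0100082a00000e9805000e98040001c50400034a0400034a0300083605000836040003a5050003a5040003a5030003a502000c3c04000c3c03000c3c02000c3c01000c3c00000f3a05000f3a02000e0405000270050002700300027002001224000007bc050007bc030007bc01000fea03000e8504000e8500000ea204000ea203000ea202000e7804000e78010012ec0000071505000715030007150200071501000ab6000010f3000001c1040001c1010001c1000007a0050004ef040004ef010007950500079502000795000003350000018005000180030001800200018001000e6d000002ce050002ce030002ce020002ce01000c72000003c00000035a0500035a0300035a0200035a0100015e0500015e0300015e0200015e01000577030005770200068d0500068d0200068d00000a3705000a3704000a3703000a3702000a37000002d9040002d9030002d90200056e010001e9050001e901000c6403000c6402000e840000047c0400047c0100139b0500139b0200139b000009560500095604000956010010c404000a13010011f4040011f4020011f401000c0005000c0002000c0001000c0000000a71040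00b7c04000b7c01000c4905000c4904000c4903000c4902000c490000065d0400065d01000c7f05000c7f04000c7f0200017b0400017b0300017b0200017b00000aad050003be050003be020003be00000b0f05000b0f04000b0f03000b0f02000b0f01000b0f000011810500118104001181030011810200118101000868010008680000134a00000f3700000bb20300129a04000b97000004c8050004c8040004c8010011ce050011ce040011ce02000f6200000ba6020007b700000ab205000ab203000ab201000def03000def02000def0100101002000c8004000c8000000c0505000c0504000c0503000c0502000c050000134c0400134c0300134c0200134c000004ac00000ac2000012e300000f2205000f220100067d000008ec050008ec040008ec010007fa00000bfa0000116a0500116a01000b3d05000b3d04000b3d03000b3d02000b3d0100102a0400102a0300102a0200102a01000201050002010100127f0500127f040007f4050007f4010007e7050007e7040007e7030007e7020007e70000026300000f5400000b74000007e9000004650400046503000465010000b400000e2d05000e2d04000e2d010001350500013501000de204000de203000de202000de201000de2000005220500052202000522010005110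40005e9050005e9010005e9000013a4050013a4040013a4030013a402000a5005000a5004000a5003000a5001000979040009790300097902000979000011d1020010cc050010cc040010cc020010cc00000c6305000c6304000c6302000c6301000c6300000bc403000bc402000bc401000f460200108003001080020002270500022704000b5c040002fb050002fb040002fb030002fb020002fb010002fb0000088304000883030008830200088300001156050011560100123d0500105a01000512040005120300051202000f7605000f7601000f5104000f5103000f5102000f510000023102000750020009510500095104000951030009510200095101000951000010e5020010e501000cd2000002b6050002b6030002b6020002b60100072f0300072f0200072f0100077a0500077a0200077a01000771050007710400077102000771000004a3050004a3000008f7000012b1040012b1020009d800000a8c04000a8c00000aa9000005cb050005cb040005cb01000ce605000ce604000ce603000ce602000ce601000dbd04000dbd03000dbd02000dbd00000fa2020011030500110304000327050003270100130e0400130e0300130e020005780000124f0400124f0100124f00000089050000890200008901000e0804000e0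801000d8f04000d8f01000240020002400100024000000c960400015204000152010005d9040005d9030005d9020005d900000f1c04000f1c01000d0705000d0702000d0701000d6104000d6103000d6102000d6101000d6100000125050001250100135305001353000006c2050006c2040000cf040000cf010010c805000b1701000b9d04000b9d01000b9d000003170500031702000317000002fc050002fc040002fc030002fc020002fc000012a0040012a0030012a0020012a0010012a000000b0305000b0302000e6505000e6502000e65000013ab050013ab040013ab020013ab0000001405000014020004e800000c2005000c2003000c2002000c2001000567050005670100052e040000a3040000a301000a9505000a9504000a9503000a9502000bf702000bf700000c2705000c2704000c2700000adb00000159040001590300015902000159010009f305000a01040000380000118c0500118c0300118c0200118c0100109d0500109d00000c7e000007dc050007dc040007dc00001210050012100200121001000900050009000400090003000900020009000100036c0400036c0300036c0200036c000011ba02000b7005000b700400015805000158010010eb040010eb030010eb020010eb000011020000074100000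c9b04000c9b0100026f00000ef704000ef70000013e0500013e0400013e0200013e010002e5040002e5010002e5000000aa050000aa0200138f0500138f0200138f00000a4705000a4700000848000003d6000011780500117804001178010011f9050011f9000011d4040011d4030011d4010011d400000fc605000fc603000fc602000fc601000c5704000c570100114e0500114e01000b1a05000b1a04000b1a02000b1a000000be000009dd010009dd00000d9d000010ed010010ed00000ad204000ad202000edc03000edc02000edc010004d8020004d8000008da0000073a0200073a000008f6050008f6040008f6030008f6020008f6010006d400000a6905000a6904000a6903000a6902000a690100107600000ef402000ef4000004bf050004bf040004bf030004bf020013030500130304001303030013030100069a0400069a0300069a0200069a0100069a00000a1b05000a1b02000a1b01000a1b00000ce105000ce100000b8005000b8004000b8001000b8000000784050007840400078403000784020012730100082e0400082e0300082e0200082e0100048c0100048c000008d0050008d0040009fd040009fd0100021a0500021a0400021a0300021a0200021a00000b3f04000b3f010013480500134802001348010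01348000003cd040003cd030003cd020003cd010003cd000001670500016701000167000004e3050004e3020004e300000fa003000727040000ce010000ce00000f4005000f4000000a0004000a00010009ed040009ed010009ed0000011405000ab105000ab102000a2205000a2204000a2203000a2202000a220000017104000171030001710200017101000171000002ee050002ee020002ee000013000500130002001300000003410500034104000341030003410200034101000341000003a0050003a0040003a0030003a0020008200400082003000820000006bc00000d6c04000d6c03000d6c02000d6c01000e3805000e3803000e380100096d0000113e00000be80400087a0500087a0200087a01000c4704000c4700000773010002f1020002f1000009bb040009bb00000a7000000049050000490200004901001160050011600200116000000d2e03000d2e02000d2e0000059703000597020001c7040001c7030001c7020001c70100088a0500088a0200088a010005dc050005dc040005dc020005dc0000044b0500044b0400044b0300044b0200044b0100044b000003030500030304000303030003030200030300000a1205000a1202000a120000077c0200077c0100077c00000f1e05000f1e04000f1f05000f1f0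40008e5040008e5020008e500000eb301000c0a05000c0a01000d9b04000d9b03000d9b00001294050012940100129400000a9c0000049d0500049d000004af0400064b0500064b0400064b0200064b010001ab050001ab040001ab030001ab020001ab010000500400005003000050020000500000137402000c8205000b5f05000b5f04000b5f03000b5f02000b5f000011440400114403001144020011440000123c00000b3b04000b3b0000060201000602000003480400034801000cb404000cb403000cb402000cb4000001e8040001e8030001e8020001e80100004a00000624050006240200062400000b4705000b4700000c5505000c5504000c5503000c550100039504000395030003950200039501000395000008bb050008bb020008bb01000fa605000fa604000acd05000acd04000acd01000b8a05000b8a04000b8a03000b8a02000b8a00000218000002be050002be040002be000012530000112a0000119604001196030011960200119601000bd105000bd100000d1d04000d1d010009c8010009c8000001ae050001ae040001ae010010bc050010bc0000048100000804010008040000089b0500089b0400089b01000bc705000bc7000010f2040010f2030010f2020010f2010010f20000070b0500070b00000ef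605000ef603000ef60200034205000342040003420300034202000342010003a1040003a1030003a1020003a1010003a10000126805001268020012680100126800000f7905000f79040009060500090604000e6105000e6104000e6103000e6102001006050010060400100603001006020010060100049004000490030004900100049000000556010005560000070f0500070f0400070f0200070f00000ce505000ce504000ce502000ce5010007ac050007ac040007ac030007ac020007ac00000d8304000d8303000d8302000d830100019c0500019c0200019c010000c0040000c0030000c0020000c001000b7a05000b7a04000b7a03000b7a02000b7a01000b7a0000116f0500116f0200116f0000022205000222040003f6040003f6030003f6020011db050011db0200024305000243040002430100004004000040030000400200037605000376020003760100037600000f2904000f2903000f2902000f2901000f290000120202001202010004730500047304000b3405000b3404000b340100126305001263040012630300126302000683050006830400085405000854040008540300085402000ce404000ce403000ce402000ce401000ce400000e6f05000e6f02000e6f00000445050004450200044500000bf805000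bf804000bf803000bf8020007c6040007c6010007c600000dfb02000dfb01000dfb000008d7050008d7040008d7030008d7020008d7010008d700000ca205000ca20000061605000616030006160200061601000ba105000ba1040011a8040012060500120602001206000010b3040010b30100132d0500132d0400132d0200132d0100033c0500033c0200033c0100033c00000d8504000d8501000d850000087205000872040008720200087200000a9404000a9402000a9401000b6005000b6004000b6003000b6002000b6000000f2f020007420500074202000f3905000f3902000f390000009b0500009b0400009b0300009b0200009b0100009b00000c6905000c6903000c6902000c6901000afd04000afd03000afd0100136d0500136d0200136d01000c3e05000c3e04000c3e02000c3e000007d6040007d6030007d6020007d6010007d600000c6005000c6004000c6003000c6002000c60000001210500012102000121010001210000085804000858030008580200085801000858000011a5020011a5010011a500000449050004490400044902000449000004f5050004f5040004f5020004f5010004f500000c9c04000c9c03000c9c0200059404000594030005940200059401000261050002610400026103000261020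002610100101d0400101d0300101d0200101d0100101d0000117e0500117e010010420500104200001016050010160100101600000df705000df704000df703000df702000df700000dc605000dc604000dc603000dc602000dc601000fe305000fe302000fe300000c8604000c8603000c860200103f0500103f0400103f0100103f00000648040006480300064802000648010008a0040008a0030008a001000a6d04000a6d02000a6d0000001302000f5a0400082f0400082f01000759020007590100075900000c2204000ed504000ed50100137d0400137d0300137d0200137d00000164050001640200016400000932040009320300093202000932000005ea050005ea010005ea0000113f0500113f0400113f0300113f0200113f010006dc040006dc010006dc000003810500038102000381000007a5050007a5000002710400027101000b5204000b5203000b5202000b52010011570500115702001157010012bf050012bf04000eb004000eb0010000f4050000f4040000f4030000f4020000f400000483030004830200048301000f6004000f6003000f6002000f60010007d0020007d0010007d000000ffb05000ffb040005af040005af020005af010004480500044804000448030004480200044800000e3704000e370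2000e3701000d2905000d2902000d2901000d29000000da040000da030000da020000da010000da0000123e0500123e0300123e0100088c0500088c000009d3050009d3040009d30100135705001357040013a7040013a7010013a700000eaf05000eaf02000c0c04000c0c010005df040005df01001279050012790200127901001279000010980500109804001098020010980000137f0500137f0400137f0300137f0200137f000004bb040004bb030004bb020004bb010004bb00001276050012760200127600000344050003440200034400000ed305000ed304000ed302000ed3000004c6050004c6040004c6030004c6020004c60100044f0400044f000012610500126102001261010012610000026c0500026c0400026c0200026c0000103d0500103d0400103d0300103d0200103d0000066804000668030006680200066801000668000007010200070101000701000002e2050002e2040002e2020002e20000000805000008040000080200000801000008000009c6040009c6030009c6020009c600000ecc04000ecc03000ecc02000ecc01000c7905000c7902000c7900000054040000540300005402000054000011df050011df040011df030011df020011df010011df000007b2050007b2040007b2030007b2020007b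2010002950500029502000295000008a1040008a1030008a1020008a1010008a1000000230500002304000023010009210500092103000921020009210100103e0500103e0400103e0300103e0200103e0100103e000005d8040005d8030005d8020005d8010005d800000a7f05000a7f02000a7f01000a7f000001f4050001f4040001f4000001f3050001f3040001f300000446050004460400044603000446000004f9050004f9040004f9030004f9020004f901000bc205000bc204000bc203000bc202000bc201000084040000840300008402000084010000840000073f0500073f010000480500004804000048020000480000016f0500016f0400016f0300016f0200016f0100016f0000122e0500122e0400122e0300122e02001164050011640000100305001003030010030200100301000ca700000d3005000d3000000b2404000b24010002b5050002b5040002b5020002b5010007280100072800000aa301000aa300000174050001740400017402000174000006b0020005fb050005fb020005fb00000beb03000beb02000beb00001337050013370300133702001337010008f8040008f8020008f801000eae05000eae01000cc605000cc604000cc602000cc60000117a0500117a0400117a0300117a0200117a01001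17a00000bb005000bb004000bb003000bb002000bb00000062505000625010006250000028b0100028b0000103002001030010010300000008005000080040000800000116d0000057d0400057d0300057d000001df040001df030001df020001df010002bc050002bc040002bc020002bc00000630020000920100009200000e6e05000e6e000004ce010004ce00000ef205000ef204000ef203000ef202000ef201000ac005000ac000000af304000af303000af3000003c7050003c700000e8905000e8904000e8903000e8902000e89010000ff050000ff040000ff030000ff020000ff0100129c0400129c0300129c0200129c000000eb0200135a0500135a040011a1050011a1040011a1030011a1020011a1010011a10000028d0400028d0300028d0200028d00000ffa01000ffa00000a8105000a8104000a8100000046040000460100078f0200078f000008cb030008cb020008cb00000a5905000a5901000a590000091105000911040009110300091102000911010006550400065500000bc805000bc80000081c0500081c0400081c0300081c0200081c010005c6040005c6030005c6020005c6010005c60000068c0500068c0200068c0100055b0500055b040005b5050005b5010003cb050003cb040003cb030003cb020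003cb0000087001000870000003df050003df020003df0000055104000551030005510200055101000bac05000bac02000bac01000bac00000731020007310100073100000142050001420100014200000706050007060200070600000d2f05000d2f04000d2f03000d2f02000d2f0100132f0400093404000934010009340000035905000359000007da050007da040007da01000a3f04000a3f01001015050010150100101500000b3e05000b3e00000b3805000b3804000b38010011c0050011c0040011c0030011c0020011c00000078204000782020007820100078200000a0f05000a0f02000a0f000008d90000137704001377000003f1050003f1040003f1030003f1020003f1010010ff050010ff040010ff030010ff020010ff01000e6904000e6903000e6902000e6901000e6900000d2705000d2702000d2701000d27000006620500066204000e6405000e6404000e6401000dbe05000dbe04000dbe03000dbe02000dbe0000063b0500063b0400063b0300063b000005a6040005a6030005a6020005a60000088f0200088f0100088f0000061905000619040006190200061900000dd705000dd704000dd702000dd701000dd70000040804000408030004080200040800001335040013350300133502001335010004470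5000447020004470000021904000219030002190200021901000219000004580500045804000458030004580200045801000458000008450500084504000845030008450200084501001248050012480000040604000406030004060200040601000406000005210500052104000521010005740500057404000574030005740200057401000d5d02000d5d01000d5d00000cf604000cf603000cf602000cf601000cf6000009840100098400000ade05000ade00001072050010720400107200000d8405000d8403000d8400000b5d05000b5d04000b5d03000b5d02000b5d01000225050002250400022503000225020002250100002a0400002a0300002a0200002a0100002a0000085d0500085d0200085d01000e3c05000e3c04000e3c02000e3c000002340500023404000234030002340200023401000234000007c2050007c2040007c2030007c20200027c0500027c0400027c0200027c010012bc040012bc030012bc010012bc000002a1020002a1010002a10000006f0500006f0400006f0200006f0000070204000702020007020100070200000c5305000c5304000c5303000c5302000c530000061e0400061e0300061e0200061e010009a7050009a7020009a7010009a700000fb404000fb403000fb402000fb401000fb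40000124405001244040012440300124402001244010012440000030f0500030f0200030f00000f5d05000f5d04000f5d03000f5d01000b7d05000b7d04000b7d00000a0304000a0303000a0302000a030100073b0500073b0200073b0000105b0500105b0400105b01000e3e05000e3e04000e3e03000e3e02000e3e01000776050007760400077603000776020007760100061f0400061f0300061f0200061f0100061f00001007050010070200100701001007000012eb050012eb04000d9e05000d9e04000d9e01000a2a05000a2a04000a2a03000a2a02000a2a000001440500014404000144010007100500071004000710030007100200071000000c6c04000c6c03000c6c02000c6c01000c6c000007330500073302000733000002040500020402000204000000220500002204000022030000220200002201000022000000f1050000f1040000f1030000f1020000f101000ccb04000ccb02000ccb01000ccb000005cc010005cc0000064d0500064d0400064d0200064d000007320500073202000732010007320000094f0400094f000006c7050006c7040006c7030006c70000101a0500101a0400101a0300101a0200101a0100104604001046030010460100104600000d1b05000d1b04000d1b02000d1b01000d1b00000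e2405000e2404000e2403000e2402000e24000005db040005db030005db020005db0100056d0400056d0300056d0200056d0100056d00000c8805000c8804000c8803000c8802000c8800000584050005840200058400001242050012420400124203001242020012420100026e0400026e0100026e00000fcc05000fcc02000fcc000001fb050001fb040001fb01000b7f05000b7f04000b7f03000b7f02000b7f01000d5004000d5003000d5002000d5001000d5000001360020013600100136000000e0705000e0702000e0701000e070000001c0500001c0400001c000001fe050001fe040001fe010001fe00000b6805000b6804000b6803000b6802000b680000078305000783040007830300078302000783010011070400110703001107020011070100110700000d9005000d9002000d90000012770500127702001277000009f6050009f6040009f6030009f6020009f6010009f600000a2405000a2404000a2403000a2402000a2401000554040005540300055402000554010005540000114905001149020011490100114900000c0605000c0604000c0602000c0600001084050010840400108403001084020010840100108400000203050002030400020303000203020002030000038e0400038e0300038e0200038e0100038e00000a5705000a5702000a5701000a57000001e7050001e7040001e7020001e7000001ea050001ea040001ea030001ea020001ea010001ea00000ffe05000ffe04000ffe03000ffe02000ffe0000092a0500092a0400092a0300092a0200092a01000000050000000400000003000000020000000100000000))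 = true := by
  decide +kernel

def cW1 : List (List ℕ) := [[nat_lit 4, nat_lit 7, nat_lit 10, nat_lit 4], [nat_lit 4, nat_lit 2, nat_lit 3, nat_lit 6, nat_lit 7]]

theorem c1 : lvlChk img 5040 38 [0] (46, cW1, unp 5 (nat_lit 0x1079000000be0000002e010010300000002e00)) = true := by
  decide +kernel

def cW2 : List (List ℕ) := [[nat_lit 3, nat_lit 7, nat_lit 5, nat_lit 6, nat_lit 4, nat_lit 2]]

theorem c2 : lvlChk img 5040 38 [46,0] (3051, cW2, unp 1 (nat_lit 0xbeb00)) = true := by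
  decide +kernel

def cW3 : List (List ℕ) := [[nat_lit 6, nat_lit 7, nat_lit 4, nat_lit 2, nat_lit 3, nat_lit 6]]

theorem c3 : lvlChk img 5040 38 [3051,46,0] (1, cW3, unp 1 (nat_lit 0x100)) = true := by
  decide +kernel

theorem comm_of {u v : List ℕ} (h : fixB img 38 bs (u ++ v ++ invW inv (v ++ u)) = true) :
    Commute (evL ev u) (evL ev v) := by
  have := eq_of_chk hev ora h
  rwa [evL_append, evL_append] at this

theorem cx {p : Grp} (h : Commute p (ev 9)) : p ∈ gen ev XC := by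
  have u : UB (Subgroup.centralizer {ev 9}) 120960 :=
    ub_cen (Z := ⊥) (zw := [9]) (todo := [8, 9, 10]) hφA hlt (fun z hz q _ => by
      rw [Subgroup.mem_bot.mp hz, map_one]; rfl) (fun g hg => ⟨1, one_mem _, by
      rw [evL_singleton, mul_one, Subgroup.mem_centralizer_singleton_iff.mp hg]⟩) fix3
      (by decide +kernel)
  have l : gen ev XC ≤ Subgroup.centralizer {ev 9} := gen_le fun w hw => by
    rw [Subgroup.mem_centralizer_singleton_iff, ← evL_singleton ev 9]
    exact comm_of (List.all_eq_true.mp (show (XC.all fun w =>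
      fixB img 38 bs (w ++ [9] ++ invW inv ([9] ++ w))) = true by decide +kernel) w hw)
  rw [Subgroup.eq_of_le_of_card_ge l (u.2.trans
    (LBn.cast (((((LBn.nil φ _ 5040).stepU hφ (mem_of_letChk (Ws := XC) (by decide +kernel)) c0).stepU hφ (mem_of_letChk (Ws := XC) (by decide +kernel)) c1).stepU hφ (mem_of_letChk (Ws := XC) (by decide +kernel)) c2).stepU hφ (mem_of_letChk (Ws := XC) (by decide +kernel)) c3) (by decide +kernel)).1.le_card)]
  exact Subgroup.mem_centralizer_singleton_iff.mpr h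

/-- The elements normalising the pair of lifts. -/
def Kh : Subgroup Grp :=
  cenMod (ev 18) (Subgroup.zpowers (ev 17)) ((Subgroup.zpowers_le).mpr cen)

theorem ubK : UB Kh 2304 :=
  ub_cen (Z := Subgroup.zpowers (ev 17)) (zw := [18]) (todo := [8, 9, 10, 0, 1, 2, 3, 4, 5]) hφA hlt
    (fun z hz q hq => mem_fixS'.mp ((Subgroup.zpowers_le (H := fixS φA (List.range 11))).mpr
      (evL_singleton ev 17 ▸ hφA.mem_fixS (by simp) (by decide +kernel)) hz) q (List.mem_range.mpr hq))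
    (fun g hg => evL_singleton ev 18 ▸ hg) fix9 (by decide +kernel)

theorem leK : gen ev XK ≤ Kh := gen_le fun w hw => by
  have := List.all_eq_true.mp (show (XK.all fun w => [[], [17]].any fun z =>
    fixB img 38 bs ([18] ++ w ++ invW inv (w ++ [18] ++ z))) = true by decide +kernel) w hw
  obtain ⟨z, hz, e⟩ := List.any_eq_true.mp this
  have e := eq_of_chk hev ora e
  rw [evL_append, evL_append, evL_append, evL_singleton] at e
  refine ⟨_, ?_, e⟩
  simp only [List.mem_cons, List.not_mem_nil, or_false] at hz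
  rcases hz with rfl | rfl
  exacts [one_mem _, evL_singleton ev 17 ▸ Subgroup.mem_zpowers _]

def kW0 : List (List ℕ) := [[nat_lit 1], [nat_lit 2], [nat_lit 3], [nat_lit 5]]

theorem k0 : lvlChk img 5040 38 [] (78, kW0, unp 47 (nat_lit 0x1204030002b1030012b3030002af0200080103000213030002130200080102000e8e00000e260300060d03000bf201000b020300009d0200009d000009630300096302000963010009630000103603001036010012b5030012b5010008aa020011fa030011fa0200110103001101020011010000024401000244000002330200023300000dd303000dd302000dd301000dd30000048803000488020004880000024b0300024b0200024b0100004e0300004e0200004e0100004e00)) = true := by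
  decide +kernel

def kW1 : List (List ℕ) := [[nat_lit 1, nat_lit 19, nat_lit 10, nat_lit 1]]

theorem k1 : lvlChk img 5040 38 [78] (531, kW1, unp 1 (nat_lit 0x21300)) = true := by
  decide +kernel

def kW2 : List (List ℕ) := [[nat_lit 9, nat_lit 3], [nat_lit 1, nat_lit 2, nat_lit 4, nat_lit 10, nat_lit 1]]

theorem k2 : lvlChk img 5040 38 [531,78] (587, kW2, unp 5 (nat_lit 0x2b1000004880000024b010011010000024b00)) = true := by
  decide +kernel

def kW3 : List (List ℕ) := [[nat_lit 2, nat_lit 1, nat_lit 3, nat_lit 2, nat_lit 4]]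

theorem k3 : lvlChk img 5040 38 [587,531,78] (940, kW3, unp 1 (nat_lit 0x3ac00)) = true := by
  decide +kernel

def kW4 : List (List ℕ) := [[nat_lit 5, nat_lit 1, nat_lit 2, nat_lit 1, nat_lit 5, nat_lit 2]]

theorem k4 : lvlChk img 5040 38 [940,587,531,78] (0, kW4, unp 1 (nat_lit 0x0)) = true := by
  decide +kernel

theorem idxK : Kh.index = 17325 :=
  index_of_cards (le_antisymm ubK.2 ((LBn.cast ((((((LBn.nil φ _ 5040).stepU hφ (mem_of_letChk (Ws := XK) (by decide +kernel)) k0).stepU hφ (mem_of_letChk (Ws := XK) (by decide +kernel)) k1).stepU hφ (mem_of_letChk (Ws := XK) (by decide +kernel)) k2).stepU hφ (mem_of_letChk (Ws := XK) (by decide +kernel)) k3).stepU hφ (mem_of_letChk (Ws := XK) (by decide +kernel)) k4) (by decide +kernel)).1.le_card.trans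
    (Subgroup.card_le_of_le leK))) main.1

def LK : List (List ℕ) := [[], [nat_lit 4, nat_lit 1, nat_lit 2, nat_lit 9, nat_lit 18, nat_lit 19], [nat_lit 2, nat_lit 19], [nat_lit 1, nat_lit 4, nat_lit 1, nat_lit 2, nat_lit 1, nat_lit 9], [nat_lit 1, nat_lit 4, nat_lit 5, nat_lit 9, nat_lit 17], [nat_lit 1, nat_lit 2, nat_lit 5, nat_lit 1, nat_lit 19], [nat_lit 4, nat_lit 1, nat_lit 2, nat_lit 9, nat_lit 17], [nat_lit 17, nat_lit 18, nat_lit 19], [nat_lit 4, nat_lit 2, nat_lit 1, nat_lit 9, nat_lit 19], [nat_lit 17], [nat_lit 1, nat_lit 4, nat_lit 2, nat_lit 5, nat_lit 9, nat_lit 19], [nat_lit 2, nat_lit 18, nat_lit 5], [nat_lit 5, nat_lit 18, nat_lit 19], [nat_lit 4, nat_lit 1, nat_lit 2, nat_lit 5, nat_lit 9], [nat_lit 3, nat_lit 18, nat_lit 19], [nat_lit 4, nat_lit 1, nat_lit 2, nat_lit 4, nat_lit 9], [nat_lit 2, nat_lit 4, nat_lit 18], [nat_lit 1, nat_lit 9, nat_lit 17, nat_lit 19, nat_lit 1], [nat_lit 2, nat_lit 3, nat_lit 2, nat_lit 5, nat_lit 1, nat_lit 9, nat_lit 19], [nat_lit 3, nat_lit 5], [nat_lit 1, nat_lit 4, nat_lit 2, nat_lit 3, nat_lit 5, nat_lit 9, nat_lit 18], [nat_lit 2, nat_lit 4, nat_lit 19, nat_lit 5], [nat_lit 2, nat_lit 1, nat_lit 3, nat_lit 5, nat_lit 19], [nat_lit 1, nat_lit 2, nat_lit 3, nat_lit 9, nat_lit 18, nat_lit 5], [nat_lit 1, nat_lit 2, nat_lit 4, nat_lit 18, nat_lit 19], [nat_lit 1, nat_lit 2, nat_lit 9, nat_lit 18], [nat_lit 1, nat_lit 2, nat_lit 3], [nat_lit 1, nat_lit 2, nat_lit 3, nat_lit 9, nat_lit 19], [nat_lit 1, nat_lit 2, nat_lit 4, nat_lit 5], [nat_lit 1, nat_lit 2, nat_lit 9, nat_lit 19, nat_lit 5], [nat_lit 4, nat_lit 1, nat_lit 9, nat_lit 19, nat_lit 5], [nat_lit 1, nat_lit 18, nat_lit 5, nat_lit 1], [nat_lit 5, nat_lit 10, nat_lit 19, nat_lit 1, nat_lit 4, nat_lit 2], [nat_lit 1, nat_lit 10, nat_lit 19, nat_lit 2, nat_lit 5, nat_lit 1, nat_lit 19], [nat_lit 2, nat_lit 3, nat_lit 2, nat_lit 1, nat_lit 10, nat_lit 19], [nat_lit 3, nat_lit 2, nat_lit 10, nat_lit 17], [nat_lit 2, nat_lit 17, nat_lit 19], [nat_lit 1, nat_lit 4, nat_lit 2, nat_lit 9, nat_lit 18], [nat_lit 1, nat_lit 5, nat_lit 1, nat_lit 18], [nat_lit 4, nat_lit 1, nat_lit 5, nat_lit 9, nat_lit 19], [nat_lit 2, nat_lit 1, nat_lit 5, nat_lit 1], [nat_lit 1, nat_lit 4, nat_lit 9, nat_lit 18, nat_lit 5, nat_lit 19], [nat_lit 2, nat_lit 18, nat_lit 5, nat_lit 19, nat_lit 2], [nat_lit 1, nat_lit 4, nat_lit 5, nat_lit 9], [nat_lit 4, nat_lit 1, nat_lit 9, nat_lit 17, nat_lit 18], [nat_lit 17, nat_lit 19, nat_lit 2], [nat_lit 2, nat_lit 5, nat_lit 18], [nat_lit 1, nat_lit 4, nat_lit 2, nat_lit 9, nat_lit 19, nat_lit 5], [nat_lit 4, nat_lit 2, nat_lit 5, nat_lit 10, nat_lit 19, nat_lit 2], [nat_lit 3, nat_lit 2, nat_lit 4, nat_lit 5, nat_lit 10], [nat_lit 10, nat_lit 17, nat_lit 19, nat_lit 2, nat_lit 1], [nat_lit 4, nat_lit 10, nat_lit 17, nat_lit 18], [nat_lit 4, nat_lit 2, nat_lit 10, nat_lit 18, nat_lit 19], [nat_lit 4, nat_lit 1, nat_lit 2, nat_lit 1, nat_lit 3, nat_lit 10], [nat_lit 4, nat_lit 2, nat_lit 10, nat_lit 19, nat_lit 2, nat_lit 5], [nat_lit 10, nat_lit 19, nat_lit 5, nat_lit 1, nat_lit 19], [nat_lit 3, nat_lit 9, nat_lit 18, nat_lit 5, nat_lit 19, nat_lit 1], [nat_lit 2, nat_lit 3, nat_lit 2, nat_lit 18, nat_lit 5], [nat_lit 9, nat_lit 19, nat_lit 2, nat_lit 5, nat_lit 1, nat_lit 3], [nat_lit 3, nat_lit 1, nat_lit 18, nat_lit 5], [nat_lit 2, nat_lit 3, nat_lit 5, nat_lit 1, nat_lit 10, nat_lit 19], [nat_lit 1, nat_lit 3, nat_lit 10, nat_lit 18, nat_lit 5], [nat_lit 1, nat_lit 2, nat_lit 10, nat_lit 17, nat_lit 19], [nat_lit 1, nat_lit 2, nat_lit 4, nat_lit 10, nat_lit 17], [nat_lit 3, nat_lit 5, nat_lit 1, nat_lit 2, nat_lit 9, nat_lit 19], [nat_lit 3, nat_lit 1, nat_lit 5, nat_lit 18], [nat_lit 2, nat_lit 3, nat_lit 1, nat_lit 9, nat_lit 19, nat_lit 5], [nat_lit 1, nat_lit 3, nat_lit 2, nat_lit 5, nat_lit 18], [nat_lit 4, nat_lit 2, nat_lit 5, nat_lit 1], [nat_lit 2, nat_lit 5, nat_lit 9, nat_lit 19], [nat_lit 3, nat_lit 5, nat_lit 9, nat_lit 18, nat_lit 19, nat_lit 1], [nat_lit 2, nat_lit 3, nat_lit 2, nat_lit 5, nat_lit 18], [nat_lit 1, nat_lit 19, nat_lit 1, nat_lit 5, nat_lit 18], [nat_lit 2, nat_lit 4, nat_lit 5, nat_lit 9], [nat_lit 4, nat_lit 1, nat_lit 2, nat_lit 1, nat_lit 3, nat_lit 9], [nat_lit 4, nat_lit 2, nat_lit 18, nat_lit 19], [nat_lit 1, nat_lit 17, nat_lit 18, nat_lit 19], [nat_lit 2, nat_lit 4, nat_lit 1, nat_lit 9], [nat_lit 1, nat_lit 2, nat_lit 3, nat_lit 1, nat_lit 5], [nat_lit 1, nat_lit 3, nat_lit 9, nat_lit 19, nat_lit 5], [nat_lit 4, nat_lit 17, nat_lit 19, nat_lit 1, nat_lit 2], [nat_lit 3, nat_lit 1, nat_lit 2, nat_lit 4, nat_lit 9, nat_lit 17], [nat_lit 2, nat_lit 10, nat_lit 19, nat_lit 2, nat_lit 4, nat_lit 5], [nat_lit 1, nat_lit 3, nat_lit 5, nat_lit 10, nat_lit 18], [nat_lit 3, nat_lit 9, nat_lit 17, nat_lit 18], [nat_lit 17, nat_lit 19, nat_lit 2, nat_lit 1, nat_lit 4], [nat_lit 1, nat_lit 18, nat_lit 19, nat_lit 1, nat_lit 5], [nat_lit 2, nat_lit 4, nat_lit 5, nat_lit 9, nat_lit 17], [nat_lit 4, nat_lit 1, nat_lit 10, nat_lit 18, nat_lit 19], [nat_lit 4, nat_lit 1, nat_lit 3, nat_lit 10], [nat_lit 2, nat_lit 4, nat_lit 2, nat_lit 18, nat_lit 5], [nat_lit 1, nat_lit 2, nat_lit 5, nat_lit 9, nat_lit 19, nat_lit 1, nat_lit 2], [nat_lit 3, nat_lit 17, nat_lit 18, nat_lit 19], [nat_lit 1, nat_lit 2, nat_lit 3, nat_lit 2, nat_lit 1, nat_lit 9], [nat_lit 2, nat_lit 3, nat_lit 9, nat_lit 18, nat_lit 5, nat_lit 1], [nat_lit 1, nat_lit 3, nat_lit 5, nat_lit 19], [nat_lit 1, nat_lit 4, nat_lit 18, nat_lit 5], [nat_lit 2, nat_lit 5, nat_lit 9, nat_lit 19, nat_lit 2], [nat_lit 1, nat_lit 2, nat_lit 3, nat_lit 1, nat_lit 2, nat_lit 5, nat_lit 9], [nat_lit 3, nat_lit 19, nat_lit 5], [nat_lit 2, nat_lit 9, nat_lit 19, nat_lit 2, nat_lit 5, nat_lit 1], [nat_lit 4, nat_lit 5, nat_lit 18], [nat_lit 1, nat_lit 10, nat_lit 19, nat_lit 2, nat_lit 1, nat_lit 4], [nat_lit 3, nat_lit 2, nat_lit 10], [nat_lit 1, nat_lit 3, nat_lit 2, nat_lit 5, nat_lit 10, nat_lit 18], [nat_lit 2, nat_lit 3, nat_lit 1, nat_lit 10, nat_lit 19, nat_lit 5], [nat_lit 1, nat_lit 4, nat_lit 5, nat_lit 18], [nat_lit 2, nat_lit 9, nat_lit 19, nat_lit 2, nat_lit 5], [nat_lit 3, nat_lit 1, nat_lit 10, nat_lit 19, nat_lit 1], [nat_lit 1, nat_lit 3, nat_lit 2, nat_lit 10, nat_lit 17], [nat_lit 1, nat_lit 4, nat_lit 2, nat_lit 1, nat_lit 9, nat_lit 19], [nat_lit 3, nat_lit 1, nat_lit 2, nat_lit 1, nat_lit 4], [nat_lit 3, nat_lit 5, nat_lit 17], [nat_lit 9, nat_lit 19, nat_lit 1, nat_lit 2, nat_lit 4, nat_lit 5], [nat_lit 3, nat_lit 2, nat_lit 18], [nat_lit 2, nat_lit 3, nat_lit 1, nat_lit 2, nat_lit 9, nat_lit 19], [nat_lit 1, nat_lit 9, nat_lit 19, nat_lit 1, nat_lit 2, nat_lit 5], [nat_lit 2, nat_lit 4, nat_lit 2, nat_lit 5, nat_lit 18], [nat_lit 4, nat_lit 5, nat_lit 19], [nat_lit 4, nat_lit 2, nat_lit 1, nat_lit 3, nat_lit 5, nat_lit 9], [nat_lit 1, nat_lit 18, nat_lit 19], [nat_lit 2, nat_lit 4, nat_lit 1, nat_lit 9, nat_lit 17], [nat_lit 9, nat_lit 19, nat_lit 2, nat_lit 1, nat_lit 5], [nat_lit 4, nat_lit 18, nat_lit 5], [nat_lit 1, nat_lit 17], [nat_lit 2, nat_lit 4, nat_lit 1, nat_lit 9, nat_lit 18, nat_lit 19], [nat_lit 1, nat_lit 2, nat_lit 1], [nat_lit 1, nat_lit 4, nat_lit 2, nat_lit 9, nat_lit 19], [nat_lit 1, nat_lit 5, nat_lit 1, nat_lit 2], [nat_lit 1, nat_lit 4, nat_lit 5, nat_lit 9, nat_lit 18, nat_lit 19], [nat_lit 4, nat_lit 1, nat_lit 2, nat_lit 9], [nat_lit 18, nat_lit 19], [nat_lit 2, nat_lit 4, nat_lit 1, nat_lit 2, nat_lit 3], [nat_lit 4, nat_lit 9, nat_lit 17, nat_lit 18, nat_lit 19, nat_lit 2], [nat_lit 2, nat_lit 3, nat_lit 18, nat_lit 5, nat_lit 1], [nat_lit 1, nat_lit 3, nat_lit 5, nat_lit 9, nat_lit 19], [nat_lit 9, nat_lit 17, nat_lit 18, nat_lit 19, nat_lit 2, nat_lit 4], [nat_lit 1, nat_lit 3, nat_lit 1, nat_lit 17], [nat_lit 2, nat_lit 1, nat_lit 3, nat_lit 5, nat_lit 9], [nat_lit 2, nat_lit 1, nat_lit 3, nat_lit 19, nat_lit 5], [nat_lit 1, nat_lit 2, nat_lit 3, nat_lit 2, nat_lit 9], [nat_lit 1, nat_lit 2, nat_lit 1, nat_lit 3, nat_lit 19], [nat_lit 4, nat_lit 9, nat_lit 17, nat_lit 19, nat_lit 2], [nat_lit 1, nat_lit 3, nat_lit 2, nat_lit 1, nat_lit 4], [nat_lit 1, nat_lit 3, nat_lit 2, nat_lit 18, nat_lit 5], [nat_lit 2, nat_lit 3, nat_lit 1, nat_lit 5, nat_lit 9, nat_lit 19], [nat_lit 9, nat_lit 18, nat_lit 5], [nat_lit 4, nat_lit 1, nat_lit 2, nat_lit 19, nat_lit 5], [nat_lit 3, nat_lit 9, nat_lit 18, nat_lit 5, nat_lit 1], [nat_lit 19, nat_lit 2, nat_lit 4, nat_lit 5], [nat_lit 3, nat_lit 5, nat_lit 1, nat_lit 19], [nat_lit 3, nat_lit 5, nat_lit 1, nat_lit 9, nat_lit 18], [nat_lit 1, nat_lit 2, nat_lit 3, nat_lit 17], [nat_lit 1, nat_lit 2, nat_lit 3, nat_lit 9, nat_lit 17, nat_lit 19], [nat_lit 2, nat_lit 1, nat_lit 3, nat_lit 2, nat_lit 5], [nat_lit 2, nat_lit 3, nat_lit 9, nat_lit 19, nat_lit 5], [nat_lit 3, nat_lit 5, nat_lit 1, nat_lit 2, nat_lit 3, nat_lit 10], [nat_lit 4, nat_lit 5, nat_lit 10, nat_lit 18, nat_lit 19, nat_lit 2], [nat_lit 1, nat_lit 3, nat_lit 2, nat_lit 10], [nat_lit 1, nat_lit 2, nat_lit 10, nat_lit 19, nat_lit 2, nat_lit 4], [nat_lit 4, nat_lit 1, nat_lit 2, nat_lit 5, nat_lit 10, nat_lit 19], [nat_lit 5, nat_lit 10, nat_lit 18], [nat_lit 1, nat_lit 3, nat_lit 1], [nat_lit 9, nat_lit 18, nat_lit 19, nat_lit 2, nat_lit 4], [nat_lit 4, nat_lit 1, nat_lit 9, nat_lit 18], [nat_lit 19, nat_lit 2], [nat_lit 1, nat_lit 2, nat_lit 3, nat_lit 2, nat_lit 5, nat_lit 1, nat_lit 10], [nat_lit 3, nat_lit 2, nat_lit 10, nat_lit 18, nat_lit 5, nat_lit 19], [nat_lit 3, nat_lit 2, nat_lit 1, nat_lit 4, nat_lit 10, nat_lit 19], [nat_lit 3, nat_lit 1, nat_lit 2, nat_lit 3, nat_lit 10], [nat_lit 1, nat_lit 4, nat_lit 9, nat_lit 17, nat_lit 18, nat_lit 19], [nat_lit 2, nat_lit 4, nat_lit 1, nat_lit 3], [nat_lit 5, nat_lit 17], [nat_lit 4, nat_lit 2, nat_lit 1, nat_lit 9, nat_lit 19, nat_lit 5], [nat_lit 4, nat_lit 1, nat_lit 2, nat_lit 5, nat_lit 9, nat_lit 17], [nat_lit 18, nat_lit 5, nat_lit 19], [nat_lit 1, nat_lit 9, nat_lit 19, nat_lit 1, nat_lit 4], [nat_lit 1, nat_lit 2, nat_lit 1, nat_lit 3], [nat_lit 1, nat_lit 3, nat_lit 2, nat_lit 4, nat_lit 5, nat_lit 10], [nat_lit 4, nat_lit 5, nat_lit 10, nat_lit 19, nat_lit 2, nat_lit 1], [nat_lit 4, nat_lit 2, nat_lit 3, nat_lit 1, nat_lit 9], [nat_lit 2, nat_lit 4, nat_lit 17, nat_lit 19], [nat_lit 1, nat_lit 4, nat_lit 10, nat_lit 18, nat_lit 19, nat_lit 1, nat_lit 5], [nat_lit 2, nat_lit 5, nat_lit 1, nat_lit 10, nat_lit 17], [nat_lit 4, nat_lit 2, nat_lit 5, nat_lit 1, nat_lit 3, nat_lit 9], [nat_lit 2, nat_lit 3, nat_lit 5, nat_lit 19], [nat_lit 1, nat_lit 2, nat_lit 4, nat_lit 1, nat_lit 10, nat_lit 18], [nat_lit 1, nat_lit 2, nat_lit 10, nat_lit 18, nat_lit 19, nat_lit 1], [nat_lit 1, nat_lit 9, nat_lit 19, nat_lit 1, nat_lit 5], [nat_lit 2, nat_lit 4, nat_lit 5, nat_lit 18], [nat_lit 1, nat_lit 2, nat_lit 10, nat_lit 19, nat_lit 2], [nat_lit 1, nat_lit 2, nat_lit 4, nat_lit 2, nat_lit 10], [nat_lit 1, nat_lit 3, nat_lit 9, nat_lit 18, nat_lit 5, nat_lit 19], [nat_lit 2, nat_lit 3, nat_lit 5, nat_lit 1], [nat_lit 9, nat_lit 19, nat_lit 1, nat_lit 2], [nat_lit 4, nat_lit 17], [nat_lit 4, nat_lit 10, nat_lit 19, nat_lit 1, nat_lit 2, nat_lit 5], [nat_lit 3, nat_lit 1, nat_lit 2, nat_lit 4, nat_lit 5, nat_lit 10], [nat_lit 4, nat_lit 10, nat_lit 17, nat_lit 18, nat_lit 19, nat_lit 1], [nat_lit 1, nat_lit 4, nat_lit 2, nat_lit 1, nat_lit 3, nat_lit 10], [nat_lit 1, nat_lit 9, nat_lit 18, nat_lit 5, nat_lit 1], [nat_lit 4, nat_lit 1, nat_lit 19, nat_lit 5], [nat_lit 1, nat_lit 2, nat_lit 1, nat_lit 4], [nat_lit 1, nat_lit 9, nat_lit 19, nat_lit 1], [nat_lit 1, nat_lit 3, nat_lit 9, nat_lit 17], [nat_lit 2, nat_lit 18, nat_lit 19, nat_lit 2, nat_lit 4], [nat_lit 9, nat_lit 19, nat_lit 2, nat_lit 1, nat_lit 5, nat_lit 19], [nat_lit 4, nat_lit 18, nat_lit 5, nat_lit 19], [nat_lit 2, nat_lit 4, nat_lit 2, nat_lit 5, nat_lit 10, nat_lit 17], [nat_lit 5, nat_lit 1, nat_lit 2, nat_lit 10, nat_lit 19, nat_lit 1], [nat_lit 1, nat_lit 2, nat_lit 4, nat_lit 1, nat_lit 2, nat_lit 10], [nat_lit 1, nat_lit 2, nat_lit 10, nat_lit 19, nat_lit 1, nat_lit 2], [nat_lit 9, nat_lit 19, nat_lit 2], [nat_lit 4, nat_lit 1, nat_lit 18], [nat_lit 2, nat_lit 4, nat_lit 5, nat_lit 19], [nat_lit 4, nat_lit 2, nat_lit 3, nat_lit 1, nat_lit 5, nat_lit 9], [nat_lit 2, nat_lit 18], [nat_lit 1, nat_lit 4, nat_lit 2, nat_lit 9, nat_lit 17, nat_lit 19], [nat_lit 5], [nat_lit 4, nat_lit 2, nat_lit 1, nat_lit 5, nat_lit 9, nat_lit 19], [nat_lit 1, nat_lit 4, nat_lit 2, nat_lit 5, nat_lit 9, nat_lit 18], [nat_lit 2, nat_lit 19, nat_lit 5], [nat_lit 2, nat_lit 4, nat_lit 19], [nat_lit 2, nat_lit 1, nat_lit 3, nat_lit 2, nat_lit 4, nat_lit 9], [nat_lit 3], [nat_lit 9, nat_lit 17, nat_lit 19, nat_lit 1, nat_lit 2, nat_lit 4], [nat_lit 2, nat_lit 4, nat_lit 18, nat_lit 5], [nat_lit 1, nat_lit 2, nat_lit 5, nat_lit 9, nat_lit 19, nat_lit 1], [nat_lit 3, nat_lit 5, nat_lit 18, nat_lit 19], [nat_lit 4, nat_lit 1, nat_lit 2, nat_lit 4, nat_lit 5, nat_lit 9], [nat_lit 2, nat_lit 1, nat_lit 4, nat_lit 5, nat_lit 19], [nat_lit 1, nat_lit 2, nat_lit 9, nat_lit 18, nat_lit 5], [nat_lit 1, nat_lit 2, nat_lit 3, nat_lit 9, nat_lit 18], [nat_lit 1, nat_lit 2, nat_lit 3, nat_lit 18, nat_lit 19], [nat_lit 1, nat_lit 2, nat_lit 4], [nat_lit 1, nat_lit 2, nat_lit 9, nat_lit 19], [nat_lit 1, nat_lit 2, nat_lit 3, nat_lit 9, nat_lit 19, nat_lit 5], [nat_lit 1, nat_lit 2, nat_lit 3, nat_lit 5], [nat_lit 4, nat_lit 18, nat_lit 19], [nat_lit 4, nat_lit 1, nat_lit 2, nat_lit 3, nat_lit 9], [nat_lit 1, nat_lit 9, nat_lit 17, nat_lit 19, nat_lit 1, nat_lit 4], [nat_lit 2, nat_lit 3, nat_lit 18], [nat_lit 4, nat_lit 5], [nat_lit 2, nat_lit 5, nat_lit 9, nat_lit 19, nat_lit 1, nat_lit 2], [nat_lit 2, nat_lit 1, nat_lit 3, nat_lit 2, nat_lit 5, nat_lit 9], [nat_lit 2, nat_lit 3, nat_lit 19, nat_lit 5], [nat_lit 2, nat_lit 1, nat_lit 3, nat_lit 2, nat_lit 9], [nat_lit 2, nat_lit 3, nat_lit 19], [nat_lit 4], [nat_lit 9, nat_lit 17, nat_lit 19, nat_lit 1, nat_lit 2], [nat_lit 2, nat_lit 3, nat_lit 18, nat_lit 5], [nat_lit 1, nat_lit 3, nat_lit 5, nat_lit 9, nat_lit 19, nat_lit 1], [nat_lit 4, nat_lit 1, nat_lit 2, nat_lit 3, nat_lit 5, nat_lit 9], [nat_lit 4, nat_lit 5, nat_lit 18, nat_lit 19], [nat_lit 1, nat_lit 2, nat_lit 4, nat_lit 9, nat_lit 18, nat_lit 5], [nat_lit 2, nat_lit 1, nat_lit 5, nat_lit 19], [nat_lit 1, nat_lit 2, nat_lit 18, nat_lit 19], [nat_lit 1, nat_lit 2, nat_lit 4, nat_lit 9, nat_lit 18], [nat_lit 1, nat_lit 2, nat_lit 4, nat_lit 9, nat_lit 19], [nat_lit 1, nat_lit 2], [nat_lit 1, nat_lit 2, nat_lit 4, nat_lit 9, nat_lit 19, nat_lit 5], [nat_lit 1, nat_lit 2, nat_lit 5], [nat_lit 2, nat_lit 1, nat_lit 19], [nat_lit 2, nat_lit 1, nat_lit 4, nat_lit 9], [nat_lit 1, nat_lit 2, nat_lit 3, nat_lit 5, nat_lit 9, nat_lit 17], [nat_lit 1, nat_lit 2, nat_lit 3, nat_lit 5, nat_lit 19], [nat_lit 2, nat_lit 1, nat_lit 4, nat_lit 19, nat_lit 5], [nat_lit 2, nat_lit 1, nat_lit 5, nat_lit 9], [nat_lit 1, nat_lit 2, nat_lit 9, nat_lit 17], [nat_lit 1, nat_lit 2, nat_lit 4, nat_lit 17, nat_lit 19], [nat_lit 2, nat_lit 1, nat_lit 9], [nat_lit 2, nat_lit 1, nat_lit 4, nat_lit 19], [nat_lit 1, nat_lit 2, nat_lit 5, nat_lit 17], [nat_lit 1, nat_lit 2, nat_lit 4, nat_lit 5, nat_lit 9, nat_lit 19], [nat_lit 2, nat_lit 1, nat_lit 3], [nat_lit 2, nat_lit 1, nat_lit 3, nat_lit 9, nat_lit 19], [nat_lit 1, nat_lit 2, nat_lit 4, nat_lit 17], [nat_lit 1, nat_lit 2, nat_lit 9, nat_lit 17, nat_lit 19], [nat_lit 2, nat_lit 1, nat_lit 4, nat_lit 5], [nat_lit 2, nat_lit 1, nat_lit 9, nat_lit 19, nat_lit 5], [nat_lit 1, nat_lit 2, nat_lit 5, nat_lit 9, nat_lit 19], [nat_lit 1, nat_lit 2, nat_lit 4, nat_lit 5, nat_lit 17], [nat_lit 4, nat_lit 1, nat_lit 3, nat_lit 2], [nat_lit 1, nat_lit 4, nat_lit 9, nat_lit 18, nat_lit 19], [nat_lit 10, nat_lit 19, nat_lit 1, nat_lit 2, nat_lit 5, nat_lit 19], [nat_lit 4, nat_lit 10, nat_lit 19, nat_lit 5], [nat_lit 1, nat_lit 2, nat_lit 1, nat_lit 10, nat_lit 19, nat_lit 1], [nat_lit 1, nat_lit 4, nat_lit 2, nat_lit 1, nat_lit 10], [nat_lit 1, nat_lit 3, nat_lit 5, nat_lit 10, nat_lit 18, nat_lit 19], [nat_lit 1, nat_lit 5, nat_lit 1, nat_lit 2, nat_lit 4, nat_lit 10], [nat_lit 1, nat_lit 10, nat_lit 17, nat_lit 19, nat_lit 1], [nat_lit 2, nat_lit 4, nat_lit 10, nat_lit 18], [nat_lit 1, nat_lit 2, nat_lit 4, nat_lit 5, nat_lit 19], [nat_lit 1, nat_lit 2, nat_lit 5, nat_lit 9, nat_lit 17], [nat_lit 1, nat_lit 3, nat_lit 2, nat_lit 4, nat_lit 5], [nat_lit 4, nat_lit 5, nat_lit 9, nat_lit 19, nat_lit 2, nat_lit 1], [nat_lit 3, nat_lit 1, nat_lit 9, nat_lit 18, nat_lit 19], [nat_lit 1, nat_lit 3, nat_lit 1, nat_lit 2], [nat_lit 4, nat_lit 5, nat_lit 9], [nat_lit 2, nat_lit 5, nat_lit 19, nat_lit 1, nat_lit 2], [nat_lit 9, nat_lit 17, nat_lit 19, nat_lit 2, nat_lit 1, nat_lit 4], [nat_lit 3, nat_lit 17, nat_lit 18], [nat_lit 4, nat_lit 1, nat_lit 5, nat_lit 18, nat_lit 19], [nat_lit 1, nat_lit 5, nat_lit 1, nat_lit 9], [nat_lit 4, nat_lit 2, nat_lit 3, nat_lit 10, nat_lit 18], [nat_lit 4, nat_lit 1, nat_lit 2, nat_lit 1, nat_lit 10, nat_lit 19], [nat_lit 4, nat_lit 2, nat_lit 1, nat_lit 3, nat_lit 5, nat_lit 10], [nat_lit 4, nat_lit 5, nat_lit 10, nat_lit 19], [nat_lit 4, nat_lit 2, nat_lit 3, nat_lit 5, nat_lit 9, nat_lit 18], [nat_lit 4, nat_lit 2, nat_lit 5, nat_lit 18, nat_lit 19], [nat_lit 1, nat_lit 2, nat_lit 4, nat_lit 10, nat_lit 19, nat_lit 2], [nat_lit 1, nat_lit 10], [nat_lit 2, nat_lit 3, nat_lit 5, nat_lit 1, nat_lit 19], [nat_lit 1, nat_lit 3, nat_lit 9, nat_lit 18, nat_lit 5], [nat_lit 4, nat_lit 19, nat_lit 2, nat_lit 1, nat_lit 5], [nat_lit 3, nat_lit 2, nat_lit 1, nat_lit 4, nat_lit 5, nat_lit 9], [nat_lit 4, nat_lit 2, nat_lit 3, nat_lit 9, nat_lit 18, nat_lit 5], [nat_lit 4, nat_lit 2, nat_lit 18, nat_lit 5, nat_lit 19], [nat_lit 1, nat_lit 2, nat_lit 4, nat_lit 19, nat_lit 5], [nat_lit 1, nat_lit 2, nat_lit 5, nat_lit 9], [nat_lit 1, nat_lit 5, nat_lit 9, nat_lit 18, nat_lit 19, nat_lit 1], [nat_lit 2, nat_lit 5, nat_lit 1, nat_lit 3, nat_lit 17], [nat_lit 1, nat_lit 3, nat_lit 2, nat_lit 5, nat_lit 9, nat_lit 17], [nat_lit 3, nat_lit 1, nat_lit 19, nat_lit 1, nat_lit 5], [nat_lit 1, nat_lit 19, nat_lit 5, nat_lit 1, nat_lit 19], [nat_lit 4, nat_lit 9, nat_lit 19, nat_lit 2, nat_lit 5, nat_lit 1], [nat_lit 1, nat_lit 4, nat_lit 18], [nat_lit 2, nat_lit 9, nat_lit 17, nat_lit 19, nat_lit 2], [nat_lit 2, nat_lit 1, nat_lit 10, nat_lit 19, nat_lit 1, nat_lit 4], [nat_lit 2, nat_lit 3, nat_lit 1, nat_lit 10], [nat_lit 3, nat_lit 2, nat_lit 5, nat_lit 18, nat_lit 19], [nat_lit 2, nat_lit 3, nat_lit 1, nat_lit 2, nat_lit 5, nat_lit 9], [nat_lit 2, nat_lit 4, nat_lit 2, nat_lit 5, nat_lit 10], [nat_lit 1, nat_lit 10, nat_lit 19, nat_lit 2, nat_lit 1, nat_lit 5], [nat_lit 1, nat_lit 10, nat_lit 19, nat_lit 1], [nat_lit 1, nat_lit 2, nat_lit 1, nat_lit 4, nat_lit 10], [nat_lit 2, nat_lit 3, nat_lit 1, nat_lit 2, nat_lit 4, nat_lit 9], [nat_lit 4, nat_lit 18, nat_lit 19, nat_lit 1], [nat_lit 3, nat_lit 2, nat_lit 18, nat_lit 5, nat_lit 19], [nat_lit 1, nat_lit 2, nat_lit 3, nat_lit 2, nat_lit 5, nat_lit 1, nat_lit 9], [nat_lit 1, nat_lit 4, nat_lit 2, nat_lit 5, nat_lit 10, nat_lit 19], [nat_lit 2, nat_lit 10, nat_lit 18, nat_lit 5], [nat_lit 2, nat_lit 19, nat_lit 2, nat_lit 1, nat_lit 4], [nat_lit 3, nat_lit 1, nat_lit 9, nat_lit 17, nat_lit 18], [nat_lit 9, nat_lit 18, nat_lit 5, nat_lit 1, nat_lit 3], [nat_lit 19, nat_lit 2, nat_lit 5, nat_lit 1], [nat_lit 1, nat_lit 3, nat_lit 2, nat_lit 1, nat_lit 5, nat_lit 10], [nat_lit 3, nat_lit 1, nat_lit 5, nat_lit 10, nat_lit 19], [nat_lit 4, nat_lit 10, nat_lit 19, nat_lit 2], [nat_lit 2, nat_lit 4, nat_lit 2, nat_lit 1, nat_lit 3, nat_lit 10], [nat_lit 1, nat_lit 3, nat_lit 2, nat_lit 5, nat_lit 9], [nat_lit 5, nat_lit 1, nat_lit 2, nat_lit 4, nat_lit 19], [nat_lit 2, nat_lit 1, nat_lit 4, nat_lit 2, nat_lit 9], [nat_lit 2, nat_lit 1, nat_lit 19, nat_lit 2], [nat_lit 2, nat_lit 3, nat_lit 1, nat_lit 5, nat_lit 10], [nat_lit 1, nat_lit 3, nat_lit 2, nat_lit 10, nat_lit 18, nat_lit 5, nat_lit 19], [nat_lit 4, nat_lit 2, nat_lit 1, nat_lit 19, nat_lit 5], [nat_lit 5, nat_lit 9, nat_lit 17], [nat_lit 1, nat_lit 3, nat_lit 1, nat_lit 2, nat_lit 19], [nat_lit 3, nat_lit 1, nat_lit 9, nat_lit 18], [nat_lit 1, nat_lit 3, nat_lit 2, nat_lit 9, nat_lit 18], [nat_lit 2, nat_lit 3, nat_lit 1, nat_lit 17, nat_lit 19], [nat_lit 5, nat_lit 1, nat_lit 2, nat_lit 9], [nat_lit 1, nat_lit 5, nat_lit 19, nat_lit 1, nat_lit 4], [nat_lit 4, nat_lit 2, nat_lit 19, nat_lit 2], [nat_lit 3, nat_lit 2, nat_lit 4, nat_lit 9, nat_lit 17], [nat_lit 9, nat_lit 19, nat_lit 5, nat_lit 1], [nat_lit 5, nat_lit 1, nat_lit 3, nat_lit 2], [nat_lit 1, nat_lit 9, nat_lit 18, nat_lit 19], [nat_lit 2, nat_lit 4, nat_lit 1, nat_lit 17], [nat_lit 9, nat_lit 19, nat_lit 5, nat_lit 1, nat_lit 19, nat_lit 1], [nat_lit 5, nat_lit 1, nat_lit 19, nat_lit 1, nat_lit 4], [nat_lit 1, nat_lit 3, nat_lit 1, nat_lit 2, nat_lit 3, nat_lit 9], [nat_lit 1, nat_lit 18, nat_lit 19, nat_lit 2], [nat_lit 1, nat_lit 3, nat_lit 1, nat_lit 2, nat_lit 1, nat_lit 9], [nat_lit 2, nat_lit 3, nat_lit 1, nat_lit 19], [nat_lit 5, nat_lit 9, nat_lit 19, nat_lit 1], [nat_lit 4, nat_lit 2, nat_lit 1, nat_lit 5, nat_lit 1], [nat_lit 4, nat_lit 1, nat_lit 18, nat_lit 5, nat_lit 19], [nat_lit 1, nat_lit 5, nat_lit 1, nat_lit 9, nat_lit 17], [nat_lit 1, nat_lit 19, nat_lit 2], [nat_lit 2, nat_lit 4, nat_lit 2, nat_lit 1, nat_lit 9], [nat_lit 2, nat_lit 4, nat_lit 2, nat_lit 10, nat_lit 18], [nat_lit 1, nat_lit 10, nat_lit 17, nat_lit 19, nat_lit 1, nat_lit 2], [nat_lit 3, nat_lit 1, nat_lit 10, nat_lit 19, nat_lit 5], [nat_lit 3, nat_lit 2, nat_lit 5, nat_lit 1, nat_lit 10], [nat_lit 2, nat_lit 3, nat_lit 1, nat_lit 5, nat_lit 10, nat_lit 17], [nat_lit 1, nat_lit 3, nat_lit 2, nat_lit 5, nat_lit 10, nat_lit 18, nat_lit 19], [nat_lit 3, nat_lit 2, nat_lit 4, nat_lit 9], [nat_lit 1, nat_lit 4, nat_lit 1, nat_lit 2, nat_lit 19], [nat_lit 1, nat_lit 3, nat_lit 10, nat_lit 18, nat_lit 5, nat_lit 19], [nat_lit 2, nat_lit 3, nat_lit 5, nat_lit 1, nat_lit 10], [nat_lit 3, nat_lit 2, nat_lit 1, nat_lit 4, nat_lit 9, nat_lit 19], [nat_lit 3, nat_lit 1, nat_lit 2, nat_lit 3], [nat_lit 2, nat_lit 3, nat_lit 1, nat_lit 9], [nat_lit 2, nat_lit 1, nat_lit 19, nat_lit 1, nat_lit 4], [nat_lit 3, nat_lit 1, nat_lit 2, nat_lit 4, nat_lit 5, nat_lit 9], [nat_lit 4, nat_lit 19, nat_lit 1, nat_lit 2, nat_lit 5], [nat_lit 5, nat_lit 1, nat_lit 2, nat_lit 4, nat_lit 9, nat_lit 19], [nat_lit 1, nat_lit 3, nat_lit 2, nat_lit 5], [nat_lit 2, nat_lit 4, nat_lit 1, nat_lit 2, nat_lit 19], [nat_lit 5, nat_lit 1, nat_lit 9, nat_lit 18, nat_lit 5], [nat_lit 2, nat_lit 3, nat_lit 2, nat_lit 5, nat_lit 9, nat_lit 17], [nat_lit 3, nat_lit 19, nat_lit 5, nat_lit 1], [nat_lit 1, nat_lit 9, nat_lit 19, nat_lit 2, nat_lit 5], [nat_lit 2, nat_lit 4, nat_lit 2, nat_lit 1, nat_lit 5], [nat_lit 9, nat_lit 18, nat_lit 19, nat_lit 1, nat_lit 4], [nat_lit 1, nat_lit 2, nat_lit 1, nat_lit 3, nat_lit 2], [nat_lit 5, nat_lit 1, nat_lit 3, nat_lit 17], [nat_lit 5, nat_lit 9, nat_lit 19, nat_lit 1, nat_lit 2], [nat_lit 4, nat_lit 9, nat_lit 17, nat_lit 19, nat_lit 2, nat_lit 1], [nat_lit 3, nat_lit 1, nat_lit 2, nat_lit 4, nat_lit 18], [nat_lit 2, nat_lit 5, nat_lit 1, nat_lit 18], [nat_lit 1, nat_lit 4, nat_lit 9, nat_lit 19, nat_lit 1, nat_lit 5], [nat_lit 3, nat_lit 2, nat_lit 9, nat_lit 18], [nat_lit 2, nat_lit 3, nat_lit 1, nat_lit 2, nat_lit 19], [nat_lit 4, nat_lit 1, nat_lit 19], [nat_lit 4, nat_lit 1, nat_lit 3, nat_lit 9, nat_lit 18], [nat_lit 3, nat_lit 17, nat_lit 19], [nat_lit 4, nat_lit 2, nat_lit 1, nat_lit 4, nat_lit 9], [nat_lit 4, nat_lit 1, nat_lit 10, nat_lit 19, nat_lit 1, nat_lit 5], [nat_lit 10, nat_lit 18, nat_lit 5, nat_lit 1], [nat_lit 2, nat_lit 3, nat_lit 2, nat_lit 1, nat_lit 10], [nat_lit 3, nat_lit 2, nat_lit 10, nat_lit 17, nat_lit 19], [nat_lit 5, nat_lit 10, nat_lit 19, nat_lit 1, nat_lit 2], [nat_lit 5, nat_lit 1, nat_lit 3, nat_lit 10, nat_lit 17], [nat_lit 10, nat_lit 19, nat_lit 2, nat_lit 1], [nat_lit 4, nat_lit 10, nat_lit 18], [nat_lit 2, nat_lit 1, nat_lit 3, nat_lit 9], [nat_lit 2, nat_lit 1, nat_lit 3, nat_lit 19], [nat_lit 2, nat_lit 3, nat_lit 1, nat_lit 9, nat_lit 17], [nat_lit 1, nat_lit 3, nat_lit 2, nat_lit 18, nat_lit 19], [nat_lit 1, nat_lit 2, nat_lit 3, nat_lit 1, nat_lit 5, nat_lit 9], [nat_lit 1, nat_lit 3, nat_lit 19, nat_lit 5], [nat_lit 2, nat_lit 4, nat_lit 17, nat_lit 19, nat_lit 2], [nat_lit 1, nat_lit 3, nat_lit 2, nat_lit 4, nat_lit 9, nat_lit 18], [nat_lit 3, nat_lit 10, nat_lit 17, nat_lit 19], [nat_lit 4, nat_lit 2, nat_lit 1, nat_lit 4, nat_lit 10], [nat_lit 9, nat_lit 18], [nat_lit 4, nat_lit 1, nat_lit 2, nat_lit 19], [nat_lit 3, nat_lit 10, nat_lit 18, nat_lit 5, nat_lit 19], [nat_lit 2, nat_lit 3, nat_lit 5, nat_lit 1, nat_lit 2, nat_lit 10], [nat_lit 3, nat_lit 1, nat_lit 9, nat_lit 19, nat_lit 1, nat_lit 5], [nat_lit 1, nat_lit 3, nat_lit 2, nat_lit 5, nat_lit 17], [nat_lit 1, nat_lit 9, nat_lit 19, nat_lit 1, nat_lit 2, nat_lit 4], [nat_lit 3, nat_lit 1, nat_lit 2, nat_lit 1], [nat_lit 9, nat_lit 17, nat_lit 18], [nat_lit 1, nat_lit 4, nat_lit 2, nat_lit 19, nat_lit 2], [nat_lit 2, nat_lit 3, nat_lit 1, nat_lit 9, nat_lit 17, nat_lit 19], [nat_lit 1, nat_lit 3, nat_lit 2, nat_lit 18], [nat_lit 2, nat_lit 10, nat_lit 18, nat_lit 5, nat_lit 19], [nat_lit 1, nat_lit 4, nat_lit 2, nat_lit 5, nat_lit 10], [nat_lit 4, nat_lit 9, nat_lit 19, nat_lit 2, nat_lit 1], [nat_lit 3, nat_lit 2, nat_lit 1, nat_lit 4], [nat_lit 1, nat_lit 3, nat_lit 2, nat_lit 9, nat_lit 19, nat_lit 5], [nat_lit 1, nat_lit 2, nat_lit 3, nat_lit 5, nat_lit 1], [nat_lit 1, nat_lit 4, nat_lit 1, nat_lit 2, nat_lit 4, nat_lit 10], [nat_lit 3, nat_lit 2, nat_lit 10, nat_lit 19], [nat_lit 2, nat_lit 4, nat_lit 19, nat_lit 2], [nat_lit 2, nat_lit 1, nat_lit 4, nat_lit 2, nat_lit 3, nat_lit 9], [nat_lit 4, nat_lit 1, nat_lit 5, nat_lit 9, nat_lit 18], [nat_lit 5, nat_lit 19, nat_lit 2], [nat_lit 5, nat_lit 1, nat_lit 2], [nat_lit 1, nat_lit 5, nat_lit 9, nat_lit 19, nat_lit 1, nat_lit 4], [nat_lit 1, nat_lit 2, nat_lit 1, nat_lit 9, nat_lit 19, nat_lit 1], [nat_lit 1, nat_lit 4, nat_lit 2, nat_lit 1], [nat_lit 2, nat_lit 1, nat_lit 4, nat_lit 2, nat_lit 5, nat_lit 9], [nat_lit 2, nat_lit 1, nat_lit 19, nat_lit 2, nat_lit 5], [nat_lit 3, nat_lit 5, nat_lit 19, nat_lit 1], [nat_lit 2, nat_lit 3, nat_lit 2, nat_lit 5, nat_lit 9], [nat_lit 1, nat_lit 2, nat_lit 3, nat_lit 2, nat_lit 9, nat_lit 17], [nat_lit 2, nat_lit 3, nat_lit 18, nat_lit 19], [nat_lit 4, nat_lit 1, nat_lit 2, nat_lit 4, nat_lit 5, nat_lit 10], [nat_lit 3, nat_lit 5, nat_lit 10, nat_lit 18, nat_lit 19], [nat_lit 4, nat_lit 2, nat_lit 10], [nat_lit 10, nat_lit 17, nat_lit 19, nat_lit 1], [nat_lit 1, nat_lit 4, nat_lit 10, nat_lit 18], [nat_lit 2, nat_lit 10, nat_lit 17, nat_lit 19, nat_lit 2], [nat_lit 3, nat_lit 2, nat_lit 1, nat_lit 19, nat_lit 5], [nat_lit 3, nat_lit 1, nat_lit 2, nat_lit 5, nat_lit 9], [nat_lit 3, nat_lit 1, nat_lit 2, nat_lit 9, nat_lit 19], [nat_lit 3, nat_lit 2, nat_lit 1], [nat_lit 2, nat_lit 3, nat_lit 2, nat_lit 18], [nat_lit 9, nat_lit 17, nat_lit 18, nat_lit 19, nat_lit 1, nat_lit 4], [nat_lit 2, nat_lit 3, nat_lit 5, nat_lit 9, nat_lit 19], [nat_lit 4, nat_lit 2, nat_lit 5, nat_lit 1, nat_lit 3], [nat_lit 3, nat_lit 19], [nat_lit 1, nat_lit 2, nat_lit 3, nat_lit 1, nat_lit 2, nat_lit 9], [nat_lit 18, nat_lit 19, nat_lit 1, nat_lit 5], [nat_lit 4, nat_lit 2, nat_lit 5, nat_lit 9, nat_lit 18], [nat_lit 2, nat_lit 9, nat_lit 19, nat_lit 2], [nat_lit 1, nat_lit 4, nat_lit 17, nat_lit 18], [nat_lit 3, nat_lit 1, nat_lit 2, nat_lit 18], [nat_lit 3, nat_lit 1, nat_lit 2, nat_lit 9, nat_lit 17, nat_lit 19], [nat_lit 3, nat_lit 1, nat_lit 2, nat_lit 1, nat_lit 9], [nat_lit 1, nat_lit 19, nat_lit 1, nat_lit 2, nat_lit 4], [nat_lit 19, nat_lit 1, nat_lit 5], [nat_lit 4, nat_lit 2, nat_lit 5, nat_lit 9, nat_lit 17], [nat_lit 3, nat_lit 1, nat_lit 2, nat_lit 5, nat_lit 9, nat_lit 17], [nat_lit 3, nat_lit 2, nat_lit 1, nat_lit 5, nat_lit 19], [nat_lit 2, nat_lit 4, nat_lit 5, nat_lit 10, nat_lit 19], [nat_lit 4, nat_lit 2, nat_lit 3, nat_lit 1, nat_lit 5, nat_lit 10], [nat_lit 1, nat_lit 3, nat_lit 10, nat_lit 17], [nat_lit 2, nat_lit 10, nat_lit 18, nat_lit 19, nat_lit 2, nat_lit 4], [nat_lit 3, nat_lit 2, nat_lit 5, nat_lit 10, nat_lit 18, nat_lit 19], [nat_lit 2, nat_lit 3, nat_lit 1, nat_lit 2, nat_lit 5, nat_lit 10], [nat_lit 1, nat_lit 2, nat_lit 4, nat_lit 2, nat_lit 10, nat_lit 18], [nat_lit 1, nat_lit 2, nat_lit 10, nat_lit 18, nat_lit 19, nat_lit 2], [nat_lit 4, nat_lit 1, nat_lit 2, nat_lit 5, nat_lit 1, nat_lit 9], [nat_lit 5, nat_lit 18, nat_lit 19, nat_lit 1], [nat_lit 1, nat_lit 2, nat_lit 4, nat_lit 1, nat_lit 3, nat_lit 9], [nat_lit 1, nat_lit 4, nat_lit 19, nat_lit 1], [nat_lit 1, nat_lit 4, nat_lit 18, nat_lit 19], [nat_lit 4, nat_lit 1, nat_lit 3, nat_lit 2, nat_lit 9], [nat_lit 1, nat_lit 4, nat_lit 10], [nat_lit 1, nat_lit 2, nat_lit 1, nat_lit 10, nat_lit 19, nat_lit 2], [nat_lit 1, nat_lit 2, nat_lit 4, nat_lit 2, nat_lit 9, nat_lit 17], [nat_lit 1, nat_lit 2, nat_lit 17, nat_lit 19, nat_lit 2], [nat_lit 2, nat_lit 3, nat_lit 1, nat_lit 5, nat_lit 19], [nat_lit 1, nat_lit 3, nat_lit 2, nat_lit 9, nat_lit 18, nat_lit 5], [nat_lit 2, nat_lit 4, nat_lit 1, nat_lit 9, nat_lit 19, nat_lit 5], [nat_lit 1, nat_lit 5, nat_lit 18], [nat_lit 1, nat_lit 2, nat_lit 3, nat_lit 2], [nat_lit 1, nat_lit 2, nat_lit 1, nat_lit 3, nat_lit 9, nat_lit 19], [nat_lit 3, nat_lit 9, nat_lit 19], [nat_lit 1, nat_lit 2, nat_lit 3, nat_lit 1, nat_lit 2], [nat_lit 1, nat_lit 5, nat_lit 10], [nat_lit 1, nat_lit 2, nat_lit 4, nat_lit 10, nat_lit 19, nat_lit 2, nat_lit 5], [nat_lit 2, nat_lit 4, nat_lit 1, nat_lit 5], [nat_lit 1, nat_lit 9, nat_lit 18, nat_lit 5, nat_lit 19], [nat_lit 4, nat_lit 9, nat_lit 19], [nat_lit 4, nat_lit 1, nat_lit 2, nat_lit 3, nat_lit 18], [nat_lit 5, nat_lit 10, nat_lit 17], [nat_lit 4, nat_lit 2, nat_lit 1, nat_lit 10, nat_lit 19, nat_lit 5], [nat_lit 4, nat_lit 1, nat_lit 2, nat_lit 5], [nat_lit 5, nat_lit 9, nat_lit 18, nat_lit 19], [nat_lit 1, nat_lit 2, nat_lit 3, nat_lit 1, nat_lit 2, nat_lit 10], [nat_lit 3, nat_lit 10, nat_lit 19], [nat_lit 9, nat_lit 19, nat_lit 2, nat_lit 4], [nat_lit 1, nat_lit 3, nat_lit 1, nat_lit 18], [nat_lit 1, nat_lit 5, nat_lit 1, nat_lit 2, nat_lit 3], [nat_lit 1, nat_lit 5, nat_lit 9, nat_lit 18, nat_lit 19], [nat_lit 4, nat_lit 1, nat_lit 2, nat_lit 3, nat_lit 9, nat_lit 17], [nat_lit 4, nat_lit 17, nat_lit 18, nat_lit 19], [nat_lit 1, nat_lit 2, nat_lit 10, nat_lit 19, nat_lit 5], [nat_lit 1, nat_lit 2, nat_lit 4, nat_lit 5, nat_lit 10], [nat_lit 2, nat_lit 1, nat_lit 10, nat_lit 19, nat_lit 5], [nat_lit 2, nat_lit 1, nat_lit 4, nat_lit 5, nat_lit 10], [nat_lit 2, nat_lit 1, nat_lit 3, nat_lit 9, nat_lit 19, nat_lit 5], [nat_lit 2, nat_lit 1, nat_lit 3, nat_lit 5], [nat_lit 2, nat_lit 4, nat_lit 2, nat_lit 1, nat_lit 10, nat_lit 19], [nat_lit 3, nat_lit 1, nat_lit 4, nat_lit 10], [nat_lit 2, nat_lit 4, nat_lit 1, nat_lit 2, nat_lit 10, nat_lit 19], [nat_lit 5, nat_lit 1, nat_lit 10, nat_lit 18, nat_lit 5], [nat_lit 1, nat_lit 3, nat_lit 2, nat_lit 1, nat_lit 3], [nat_lit 1, nat_lit 9, nat_lit 17, nat_lit 19, nat_lit 2], [nat_lit 1, nat_lit 3, nat_lit 1, nat_lit 2, nat_lit 3], [nat_lit 1, nat_lit 9, nat_lit 18, nat_lit 19, nat_lit 2], [nat_lit 2, nat_lit 3, nat_lit 2, nat_lit 9, nat_lit 18], [nat_lit 17, nat_lit 18, nat_lit 19, nat_lit 1, nat_lit 4], [nat_lit 2, nat_lit 3, nat_lit 2, nat_lit 9, nat_lit 17], [nat_lit 19, nat_lit 1, nat_lit 4], [nat_lit 1, nat_lit 3, nat_lit 10], [nat_lit 1, nat_lit 2, nat_lit 3, nat_lit 1, nat_lit 10, nat_lit 19], [nat_lit 2, nat_lit 3, nat_lit 1, nat_lit 5, nat_lit 10, nat_lit 19], [nat_lit 1, nat_lit 3, nat_lit 2, nat_lit 10, nat_lit 18, nat_lit 5], [nat_lit 1, nat_lit 4, nat_lit 17, nat_lit 19, nat_lit 1], [nat_lit 3, nat_lit 1, nat_lit 4, nat_lit 2, nat_lit 9], [nat_lit 3, nat_lit 1, nat_lit 2, nat_lit 5, nat_lit 19], [nat_lit 1, nat_lit 3, nat_lit 2, nat_lit 5, nat_lit 1, nat_lit 9], [nat_lit 1, nat_lit 2, nat_lit 3, nat_lit 2, nat_lit 17], [nat_lit 2, nat_lit 3, nat_lit 9, nat_lit 18, nat_lit 19], [nat_lit 2, nat_lit 1, nat_lit 5, nat_lit 10, nat_lit 19], [nat_lit 1, nat_lit 2, nat_lit 4, nat_lit 10, nat_lit 18, nat_lit 5], [nat_lit 2, nat_lit 10, nat_lit 18], [nat_lit 1, nat_lit 4, nat_lit 2, nat_lit 10, nat_lit 17, nat_lit 19], [nat_lit 10, nat_lit 19, nat_lit 2, nat_lit 5], [nat_lit 4, nat_lit 1, nat_lit 10, nat_lit 18, nat_lit 5], [nat_lit 3, nat_lit 1, nat_lit 4, nat_lit 10, nat_lit 17], [nat_lit 1, nat_lit 4, nat_lit 10, nat_lit 19, nat_lit 1, nat_lit 2], [nat_lit 2, nat_lit 3, nat_lit 1, nat_lit 19, nat_lit 5], [nat_lit 1, nat_lit 3, nat_lit 2, nat_lit 5, nat_lit 9, nat_lit 18], [nat_lit 4, nat_lit 17, nat_lit 19, nat_lit 2], [nat_lit 1, nat_lit 3, nat_lit 2, nat_lit 1, nat_lit 4, nat_lit 9], [nat_lit 2, nat_lit 1, nat_lit 3, nat_lit 5, nat_lit 9, nat_lit 19], [nat_lit 1, nat_lit 2, nat_lit 3, nat_lit 18, nat_lit 5], [nat_lit 1, nat_lit 2, nat_lit 9, nat_lit 17, nat_lit 19, nat_lit 1], [nat_lit 1, nat_lit 2, nat_lit 4, nat_lit 1, nat_lit 17], [nat_lit 2, nat_lit 4, nat_lit 1, nat_lit 3, nat_lit 9], [nat_lit 1, nat_lit 4, nat_lit 17, nat_lit 18, nat_lit 19], [nat_lit 3, nat_lit 1, nat_lit 5, nat_lit 19], [nat_lit 1, nat_lit 3, nat_lit 2, nat_lit 1, nat_lit 5, nat_lit 9], [nat_lit 3, nat_lit 2, nat_lit 5, nat_lit 18], [nat_lit 1, nat_lit 9, nat_lit 19, nat_lit 1, nat_lit 2, nat_lit 4, nat_lit 5], [nat_lit 1, nat_lit 9, nat_lit 19, nat_lit 2], [nat_lit 2, nat_lit 4, nat_lit 2, nat_lit 1], [nat_lit 3, nat_lit 1, nat_lit 9, nat_lit 17, nat_lit 19], [nat_lit 1, nat_lit 3, nat_lit 2, nat_lit 1], [nat_lit 4, nat_lit 1, nat_lit 2, nat_lit 5, nat_lit 17], [nat_lit 9, nat_lit 18, nat_lit 5, nat_lit 19], [nat_lit 1, nat_lit 3, nat_lit 17, nat_lit 19], [nat_lit 1, nat_lit 2, nat_lit 3, nat_lit 1, nat_lit 9, nat_lit 17], [nat_lit 4, nat_lit 2, nat_lit 5, nat_lit 18], [nat_lit 9, nat_lit 18, nat_lit 19, nat_lit 1, nat_lit 5], [nat_lit 4, nat_lit 2, nat_lit 1, nat_lit 4], [nat_lit 3, nat_lit 9, nat_lit 17, nat_lit 19], [nat_lit 4, nat_lit 2, nat_lit 3, nat_lit 5, nat_lit 1, nat_lit 9], [nat_lit 5, nat_lit 19, nat_lit 1, nat_lit 4], [nat_lit 1, nat_lit 2, nat_lit 1, nat_lit 3, nat_lit 2, nat_lit 9], [nat_lit 18, nat_lit 19, nat_lit 1, nat_lit 4], [nat_lit 1, nat_lit 10, nat_lit 17], [nat_lit 2, nat_lit 4, nat_lit 1, nat_lit 10, nat_lit 18, nat_lit 19], [nat_lit 2, nat_lit 19, nat_lit 2, nat_lit 4, nat_lit 5], [nat_lit 1, nat_lit 3, nat_lit 5, nat_lit 9, nat_lit 18], [nat_lit 4, nat_lit 2, nat_lit 3, nat_lit 10], [nat_lit 4, nat_lit 2, nat_lit 10, nat_lit 17, nat_lit 19], [nat_lit 3, nat_lit 2, nat_lit 5, nat_lit 1, nat_lit 3, nat_lit 10], [nat_lit 4, nat_lit 10, nat_lit 19, nat_lit 2, nat_lit 5], [nat_lit 10, nat_lit 19, nat_lit 5, nat_lit 1, nat_lit 2, nat_lit 3], [nat_lit 3, nat_lit 1, nat_lit 5, nat_lit 10], [nat_lit 1, nat_lit 2, nat_lit 4, nat_lit 2, nat_lit 9], [nat_lit 1, nat_lit 2, nat_lit 19, nat_lit 2], [nat_lit 2, nat_lit 4, nat_lit 1, nat_lit 2, nat_lit 3, nat_lit 10], [nat_lit 4, nat_lit 10, nat_lit 17, nat_lit 18, nat_lit 19, nat_lit 2], [nat_lit 4, nat_lit 9, nat_lit 18, nat_lit 5, nat_lit 19, nat_lit 2], [nat_lit 19, nat_lit 2, nat_lit 5, nat_lit 1, nat_lit 19], [nat_lit 1, nat_lit 2, nat_lit 3, nat_lit 1], [nat_lit 1, nat_lit 3, nat_lit 9, nat_lit 19], [nat_lit 1, nat_lit 4, nat_lit 9, nat_lit 19, nat_lit 1, nat_lit 2], [nat_lit 3, nat_lit 1, nat_lit 4, nat_lit 17], [nat_lit 2, nat_lit 3, nat_lit 2, nat_lit 5, nat_lit 17], [nat_lit 3, nat_lit 9, nat_lit 19, nat_lit 5, nat_lit 1], [nat_lit 2, nat_lit 3, nat_lit 2, nat_lit 1, nat_lit 4], [nat_lit 4, nat_lit 9, nat_lit 17, nat_lit 19, nat_lit 1], [nat_lit 1, nat_lit 5, nat_lit 9, nat_lit 19, nat_lit 1, nat_lit 2], [nat_lit 3, nat_lit 1, nat_lit 2, nat_lit 3, nat_lit 5], [nat_lit 4, nat_lit 5, nat_lit 9, nat_lit 18, nat_lit 19, nat_lit 2], [nat_lit 3, nat_lit 5, nat_lit 1, nat_lit 2, nat_lit 3], [nat_lit 1, nat_lit 9, nat_lit 19, nat_lit 1, nat_lit 5, nat_lit 18], [nat_lit 2, nat_lit 4, nat_lit 5], [nat_lit 2, nat_lit 5, nat_lit 1, nat_lit 17], [nat_lit 1, nat_lit 4, nat_lit 9, nat_lit 18, nat_lit 19, nat_lit 1, nat_lit 5], [nat_lit 4, nat_lit 1, nat_lit 5, nat_lit 10], [nat_lit 5, nat_lit 10, nat_lit 18, nat_lit 19, nat_lit 2], [nat_lit 1, nat_lit 2, nat_lit 9, nat_lit 18, nat_lit 19, nat_lit 1], [nat_lit 1, nat_lit 2, nat_lit 4, nat_lit 1, nat_lit 18], [nat_lit 2, nat_lit 3, nat_lit 5, nat_lit 10, nat_lit 19], [nat_lit 4, nat_lit 2, nat_lit 5, nat_lit 1, nat_lit 3, nat_lit 10], [nat_lit 18, nat_lit 5, nat_lit 1, nat_lit 19], [nat_lit 2, nat_lit 4, nat_lit 1, nat_lit 2, nat_lit 5, nat_lit 9], [nat_lit 1, nat_lit 2, nat_lit 10, nat_lit 19], [nat_lit 1, nat_lit 2, nat_lit 4, nat_lit 10], [nat_lit 10, nat_lit 17, nat_lit 18, nat_lit 19, nat_lit 2], [nat_lit 4, nat_lit 1, nat_lit 10, nat_lit 17], [nat_lit 10, nat_lit 19, nat_lit 1, nat_lit 2, nat_lit 4], [nat_lit 3, nat_lit 10, nat_lit 17], [nat_lit 4, nat_lit 9, nat_lit 18, nat_lit 5], [nat_lit 19, nat_lit 2, nat_lit 1, nat_lit 5], [nat_lit 5, nat_lit 1, nat_lit 3, nat_lit 2, nat_lit 4, nat_lit 9], [nat_lit 4, nat_lit 19, nat_lit 1, nat_lit 5], [nat_lit 1, nat_lit 3, nat_lit 5, nat_lit 10, nat_lit 19], [nat_lit 2, nat_lit 3, nat_lit 10, nat_lit 18, nat_lit 5, nat_lit 1], [nat_lit 10, nat_lit 18, nat_lit 19, nat_lit 2], [nat_lit 4, nat_lit 1, nat_lit 10], [nat_lit 2, nat_lit 4, nat_lit 9, nat_lit 18, nat_lit 5, nat_lit 19], [nat_lit 1, nat_lit 4, nat_lit 2, nat_lit 3, nat_lit 5], [nat_lit 2, nat_lit 1, nat_lit 4, nat_lit 5, nat_lit 10, nat_lit 19], [nat_lit 1, nat_lit 2, nat_lit 10, nat_lit 18, nat_lit 5], [nat_lit 3, nat_lit 5, nat_lit 18], [nat_lit 3, nat_lit 5, nat_lit 1, nat_lit 9, nat_lit 19, nat_lit 1], [nat_lit 2, nat_lit 4, nat_lit 2, nat_lit 1, nat_lit 9, nat_lit 19], [nat_lit 3, nat_lit 1, nat_lit 4], [nat_lit 10, nat_lit 19, nat_lit 5, nat_lit 1, nat_lit 2, nat_lit 19], [nat_lit 4, nat_lit 5, nat_lit 10, nat_lit 19, nat_lit 2], [nat_lit 2, nat_lit 4, nat_lit 10, nat_lit 19, nat_lit 2, nat_lit 1], [nat_lit 3, nat_lit 2, nat_lit 4, nat_lit 10, nat_lit 18], [nat_lit 4, nat_lit 9, nat_lit 19, nat_lit 2], [nat_lit 2, nat_lit 4, nat_lit 2, nat_lit 1, nat_lit 3], [nat_lit 1, nat_lit 3, nat_lit 5, nat_lit 9, nat_lit 18, nat_lit 19], [nat_lit 1, nat_lit 5, nat_lit 1, nat_lit 2, nat_lit 4], [nat_lit 3, nat_lit 1, nat_lit 19, nat_lit 1], [nat_lit 1, nat_lit 3, nat_lit 2, nat_lit 9, nat_lit 17], [nat_lit 2, nat_lit 10, nat_lit 18, nat_lit 19, nat_lit 1], [nat_lit 1, nat_lit 4, nat_lit 1, nat_lit 2, nat_lit 10, nat_lit 18], [nat_lit 1, nat_lit 4, nat_lit 9, nat_lit 19, nat_lit 1, nat_lit 5, nat_lit 18], [nat_lit 2, nat_lit 5, nat_lit 1], [nat_lit 3, nat_lit 1, nat_lit 2, nat_lit 17], [nat_lit 3, nat_lit 1, nat_lit 2, nat_lit 9, nat_lit 18, nat_lit 19], [nat_lit 2, nat_lit 3, nat_lit 10, nat_lit 19, nat_lit 5], [nat_lit 2, nat_lit 1, nat_lit 3, nat_lit 2, nat_lit 5, nat_lit 10], [nat_lit 3, nat_lit 2, nat_lit 5, nat_lit 1, nat_lit 10, nat_lit 19], [nat_lit 3, nat_lit 1, nat_lit 5, nat_lit 10, nat_lit 17], [nat_lit 10, nat_lit 19, nat_lit 2, nat_lit 4], [nat_lit 1, nat_lit 3, nat_lit 1, nat_lit 10, nat_lit 18], [nat_lit 4, nat_lit 9, nat_lit 19, nat_lit 1, nat_lit 2, nat_lit 5], [nat_lit 3, nat_lit 1, nat_lit 2, nat_lit 4, nat_lit 5], [nat_lit 2, nat_lit 3, nat_lit 2, nat_lit 1, nat_lit 5, nat_lit 10], [nat_lit 3, nat_lit 2, nat_lit 5, nat_lit 10, nat_lit 19], [nat_lit 2, nat_lit 4, nat_lit 1, nat_lit 3, nat_lit 10], [nat_lit 1, nat_lit 4, nat_lit 10, nat_lit 17, nat_lit 18, nat_lit 19], [nat_lit 3, nat_lit 2, nat_lit 1, nat_lit 10, nat_lit 19], [nat_lit 3, nat_lit 1, nat_lit 2, nat_lit 10], [nat_lit 1, nat_lit 10, nat_lit 19, nat_lit 5, nat_lit 1, nat_lit 19], [nat_lit 4, nat_lit 10, nat_lit 19, nat_lit 2, nat_lit 5, nat_lit 1], [nat_lit 1, nat_lit 4, nat_lit 2, nat_lit 18], [nat_lit 2, nat_lit 9, nat_lit 17, nat_lit 19], [nat_lit 4, nat_lit 2, nat_lit 1, nat_lit 5, nat_lit 1, nat_lit 10], [nat_lit 5, nat_lit 10, nat_lit 19, nat_lit 1], [nat_lit 9, nat_lit 19, nat_lit 5, nat_lit 1, nat_lit 2], [nat_lit 5, nat_lit 1, nat_lit 3], [nat_lit 1, nat_lit 4, nat_lit 1, nat_lit 2, nat_lit 3], [nat_lit 4, nat_lit 9, nat_lit 19, nat_lit 1], [nat_lit 4, nat_lit 1, nat_lit 5, nat_lit 9, nat_lit 17], [nat_lit 18, nat_lit 5, nat_lit 19, nat_lit 2], [nat_lit 4, nat_lit 1, nat_lit 19, nat_lit 1], [nat_lit 3, nat_lit 1, nat_lit 4, nat_lit 9, nat_lit 18], [nat_lit 2, nat_lit 18, nat_lit 19, nat_lit 1], [nat_lit 1, nat_lit 4, nat_lit 1, nat_lit 2, nat_lit 9, nat_lit 18], [nat_lit 1, nat_lit 4, nat_lit 2, nat_lit 17, nat_lit 19], [nat_lit 2, nat_lit 9, nat_lit 18], [nat_lit 4, nat_lit 2, nat_lit 9, nat_lit 17, nat_lit 19], [nat_lit 4, nat_lit 2, nat_lit 3], [nat_lit 3, nat_lit 2, nat_lit 5, nat_lit 1, nat_lit 9, nat_lit 19], [nat_lit 3, nat_lit 1, nat_lit 5, nat_lit 17], [nat_lit 2, nat_lit 9, nat_lit 19, nat_lit 2, nat_lit 1], [nat_lit 1, nat_lit 4, nat_lit 1, nat_lit 17, nat_lit 18], [nat_lit 1, nat_lit 4, nat_lit 1, nat_lit 10, nat_lit 17], [nat_lit 2, nat_lit 10, nat_lit 17, nat_lit 19, nat_lit 1, nat_lit 2], [nat_lit 3, nat_lit 9, nat_lit 18], [nat_lit 19, nat_lit 2, nat_lit 1, nat_lit 4], [nat_lit 4, nat_lit 1, nat_lit 5, nat_lit 9], [nat_lit 5, nat_lit 18, nat_lit 19, nat_lit 2], [nat_lit 1, nat_lit 19, nat_lit 5], [nat_lit 1, nat_lit 2, nat_lit 5, nat_lit 1, nat_lit 3, nat_lit 9], [nat_lit 1, nat_lit 2, nat_lit 4, nat_lit 10, nat_lit 18], [nat_lit 1, nat_lit 2, nat_lit 10, nat_lit 18, nat_lit 19], [nat_lit 1, nat_lit 2, nat_lit 3, nat_lit 5, nat_lit 10, nat_lit 17], [nat_lit 1, nat_lit 2, nat_lit 3, nat_lit 5, nat_lit 10, nat_lit 19], [nat_lit 1, nat_lit 2, nat_lit 1, nat_lit 4, nat_lit 2, nat_lit 10], [nat_lit 1, nat_lit 10, nat_lit 19, nat_lit 1, nat_lit 2], [nat_lit 1, nat_lit 2, nat_lit 3, nat_lit 2, nat_lit 10, nat_lit 17], [nat_lit 2, nat_lit 3, nat_lit 10, nat_lit 18, nat_lit 19], [nat_lit 9, nat_lit 19, nat_lit 2, nat_lit 1, nat_lit 4, nat_lit 5], [nat_lit 3, nat_lit 18, nat_lit 5], [nat_lit 4, nat_lit 2, nat_lit 9, nat_lit 19], [nat_lit 4, nat_lit 2, nat_lit 3, nat_lit 17], [nat_lit 2, nat_lit 3, nat_lit 2, nat_lit 5, nat_lit 10, nat_lit 17], [nat_lit 3, nat_lit 10, nat_lit 19, nat_lit 5, nat_lit 1], [nat_lit 4, nat_lit 1, nat_lit 3, nat_lit 2, nat_lit 10], [nat_lit 1, nat_lit 4, nat_lit 10, nat_lit 18, nat_lit 19], [nat_lit 1, nat_lit 10, nat_lit 18, nat_lit 5, nat_lit 1], [nat_lit 4, nat_lit 1, nat_lit 10, nat_lit 19, nat_lit 5], [nat_lit 1, nat_lit 4, nat_lit 1, nat_lit 2, nat_lit 1], [nat_lit 2, nat_lit 9, nat_lit 19], [nat_lit 4, nat_lit 19, nat_lit 5], [nat_lit 9, nat_lit 19, nat_lit 1, nat_lit 2, nat_lit 5, nat_lit 19], [nat_lit 1, nat_lit 2, nat_lit 1, nat_lit 19, nat_lit 1], [nat_lit 1, nat_lit 4, nat_lit 2, nat_lit 1, nat_lit 9], [nat_lit 2, nat_lit 4, nat_lit 2, nat_lit 17], [nat_lit 1, nat_lit 9, nat_lit 17, nat_lit 19, nat_lit 2, nat_lit 1], [nat_lit 3, nat_lit 1, nat_lit 2, nat_lit 4, nat_lit 10, nat_lit 17], [nat_lit 4, nat_lit 10, nat_lit 17, nat_lit 19, nat_lit 1, nat_lit 2], [nat_lit 1, nat_lit 5, nat_lit 19], [nat_lit 2, nat_lit 4, nat_lit 1, nat_lit 9, nat_lit 18, nat_lit 5], [nat_lit 2, nat_lit 3, nat_lit 1, nat_lit 4, nat_lit 9, nat_lit 17], [nat_lit 1, nat_lit 4, nat_lit 18, nat_lit 19, nat_lit 1], [nat_lit 1, nat_lit 3, nat_lit 1, nat_lit 2, nat_lit 4], [nat_lit 4, nat_lit 9, nat_lit 18, nat_lit 19, nat_lit 2], [nat_lit 1, nat_lit 2, nat_lit 3, nat_lit 5, nat_lit 10], [nat_lit 1, nat_lit 2, nat_lit 3, nat_lit 10, nat_lit 19, nat_lit 5], [nat_lit 1, nat_lit 19, nat_lit 2, nat_lit 5, nat_lit 1, nat_lit 19], [nat_lit 5, nat_lit 9, nat_lit 19, nat_lit 1, nat_lit 4, nat_lit 2], [nat_lit 1, nat_lit 4, nat_lit 1, nat_lit 18], [nat_lit 2, nat_lit 9, nat_lit 17, nat_lit 19, nat_lit 2, nat_lit 1], [nat_lit 2, nat_lit 10], [nat_lit 2, nat_lit 1, nat_lit 4, nat_lit 10, nat_lit 19, nat_lit 1], [nat_lit 1, nat_lit 2, nat_lit 5, nat_lit 10, nat_lit 19], [nat_lit 1, nat_lit 2, nat_lit 4, nat_lit 5, nat_lit 10, nat_lit 17], [nat_lit 1, nat_lit 5, nat_lit 10, nat_lit 17], [nat_lit 1, nat_lit 2, nat_lit 4, nat_lit 5, nat_lit 10, nat_lit 19, nat_lit 2], [nat_lit 4, nat_lit 2, nat_lit 1, nat_lit 3], [nat_lit 4, nat_lit 9, nat_lit 17, nat_lit 19], [nat_lit 5, nat_lit 10], [nat_lit 4, nat_lit 2, nat_lit 1, nat_lit 5, nat_lit 10, nat_lit 19], [nat_lit 10, nat_lit 17, nat_lit 18, nat_lit 19], [nat_lit 4, nat_lit 1, nat_lit 2, nat_lit 10, nat_lit 17], [nat_lit 1, nat_lit 3, nat_lit 2, nat_lit 10, nat_lit 19, nat_lit 5], [nat_lit 1, nat_lit 2, nat_lit 3, nat_lit 5, nat_lit 1, nat_lit 10], [nat_lit 9, nat_lit 19, nat_lit 5, nat_lit 1, nat_lit 2, nat_lit 3], [nat_lit 3, nat_lit 1, nat_lit 5], [nat_lit 4, nat_lit 1, nat_lit 10, nat_lit 19, nat_lit 1], [nat_lit 3, nat_lit 1, nat_lit 4, nat_lit 10, nat_lit 18], [nat_lit 1, nat_lit 3, nat_lit 1, nat_lit 10, nat_lit 17], [nat_lit 10, nat_lit 17, nat_lit 18, nat_lit 19, nat_lit 2, nat_lit 4], [nat_lit 1, nat_lit 3, nat_lit 9, nat_lit 17, nat_lit 18, nat_lit 19], [nat_lit 2, nat_lit 1, nat_lit 3, nat_lit 1], [nat_lit 4, nat_lit 2, nat_lit 9, nat_lit 18, nat_lit 5, nat_lit 19], [nat_lit 4, nat_lit 2, nat_lit 3, nat_lit 18, nat_lit 5], [nat_lit 3, nat_lit 2, nat_lit 19, nat_lit 5], [nat_lit 5, nat_lit 1, nat_lit 2, nat_lit 4, nat_lit 2, nat_lit 9], [nat_lit 4, nat_lit 2, nat_lit 3, nat_lit 9, nat_lit 18], [nat_lit 4, nat_lit 1, nat_lit 2, nat_lit 1, nat_lit 19], [nat_lit 2, nat_lit 3, nat_lit 1, nat_lit 2, nat_lit 10], [nat_lit 3, nat_lit 2, nat_lit 10, nat_lit 18, nat_lit 19], [nat_lit 1, nat_lit 3, nat_lit 2, nat_lit 5, nat_lit 10, nat_lit 19], [nat_lit 5, nat_lit 1, nat_lit 2, nat_lit 4, nat_lit 10], [nat_lit 1, nat_lit 2, nat_lit 5, nat_lit 1, nat_lit 9, nat_lit 17], [nat_lit 1, nat_lit 4, nat_lit 5, nat_lit 19], [nat_lit 2, nat_lit 17, nat_lit 19, nat_lit 1], [nat_lit 1, nat_lit 4, nat_lit 1, nat_lit 2, nat_lit 9, nat_lit 17], [nat_lit 3, nat_lit 2, nat_lit 4, nat_lit 5, nat_lit 9], [nat_lit 4, nat_lit 2, nat_lit 5, nat_lit 19, nat_lit 2], [nat_lit 1, nat_lit 4, nat_lit 2, nat_lit 9, nat_lit 18, nat_lit 19], [nat_lit 2, nat_lit 17], [nat_lit 9, nat_lit 19, nat_lit 5, nat_lit 1, nat_lit 19], [nat_lit 4, nat_lit 2, nat_lit 19, nat_lit 2, nat_lit 5], [nat_lit 4, nat_lit 9, nat_lit 18, nat_lit 19, nat_lit 1], [nat_lit 2, nat_lit 3, nat_lit 1, nat_lit 2, nat_lit 4], [nat_lit 2, nat_lit 4, nat_lit 2, nat_lit 1, nat_lit 19], [nat_lit 3, nat_lit 1, nat_lit 4, nat_lit 9], [nat_lit 4, nat_lit 1, nat_lit 9, nat_lit 18, nat_lit 5], [nat_lit 19, nat_lit 2, nat_lit 5], [nat_lit 2, nat_lit 19, nat_lit 1], [nat_lit 1, nat_lit 4, nat_lit 1, nat_lit 2, nat_lit 9], [nat_lit 2, nat_lit 9], [nat_lit 2, nat_lit 1, nat_lit 4, nat_lit 19, nat_lit 1], [nat_lit 4, nat_lit 1, nat_lit 10, nat_lit 17, nat_lit 19], [nat_lit 1, nat_lit 5, nat_lit 1, nat_lit 10, nat_lit 18, nat_lit 5], [nat_lit 3, nat_lit 1, nat_lit 19, nat_lit 5, nat_lit 1], [nat_lit 3, nat_lit 2, nat_lit 5, nat_lit 9], [nat_lit 4, nat_lit 19, nat_lit 1, nat_lit 2], [nat_lit 3, nat_lit 1, nat_lit 2, nat_lit 4, nat_lit 9], [nat_lit 2, nat_lit 9, nat_lit 19, nat_lit 5], [nat_lit 1, nat_lit 4, nat_lit 2, nat_lit 5, nat_lit 18], [nat_lit 9, nat_lit 18, nat_lit 5, nat_lit 1, nat_lit 19], [nat_lit 2, nat_lit 4, nat_lit 1, nat_lit 2, nat_lit 5], [nat_lit 2, nat_lit 1, nat_lit 4, nat_lit 1, nat_lit 10], [nat_lit 2, nat_lit 1, nat_lit 10, nat_lit 19, nat_lit 1], [nat_lit 4, nat_lit 1, nat_lit 5, nat_lit 19], [nat_lit 1, nat_lit 5, nat_lit 1, nat_lit 9, nat_lit 18], [nat_lit 4, nat_lit 10, nat_lit 18, nat_lit 19], [nat_lit 4, nat_lit 1, nat_lit 2, nat_lit 3, nat_lit 10], [nat_lit 5, nat_lit 10, nat_lit 19, nat_lit 2, nat_lit 1, nat_lit 4], [nat_lit 5, nat_lit 1, nat_lit 10, nat_lit 18], [nat_lit 3, nat_lit 5, nat_lit 10, nat_lit 19], [nat_lit 2, nat_lit 3, nat_lit 2, nat_lit 5, nat_lit 1, nat_lit 10], [nat_lit 10, nat_lit 18, nat_lit 19, nat_lit 1], [nat_lit 4, nat_lit 1, nat_lit 2, nat_lit 1, nat_lit 10], [nat_lit 2, nat_lit 3, nat_lit 2, nat_lit 5], [nat_lit 3, nat_lit 5, nat_lit 9, nat_lit 19, nat_lit 1], [nat_lit 3, nat_lit 1, nat_lit 4, nat_lit 2, nat_lit 10], [nat_lit 1, nat_lit 4, nat_lit 10, nat_lit 17, nat_lit 19, nat_lit 1], [nat_lit 1, nat_lit 2, nat_lit 4, nat_lit 19], [nat_lit 1, nat_lit 2, nat_lit 9], [nat_lit 4, nat_lit 10, nat_lit 18, nat_lit 5, nat_lit 19], [nat_lit 10, nat_lit 19, nat_lit 2, nat_lit 1, nat_lit 5, nat_lit 19], [nat_lit 4, nat_lit 1, nat_lit 17, nat_lit 19], [nat_lit 1, nat_lit 5, nat_lit 1, nat_lit 9, nat_lit 18, nat_lit 5], [nat_lit 5, nat_lit 9, nat_lit 19, nat_lit 1, nat_lit 4], [nat_lit 4, nat_lit 2, nat_lit 3, nat_lit 5, nat_lit 1], [nat_lit 1, nat_lit 2, nat_lit 3, nat_lit 1, nat_lit 2, nat_lit 5, nat_lit 10], [nat_lit 3, nat_lit 10, nat_lit 19, nat_lit 5], [nat_lit 4, nat_lit 1, nat_lit 10, nat_lit 17, nat_lit 18, nat_lit 19], [nat_lit 4, nat_lit 1, nat_lit 3, nat_lit 10, nat_lit 17], [nat_lit 4, nat_lit 19, nat_lit 2, nat_lit 5], [nat_lit 3, nat_lit 2, nat_lit 5, nat_lit 1, nat_lit 3, nat_lit 9], [nat_lit 19, nat_lit 5, nat_lit 1, nat_lit 2, nat_lit 3], [nat_lit 3, nat_lit 1, nat_lit 5, nat_lit 9], [nat_lit 4, nat_lit 2, nat_lit 3, nat_lit 9], [nat_lit 4, nat_lit 2, nat_lit 17, nat_lit 19], [nat_lit 4, nat_lit 2, nat_lit 5, nat_lit 1, nat_lit 9], [nat_lit 2, nat_lit 5, nat_lit 19], [nat_lit 2, nat_lit 5, nat_lit 1, nat_lit 3, nat_lit 2, nat_lit 10], [nat_lit 5, nat_lit 1, nat_lit 10, nat_lit 19, nat_lit 1], [nat_lit 4, nat_lit 5, nat_lit 10, nat_lit 18, nat_lit 19], [nat_lit 4, nat_lit 1, nat_lit 2, nat_lit 3, nat_lit 5, nat_lit 10], [nat_lit 10, nat_lit 17, nat_lit 19, nat_lit 2, nat_lit 4], [nat_lit 1, nat_lit 3, nat_lit 1, nat_lit 10, nat_lit 17, nat_lit 18], [nat_lit 1, nat_lit 4, nat_lit 2, nat_lit 1, nat_lit 3], [nat_lit 4, nat_lit 9, nat_lit 17, nat_lit 18, nat_lit 19, nat_lit 1], [nat_lit 3, nat_lit 2, nat_lit 1, nat_lit 3, nat_lit 5], [nat_lit 1, nat_lit 9, nat_lit 19, nat_lit 2, nat_lit 5, nat_lit 1], [nat_lit 1, nat_lit 9, nat_lit 18, nat_lit 5], [nat_lit 2, nat_lit 4, nat_lit 1, nat_lit 5, nat_lit 19], [nat_lit 1, nat_lit 10, nat_lit 19, nat_lit 1, nat_lit 5], [nat_lit 2, nat_lit 4, nat_lit 5, nat_lit 10, nat_lit 18], [nat_lit 3, nat_lit 1, nat_lit 9, nat_lit 19, nat_lit 1], [nat_lit 1, nat_lit 3, nat_lit 2, nat_lit 17], [nat_lit 10, nat_lit 19, nat_lit 1, nat_lit 5, nat_lit 19], [nat_lit 4, nat_lit 2, nat_lit 10, nat_lit 19, nat_lit 5], [nat_lit 4, nat_lit 10, nat_lit 17, nat_lit 18, nat_lit 19], [nat_lit 4, nat_lit 1, nat_lit 2, nat_lit 3, nat_lit 10, nat_lit 17], [nat_lit 1, nat_lit 4, nat_lit 2, nat_lit 5, nat_lit 9], [nat_lit 2, nat_lit 18, nat_lit 5, nat_lit 19], [nat_lit 4, nat_lit 2, nat_lit 19], [nat_lit 4, nat_lit 2, nat_lit 3, nat_lit 9, nat_lit 17], [nat_lit 1, nat_lit 5, nat_lit 10, nat_lit 18], [nat_lit 2, nat_lit 4, nat_lit 1, nat_lit 10, nat_lit 19, nat_lit 5], [nat_lit 1, nat_lit 2, nat_lit 3, nat_lit 1, nat_lit 19], [nat_lit 1, nat_lit 3, nat_lit 9], [nat_lit 2, nat_lit 3, nat_lit 1, nat_lit 10, nat_lit 17], [nat_lit 1, nat_lit 3, nat_lit 2, nat_lit 10, nat_lit 18, nat_lit 19], [nat_lit 4, nat_lit 2, nat_lit 10, nat_lit 18], [nat_lit 10, nat_lit 17, nat_lit 18, nat_lit 19, nat_lit 1], [nat_lit 4, nat_lit 2, nat_lit 10, nat_lit 17], [nat_lit 10, nat_lit 19, nat_lit 1], [nat_lit 3, nat_lit 1], [nat_lit 2, nat_lit 9, nat_lit 19, nat_lit 1, nat_lit 2, nat_lit 4], [nat_lit 3, nat_lit 1, nat_lit 17, nat_lit 18], [nat_lit 2, nat_lit 9, nat_lit 19, nat_lit 2, nat_lit 1, nat_lit 4], [nat_lit 4, nat_lit 18, nat_lit 19, nat_lit 2], [nat_lit 1, nat_lit 3, nat_lit 1, nat_lit 2, nat_lit 4, nat_lit 9], [nat_lit 1, nat_lit 2, nat_lit 3, nat_lit 5, nat_lit 9, nat_lit 19], [nat_lit 1, nat_lit 2, nat_lit 3, nat_lit 5, nat_lit 17], [nat_lit 4, nat_lit 1, nat_lit 2, nat_lit 17], [nat_lit 9, nat_lit 17, nat_lit 18, nat_lit 19], [nat_lit 4, nat_lit 1, nat_lit 9, nat_lit 17], [nat_lit 17, nat_lit 18, nat_lit 19, nat_lit 2], [nat_lit 1, nat_lit 10, nat_lit 19, nat_lit 1, nat_lit 5, nat_lit 19], [nat_lit 2, nat_lit 4, nat_lit 5, nat_lit 10, nat_lit 18, nat_lit 19], [nat_lit 1, nat_lit 4, nat_lit 2, nat_lit 3, nat_lit 10], [nat_lit 1, nat_lit 2, nat_lit 1, nat_lit 4, nat_lit 10, nat_lit 19], [nat_lit 4, nat_lit 1, nat_lit 2, nat_lit 3, nat_lit 10, nat_lit 18], [nat_lit 4, nat_lit 10, nat_lit 19], [nat_lit 5, nat_lit 1, nat_lit 3, nat_lit 2, nat_lit 4], [nat_lit 4, nat_lit 9, nat_lit 19, nat_lit 1, nat_lit 5], [nat_lit 1, nat_lit 4, nat_lit 2, nat_lit 5], [nat_lit 2, nat_lit 9, nat_lit 18, nat_lit 5, nat_lit 19], [nat_lit 1, nat_lit 2, nat_lit 3, nat_lit 1, nat_lit 9], [nat_lit 1, nat_lit 3, nat_lit 19], [nat_lit 1, nat_lit 3, nat_lit 2, nat_lit 4, nat_lit 10, nat_lit 18], [nat_lit 2, nat_lit 4, nat_lit 10, nat_lit 17, nat_lit 19, nat_lit 2], [nat_lit 1, nat_lit 4, nat_lit 2, nat_lit 3, nat_lit 5, nat_lit 10], [nat_lit 2, nat_lit 4, nat_lit 10, nat_lit 18, nat_lit 5, nat_lit 19], [nat_lit 5, nat_lit 1, nat_lit 2, nat_lit 4, nat_lit 2, nat_lit 10], [nat_lit 3, nat_lit 2, nat_lit 10, nat_lit 19, nat_lit 5], [nat_lit 2, nat_lit 4, nat_lit 9, nat_lit 18, nat_lit 19, nat_lit 2], [nat_lit 3, nat_lit 2, nat_lit 4, nat_lit 1], [nat_lit 2, nat_lit 4, nat_lit 1, nat_lit 9, nat_lit 19], [nat_lit 1, nat_lit 17, nat_lit 18], [nat_lit 1, nat_lit 3, nat_lit 10, nat_lit 17, nat_lit 19], [nat_lit 1, nat_lit 2, nat_lit 3, nat_lit 1, nat_lit 10, nat_lit 17], [nat_lit 1, nat_lit 4, nat_lit 2, nat_lit 1, nat_lit 5, nat_lit 10], [nat_lit 10, nat_lit 18, nat_lit 5, nat_lit 19, nat_lit 1], [nat_lit 2, nat_lit 4, nat_lit 1, nat_lit 10, nat_lit 17], [nat_lit 1, nat_lit 10, nat_lit 18, nat_lit 19], [nat_lit 2, nat_lit 3, nat_lit 2, nat_lit 5, nat_lit 1, nat_lit 9], [nat_lit 3, nat_lit 5, nat_lit 19], [nat_lit 3, nat_lit 1, nat_lit 18], [nat_lit 1, nat_lit 3, nat_lit 1, nat_lit 2, nat_lit 9, nat_lit 19], [nat_lit 3, nat_lit 5, nat_lit 1, nat_lit 9, nat_lit 18, nat_lit 19], [nat_lit 3, nat_lit 5, nat_lit 1], [nat_lit 2, nat_lit 3, nat_lit 17], [nat_lit 9, nat_lit 19, nat_lit 1, nat_lit 4, nat_lit 2], [nat_lit 2, nat_lit 4, nat_lit 1, nat_lit 2, nat_lit 3, nat_lit 9], [nat_lit 4, nat_lit 17, nat_lit 18, nat_lit 19, nat_lit 2], [nat_lit 10, nat_lit 19, nat_lit 2, nat_lit 5, nat_lit 1, nat_lit 19], [nat_lit 4, nat_lit 10, nat_lit 18, nat_lit 5, nat_lit 19, nat_lit 2], [nat_lit 1, nat_lit 2, nat_lit 3, nat_lit 1, nat_lit 10], [nat_lit 1, nat_lit 3, nat_lit 10, nat_lit 19], [nat_lit 3, nat_lit 1, nat_lit 10, nat_lit 18, nat_lit 19], [nat_lit 1, nat_lit 3, nat_lit 1, nat_lit 2, nat_lit 10], [nat_lit 3, nat_lit 2, nat_lit 5, nat_lit 19], [nat_lit 2, nat_lit 3, nat_lit 2, nat_lit 1, nat_lit 5, nat_lit 9], [nat_lit 1, nat_lit 10, nat_lit 19, nat_lit 5], [nat_lit 1, nat_lit 2, nat_lit 5, nat_lit 1, nat_lit 3, nat_lit 10], [nat_lit 2, nat_lit 3, nat_lit 5, nat_lit 9, nat_lit 18, nat_lit 19], [nat_lit 1, nat_lit 2, nat_lit 3, nat_lit 2, nat_lit 5, nat_lit 17], [nat_lit 4, nat_lit 1, nat_lit 10, nat_lit 18, nat_lit 5, nat_lit 19], [nat_lit 1, nat_lit 5, nat_lit 1, nat_lit 10, nat_lit 17], [nat_lit 19, nat_lit 5, nat_lit 1, nat_lit 2, nat_lit 4], [nat_lit 5, nat_lit 1, nat_lit 9], [nat_lit 1, nat_lit 2, nat_lit 3, nat_lit 2, nat_lit 5, nat_lit 9, nat_lit 17], [nat_lit 2, nat_lit 3, nat_lit 5, nat_lit 18, nat_lit 19], [nat_lit 4, nat_lit 5, nat_lit 19, nat_lit 2, nat_lit 1], [nat_lit 1, nat_lit 3, nat_lit 2, nat_lit 4, nat_lit 5, nat_lit 9], [nat_lit 2, nat_lit 4, nat_lit 5, nat_lit 17], [nat_lit 1, nat_lit 9, nat_lit 18, nat_lit 19, nat_lit 1, nat_lit 5], [nat_lit 5, nat_lit 10, nat_lit 19, nat_lit 2, nat_lit 1], [nat_lit 5, nat_lit 1, nat_lit 3, nat_lit 10, nat_lit 18], [nat_lit 1, nat_lit 3, nat_lit 1, nat_lit 10], [nat_lit 10, nat_lit 18, nat_lit 19, nat_lit 2, nat_lit 4], [nat_lit 1, nat_lit 2, nat_lit 1, nat_lit 3, nat_lit 1], [nat_lit 1, nat_lit 3, nat_lit 2, nat_lit 9, nat_lit 19], [nat_lit 1, nat_lit 2, nat_lit 4, nat_lit 1, nat_lit 9, nat_lit 19], [nat_lit 1, nat_lit 3, nat_lit 2, nat_lit 4], [nat_lit 4, nat_lit 1, nat_lit 2, nat_lit 10, nat_lit 19], [nat_lit 10, nat_lit 18], [nat_lit 1, nat_lit 5, nat_lit 1, nat_lit 10], [nat_lit 4, nat_lit 1, nat_lit 5, nat_lit 10, nat_lit 18, nat_lit 19], [nat_lit 1, nat_lit 2, nat_lit 5, nat_lit 1, nat_lit 10], [nat_lit 1, nat_lit 4, nat_lit 10, nat_lit 19, nat_lit 5], [nat_lit 2, nat_lit 3, nat_lit 18, nat_lit 5, nat_lit 19], [nat_lit 1, nat_lit 2, nat_lit 3, nat_lit 2, nat_lit 5, nat_lit 9], [nat_lit 2, nat_lit 4, nat_lit 1, nat_lit 19], [nat_lit 1, nat_lit 9, nat_lit 17, nat_lit 18], [nat_lit 19, nat_lit 1, nat_lit 2, nat_lit 4], [nat_lit 3, nat_lit 9, nat_lit 17], [nat_lit 2, nat_lit 4, nat_lit 1, nat_lit 5, nat_lit 10, nat_lit 19], [nat_lit 1, nat_lit 10, nat_lit 18, nat_lit 5], [nat_lit 3, nat_lit 1, nat_lit 10, nat_lit 17, nat_lit 18, nat_lit 19], [nat_lit 1, nat_lit 3, nat_lit 1, nat_lit 2, nat_lit 10, nat_lit 17], [nat_lit 1, nat_lit 2, nat_lit 5, nat_lit 1, nat_lit 10, nat_lit 17], [nat_lit 1, nat_lit 4, nat_lit 5, nat_lit 10, nat_lit 19], [nat_lit 10, nat_lit 17, nat_lit 19, nat_lit 1, nat_lit 2, nat_lit 4], [nat_lit 3, nat_lit 10], [nat_lit 4, nat_lit 9, nat_lit 18, nat_lit 19], [nat_lit 4, nat_lit 1, nat_lit 2, nat_lit 3], [nat_lit 1, nat_lit 5, nat_lit 1, nat_lit 10, nat_lit 18], [nat_lit 4, nat_lit 1, nat_lit 5, nat_lit 10, nat_lit 19], [nat_lit 1, nat_lit 2, nat_lit 4, nat_lit 2, nat_lit 9, nat_lit 18], [nat_lit 1, nat_lit 2, nat_lit 18, nat_lit 19, nat_lit 2], [nat_lit 3, nat_lit 10, nat_lit 18, nat_lit 5], [nat_lit 10, nat_lit 19, nat_lit 2, nat_lit 1, nat_lit 4, nat_lit 5], [nat_lit 3, nat_lit 1, nat_lit 2, nat_lit 19, nat_lit 5], [nat_lit 3, nat_lit 2, nat_lit 1, nat_lit 5, nat_lit 9], [nat_lit 4, nat_lit 9, nat_lit 19, nat_lit 2, nat_lit 1, nat_lit 5], [nat_lit 3, nat_lit 2, nat_lit 1, nat_lit 4, nat_lit 5], [nat_lit 19, nat_lit 5, nat_lit 1, nat_lit 19], [nat_lit 4, nat_lit 2, nat_lit 9, nat_lit 19, nat_lit 2, nat_lit 5], [nat_lit 1, nat_lit 2, nat_lit 1, nat_lit 3, nat_lit 10, nat_lit 19], [nat_lit 1, nat_lit 2, nat_lit 3, nat_lit 2, nat_lit 10], [nat_lit 9, nat_lit 17, nat_lit 18, nat_lit 19, nat_lit 1], [nat_lit 4, nat_lit 2, nat_lit 18], [nat_lit 1, nat_lit 9, nat_lit 17, nat_lit 18, nat_lit 19], [nat_lit 2, nat_lit 4, nat_lit 1], [nat_lit 4, nat_lit 9, nat_lit 19, nat_lit 1, nat_lit 2], [nat_lit 3, nat_lit 1, nat_lit 2, nat_lit 4], [nat_lit 1, nat_lit 3, nat_lit 1, nat_lit 2, nat_lit 9, nat_lit 17], [nat_lit 3, nat_lit 1, nat_lit 17, nat_lit 18, nat_lit 19], [nat_lit 10, nat_lit 17, nat_lit 18], [nat_lit 1, nat_lit 4, nat_lit 2, nat_lit 10, nat_lit 19, nat_lit 2], [nat_lit 3, nat_lit 1, nat_lit 2, nat_lit 1, nat_lit 19], [nat_lit 1, nat_lit 4, nat_lit 2, nat_lit 1, nat_lit 4, nat_lit 9], [nat_lit 3, nat_lit 1, nat_lit 2, nat_lit 4, nat_lit 10], [nat_lit 4, nat_lit 10, nat_lit 19, nat_lit 1, nat_lit 2], [nat_lit 2, nat_lit 5, nat_lit 9, nat_lit 18], [nat_lit 1, nat_lit 4, nat_lit 2, nat_lit 19, nat_lit 5], [nat_lit 1, nat_lit 3, nat_lit 2, nat_lit 5, nat_lit 19], [nat_lit 5, nat_lit 1, nat_lit 2, nat_lit 4, nat_lit 9], [nat_lit 1, nat_lit 2, nat_lit 1, nat_lit 19], [nat_lit 1, nat_lit 4, nat_lit 2, nat_lit 9], [nat_lit 4, nat_lit 1, nat_lit 2, nat_lit 5, nat_lit 1], [nat_lit 5, nat_lit 9, nat_lit 18, nat_lit 19, nat_lit 1], [nat_lit 2, nat_lit 18, nat_lit 19], [nat_lit 1, nat_lit 4, nat_lit 2, nat_lit 9, nat_lit 17], [nat_lit 1, nat_lit 2, nat_lit 5, nat_lit 19], [nat_lit 1, nat_lit 2, nat_lit 4, nat_lit 5, nat_lit 9, nat_lit 17], [nat_lit 1, nat_lit 4, nat_lit 2, nat_lit 5, nat_lit 19], [nat_lit 2, nat_lit 9, nat_lit 18, nat_lit 5], [nat_lit 18, nat_lit 5, nat_lit 19, nat_lit 1], [nat_lit 1, nat_lit 4, nat_lit 2, nat_lit 1, nat_lit 5, nat_lit 9], [nat_lit 4, nat_lit 9, nat_lit 17, nat_lit 19, nat_lit 1, nat_lit 2], [nat_lit 3, nat_lit 1, nat_lit 2, nat_lit 4, nat_lit 17], [nat_lit 3, nat_lit 1, nat_lit 9, nat_lit 19, nat_lit 5, nat_lit 1], [nat_lit 3, nat_lit 2, nat_lit 5], [nat_lit 2, nat_lit 1, nat_lit 4, nat_lit 2, nat_lit 5, nat_lit 10], [nat_lit 2, nat_lit 1, nat_lit 10, nat_lit 19, nat_lit 2, nat_lit 5], [nat_lit 2, nat_lit 4, nat_lit 9, nat_lit 19, nat_lit 2, nat_lit 1], [nat_lit 3, nat_lit 2, nat_lit 4, nat_lit 18], [nat_lit 9, nat_lit 19, nat_lit 2, nat_lit 4, nat_lit 1], [nat_lit 1, nat_lit 3, nat_lit 18], [nat_lit 3, nat_lit 2, nat_lit 18, nat_lit 5], [nat_lit 2, nat_lit 3, nat_lit 1, nat_lit 2, nat_lit 9, nat_lit 19, nat_lit 5], [nat_lit 1, nat_lit 2, nat_lit 4, nat_lit 2, nat_lit 5, nat_lit 10], [nat_lit 5, nat_lit 1, nat_lit 2, nat_lit 10, nat_lit 19], [nat_lit 1, nat_lit 4, nat_lit 2, nat_lit 10], [nat_lit 1, nat_lit 2, nat_lit 1, nat_lit 10, nat_lit 19], [nat_lit 2, nat_lit 3, nat_lit 1, nat_lit 9, nat_lit 19], [nat_lit 1, nat_lit 3, nat_lit 1, nat_lit 2, nat_lit 1], [nat_lit 1, nat_lit 3, nat_lit 1, nat_lit 9, nat_lit 17, nat_lit 18], [nat_lit 17, nat_lit 19, nat_lit 2, nat_lit 4], [nat_lit 2, nat_lit 1, nat_lit 9, nat_lit 19, nat_lit 1], [nat_lit 2, nat_lit 1, nat_lit 4, nat_lit 1], [nat_lit 2, nat_lit 4, nat_lit 10, nat_lit 17, nat_lit 19], [nat_lit 4, nat_lit 2, nat_lit 3, nat_lit 1, nat_lit 10], [nat_lit 3, nat_lit 5, nat_lit 9, nat_lit 18], [nat_lit 3, nat_lit 5, nat_lit 1, nat_lit 19, nat_lit 1], [nat_lit 1, nat_lit 2, nat_lit 4, nat_lit 2, nat_lit 18, nat_lit 5], [nat_lit 2, nat_lit 5, nat_lit 1, nat_lit 9, nat_lit 19], [nat_lit 2, nat_lit 1, nat_lit 4, nat_lit 2, nat_lit 3, nat_lit 10], [nat_lit 2, nat_lit 4, nat_lit 10, nat_lit 19, nat_lit 2], [nat_lit 1, nat_lit 3, nat_lit 5, nat_lit 17], [nat_lit 1, nat_lit 2, nat_lit 3, nat_lit 1, nat_lit 5, nat_lit 9, nat_lit 19], [nat_lit 1, nat_lit 2, nat_lit 5, nat_lit 1], [nat_lit 1, nat_lit 4, nat_lit 9, nat_lit 19, nat_lit 5], [nat_lit 2, nat_lit 4, nat_lit 1, nat_lit 18], [nat_lit 1, nat_lit 9, nat_lit 17, nat_lit 19], [nat_lit 2, nat_lit 1, nat_lit 4, nat_lit 2, nat_lit 5], [nat_lit 2, nat_lit 1, nat_lit 9, nat_lit 19, nat_lit 2, nat_lit 5], [nat_lit 1], [nat_lit 1, nat_lit 2, nat_lit 4, nat_lit 9, nat_lit 19, nat_lit 2], [nat_lit 1, nat_lit 4, nat_lit 2, nat_lit 1, nat_lit 9, nat_lit 19, nat_lit 5], [nat_lit 3, nat_lit 2, nat_lit 4, nat_lit 5, nat_lit 18], [nat_lit 4, nat_lit 5, nat_lit 17], [nat_lit 9, nat_lit 19, nat_lit 1, nat_lit 2, nat_lit 5], [nat_lit 2, nat_lit 4, nat_lit 2, nat_lit 18], [nat_lit 1, nat_lit 9, nat_lit 17, nat_lit 19, nat_lit 1, nat_lit 2], [nat_lit 4, nat_lit 2, nat_lit 1, nat_lit 5, nat_lit 19], [nat_lit 5, nat_lit 9], [nat_lit 3, nat_lit 1, nat_lit 9, nat_lit 19], [nat_lit 1, nat_lit 3, nat_lit 1, nat_lit 2, nat_lit 18], [nat_lit 5, nat_lit 10, nat_lit 19, nat_lit 2], [nat_lit 4, nat_lit 1, nat_lit 5, nat_lit 10, nat_lit 18], [nat_lit 1, nat_lit 10, nat_lit 17, nat_lit 18, nat_lit 19, nat_lit 2], [nat_lit 2, nat_lit 4, nat_lit 1, nat_lit 2, nat_lit 10], [nat_lit 2, nat_lit 3, nat_lit 5, nat_lit 17], [nat_lit 3, nat_lit 9, nat_lit 19, nat_lit 5, nat_lit 1, nat_lit 2], [nat_lit 2, nat_lit 4, nat_lit 2, nat_lit 5, nat_lit 1, nat_lit 9], [nat_lit 1, nat_lit 2, nat_lit 5, nat_lit 19, nat_lit 2], [nat_lit 1, nat_lit 9, nat_lit 18], [nat_lit 2, nat_lit 4, nat_lit 1, nat_lit 17, nat_lit 19], [nat_lit 3, nat_lit 2, nat_lit 4, nat_lit 17], [nat_lit 4, nat_lit 2, nat_lit 9, nat_lit 19, nat_lit 2], [nat_lit 1, nat_lit 2, nat_lit 1, nat_lit 4, nat_lit 1], [nat_lit 1, nat_lit 9, nat_lit 19], [nat_lit 2, nat_lit 5, nat_lit 10, nat_lit 19, nat_lit 1, nat_lit 2], [nat_lit 4, nat_lit 5, nat_lit 10], [nat_lit 1, nat_lit 3, nat_lit 10, nat_lit 17, nat_lit 18, nat_lit 19], [nat_lit 2, nat_lit 1, nat_lit 3, nat_lit 1, nat_lit 10], [nat_lit 5, nat_lit 9, nat_lit 18], [nat_lit 4, nat_lit 1, nat_lit 2, nat_lit 5, nat_lit 19], [nat_lit 10, nat_lit 19, nat_lit 2, nat_lit 5, nat_lit 1], [nat_lit 10, nat_lit 18, nat_lit 5, nat_lit 1, nat_lit 3], [nat_lit 4, nat_lit 2, nat_lit 1, nat_lit 5, nat_lit 10], [nat_lit 5, nat_lit 10, nat_lit 19], [nat_lit 3, nat_lit 10, nat_lit 18, nat_lit 5, nat_lit 1], [nat_lit 10, nat_lit 19, nat_lit 2, nat_lit 4, nat_lit 5], [nat_lit 1, nat_lit 2, nat_lit 3, nat_lit 1, nat_lit 10, nat_lit 18], [nat_lit 1, nat_lit 3, nat_lit 10, nat_lit 18, nat_lit 19], [nat_lit 4, nat_lit 1, nat_lit 2, nat_lit 10, nat_lit 19, nat_lit 5], [nat_lit 10, nat_lit 18, nat_lit 5], [nat_lit 3, nat_lit 5, nat_lit 1, nat_lit 10, nat_lit 18], [nat_lit 3, nat_lit 5, nat_lit 1, nat_lit 10, nat_lit 19], [nat_lit 4, nat_lit 1, nat_lit 2, nat_lit 18, nat_lit 5], [nat_lit 9, nat_lit 19, nat_lit 5], [nat_lit 1, nat_lit 2, nat_lit 4, nat_lit 1, nat_lit 2, nat_lit 5, nat_lit 10], [nat_lit 1, nat_lit 10, nat_lit 19, nat_lit 5, nat_lit 1, nat_lit 2], [nat_lit 3, nat_lit 17], [nat_lit 9, nat_lit 19, nat_lit 1, nat_lit 2, nat_lit 4], [nat_lit 3, nat_lit 18, nat_lit 5, nat_lit 19], [nat_lit 2, nat_lit 3, nat_lit 5, nat_lit 1, nat_lit 2, nat_lit 9], [nat_lit 4, nat_lit 1, nat_lit 3, nat_lit 18], [nat_lit 4, nat_lit 1, nat_lit 9, nat_lit 19], [nat_lit 2, nat_lit 3, nat_lit 5, nat_lit 1, nat_lit 9, nat_lit 19], [nat_lit 1, nat_lit 3, nat_lit 18, nat_lit 5], [nat_lit 1, nat_lit 3, nat_lit 10, nat_lit 19, nat_lit 5], [nat_lit 1, nat_lit 2, nat_lit 3, nat_lit 1, nat_lit 5, nat_lit 10], [nat_lit 2, nat_lit 4, nat_lit 5, nat_lit 9, nat_lit 18, nat_lit 19], [nat_lit 1, nat_lit 19, nat_lit 1, nat_lit 5, nat_lit 19], [nat_lit 3, nat_lit 2, nat_lit 17, nat_lit 19], [nat_lit 2, nat_lit 3, nat_lit 2, nat_lit 1, nat_lit 9], [nat_lit 1, nat_lit 4, nat_lit 2, nat_lit 1, nat_lit 4, nat_lit 10], [nat_lit 3, nat_lit 1, nat_lit 2, nat_lit 1, nat_lit 10, nat_lit 19], [nat_lit 1, nat_lit 4, nat_lit 19, nat_lit 5], [nat_lit 1, nat_lit 2, nat_lit 5, nat_lit 1, nat_lit 9], [nat_lit 1, nat_lit 2, nat_lit 10, nat_lit 18], [nat_lit 1, nat_lit 2, nat_lit 4, nat_lit 10, nat_lit 18, nat_lit 19], [nat_lit 5, nat_lit 10, nat_lit 18, nat_lit 19, nat_lit 1], [nat_lit 4, nat_lit 1, nat_lit 2, nat_lit 5, nat_lit 1, nat_lit 10], [nat_lit 9, nat_lit 19, nat_lit 1], [nat_lit 4, nat_lit 2, nat_lit 17], [nat_lit 1, nat_lit 2, nat_lit 4, nat_lit 1, nat_lit 2], [nat_lit 1, nat_lit 2, nat_lit 9, nat_lit 19, nat_lit 1, nat_lit 2], [nat_lit 3, nat_lit 1, nat_lit 19, nat_lit 5], [nat_lit 3, nat_lit 2, nat_lit 5, nat_lit 1, nat_lit 9], [nat_lit 1, nat_lit 2, nat_lit 3, nat_lit 5, nat_lit 1, nat_lit 9], [nat_lit 1, nat_lit 3, nat_lit 2, nat_lit 19, nat_lit 5], [nat_lit 2, nat_lit 3, nat_lit 5, nat_lit 9, nat_lit 18], [nat_lit 1, nat_lit 3, nat_lit 19, nat_lit 5, nat_lit 1], [nat_lit 4, nat_lit 1, nat_lit 2, nat_lit 10, nat_lit 18, nat_lit 5], [nat_lit 10, nat_lit 19, nat_lit 5], [nat_lit 1, nat_lit 3, nat_lit 1, nat_lit 9, nat_lit 17], [nat_lit 17, nat_lit 18, nat_lit 19, nat_lit 2, nat_lit 4], [nat_lit 9, nat_lit 19, nat_lit 2, nat_lit 4, nat_lit 5], [nat_lit 3, nat_lit 18, nat_lit 5, nat_lit 1], [nat_lit 2, nat_lit 3], [nat_lit 2, nat_lit 1, nat_lit 3, nat_lit 2, nat_lit 9, nat_lit 19], [nat_lit 2, nat_lit 17, nat_lit 19, nat_lit 2, nat_lit 1], [nat_lit 1, nat_lit 4, nat_lit 1, nat_lit 9, nat_lit 18], [nat_lit 5, nat_lit 9, nat_lit 19], [nat_lit 4, nat_lit 2, nat_lit 1, nat_lit 5], [nat_lit 3, nat_lit 5, nat_lit 1, nat_lit 18], [nat_lit 3, nat_lit 5, nat_lit 1, nat_lit 9, nat_lit 19], [nat_lit 1, nat_lit 4, nat_lit 1, nat_lit 9], [nat_lit 2, nat_lit 19, nat_lit 1, nat_lit 2], [nat_lit 1, nat_lit 3, nat_lit 1, nat_lit 9], [nat_lit 18, nat_lit 19, nat_lit 2, nat_lit 4], [nat_lit 4, nat_lit 9, nat_lit 19, nat_lit 1, nat_lit 5, nat_lit 18], [nat_lit 1, nat_lit 4, nat_lit 2, nat_lit 1, nat_lit 3, nat_lit 5], [nat_lit 3, nat_lit 2, nat_lit 5, nat_lit 1, nat_lit 18], [nat_lit 3, nat_lit 1, nat_lit 9, nat_lit 18, nat_lit 5, nat_lit 19], [nat_lit 19, nat_lit 1, nat_lit 5, nat_lit 19], [nat_lit 4, nat_lit 2, nat_lit 9, nat_lit 19, nat_lit 5], [nat_lit 1, nat_lit 5, nat_lit 9, nat_lit 18], [nat_lit 2, nat_lit 4, nat_lit 1, nat_lit 19, nat_lit 5], [nat_lit 3, nat_lit 2, nat_lit 1, nat_lit 19], [nat_lit 3, nat_lit 1, nat_lit 2, nat_lit 9], [nat_lit 2, nat_lit 1], [nat_lit 2, nat_lit 1, nat_lit 4, nat_lit 9, nat_lit 19], [nat_lit 1, nat_lit 2, nat_lit 9, nat_lit 19, nat_lit 2, nat_lit 4], [nat_lit 1, nat_lit 3, nat_lit 2], [nat_lit 4, nat_lit 2, nat_lit 3, nat_lit 5, nat_lit 1, nat_lit 10], [nat_lit 5, nat_lit 10, nat_lit 19, nat_lit 1, nat_lit 4], [nat_lit 1, nat_lit 10, nat_lit 19], [nat_lit 1, nat_lit 2, nat_lit 1, nat_lit 4, nat_lit 1, nat_lit 10], [nat_lit 17, nat_lit 19, nat_lit 1, nat_lit 2], [nat_lit 4, nat_lit 9], [nat_lit 1, nat_lit 5, nat_lit 10, nat_lit 19], [nat_lit 2, nat_lit 4, nat_lit 1, nat_lit 10, nat_lit 18, nat_lit 5], [nat_lit 1, nat_lit 10, nat_lit 17, nat_lit 19], [nat_lit 2, nat_lit 4, nat_lit 1, nat_lit 10, nat_lit 18], [nat_lit 2, nat_lit 3, nat_lit 5, nat_lit 10], [nat_lit 3, nat_lit 5, nat_lit 10, nat_lit 19, nat_lit 1, nat_lit 2], [nat_lit 5, nat_lit 19], [nat_lit 4, nat_lit 2, nat_lit 1, nat_lit 5, nat_lit 9], [nat_lit 1, nat_lit 19, nat_lit 1, nat_lit 4], [nat_lit 1, nat_lit 2, nat_lit 1, nat_lit 3, nat_lit 9], [nat_lit 1, nat_lit 2, nat_lit 3, nat_lit 5, nat_lit 9], [nat_lit 1, nat_lit 2, nat_lit 3, nat_lit 19, nat_lit 5], [nat_lit 3, nat_lit 2, nat_lit 1, nat_lit 5, nat_lit 10], [nat_lit 3, nat_lit 1, nat_lit 2, nat_lit 10, nat_lit 19, nat_lit 5], [nat_lit 9, nat_lit 17, nat_lit 19, nat_lit 2, nat_lit 1], [nat_lit 4, nat_lit 17, nat_lit 18], [nat_lit 2, nat_lit 10, nat_lit 19, nat_lit 2], [nat_lit 1, nat_lit 4, nat_lit 10, nat_lit 17, nat_lit 18], [nat_lit 3, nat_lit 2, nat_lit 5, nat_lit 1], [nat_lit 3, nat_lit 1, nat_lit 9, nat_lit 19, nat_lit 5], [nat_lit 1, nat_lit 4, nat_lit 2, nat_lit 1, nat_lit 10, nat_lit 19], [nat_lit 3, nat_lit 1, nat_lit 2, nat_lit 1, nat_lit 4, nat_lit 10], [nat_lit 3, nat_lit 2, nat_lit 1, nat_lit 4, nat_lit 9], [nat_lit 4, nat_lit 19, nat_lit 2, nat_lit 1], [nat_lit 3, nat_lit 9, nat_lit 18, nat_lit 5, nat_lit 1, nat_lit 19], [nat_lit 3, nat_lit 5, nat_lit 1, nat_lit 17], [nat_lit 4, nat_lit 5, nat_lit 10, nat_lit 18], [nat_lit 2, nat_lit 10, nat_lit 19, nat_lit 2, nat_lit 5, nat_lit 1], [nat_lit 2, nat_lit 5, nat_lit 19, nat_lit 1], [nat_lit 4, nat_lit 2, nat_lit 5, nat_lit 9], [nat_lit 1, nat_lit 4, nat_lit 2, nat_lit 5, nat_lit 10, nat_lit 17], [nat_lit 2, nat_lit 5, nat_lit 10, nat_lit 18, nat_lit 19], [nat_lit 19, nat_lit 1, nat_lit 4, nat_lit 2], [nat_lit 2, nat_lit 3, nat_lit 9, nat_lit 17], [nat_lit 2, nat_lit 10, nat_lit 19, nat_lit 2, nat_lit 1], [nat_lit 1, nat_lit 4, nat_lit 1, nat_lit 10, nat_lit 17, nat_lit 18], [nat_lit 4, nat_lit 1, nat_lit 2, nat_lit 10], [nat_lit 10, nat_lit 18, nat_lit 19], [nat_lit 19, nat_lit 5], [nat_lit 4, nat_lit 1, nat_lit 2, nat_lit 9, nat_lit 18, nat_lit 5], [nat_lit 2, nat_lit 1, nat_lit 3, nat_lit 2, nat_lit 10], [nat_lit 2, nat_lit 3, nat_lit 10, nat_lit 19], [nat_lit 1, nat_lit 3, nat_lit 2, nat_lit 1, nat_lit 3, nat_lit 9], [nat_lit 1, nat_lit 17, nat_lit 19, nat_lit 2], [nat_lit 1, nat_lit 4, nat_lit 2, nat_lit 10, nat_lit 17], [nat_lit 2, nat_lit 10, nat_lit 18, nat_lit 19], [nat_lit 9, nat_lit 19, nat_lit 1, nat_lit 5, nat_lit 18], [nat_lit 4, nat_lit 2, nat_lit 18, nat_lit 5], [nat_lit 5, nat_lit 1, nat_lit 18], [nat_lit 5, nat_lit 9, nat_lit 19, nat_lit 2, nat_lit 1, nat_lit 4], [nat_lit 1, nat_lit 3, nat_lit 2, nat_lit 4, nat_lit 5, nat_lit 18], [nat_lit 2, nat_lit 4, nat_lit 9, nat_lit 19, nat_lit 2, nat_lit 5], [nat_lit 2, nat_lit 10, nat_lit 17], [nat_lit 1, nat_lit 4, nat_lit 2, nat_lit 10, nat_lit 18, nat_lit 19], [nat_lit 1, nat_lit 4, nat_lit 1, nat_lit 2], [nat_lit 2, nat_lit 9, nat_lit 19, nat_lit 1], [nat_lit 4, nat_lit 2, nat_lit 3, nat_lit 5, nat_lit 10], [nat_lit 4, nat_lit 2, nat_lit 5, nat_lit 10, nat_lit 19], [nat_lit 1, nat_lit 4, nat_lit 2, nat_lit 5, nat_lit 9, nat_lit 17], [nat_lit 2, nat_lit 5, nat_lit 18, nat_lit 19], [nat_lit 1, nat_lit 5, nat_lit 1, nat_lit 2, nat_lit 3, nat_lit 9], [nat_lit 1, nat_lit 5, nat_lit 18, nat_lit 19], [nat_lit 3, nat_lit 1, nat_lit 5, nat_lit 9, nat_lit 19], [nat_lit 1, nat_lit 3, nat_lit 2, nat_lit 1, nat_lit 5], [nat_lit 4, nat_lit 9, nat_lit 17, nat_lit 18, nat_lit 19], [nat_lit 4, nat_lit 1, nat_lit 2, nat_lit 3, nat_lit 17], [nat_lit 1, nat_lit 2, nat_lit 1, nat_lit 4, nat_lit 19], [nat_lit 1, nat_lit 4, nat_lit 2, nat_lit 3, nat_lit 9], [nat_lit 1, nat_lit 10, nat_lit 19, nat_lit 1, nat_lit 5, nat_lit 18], [nat_lit 2, nat_lit 4, nat_lit 5, nat_lit 10], [nat_lit 2, nat_lit 3, nat_lit 1, nat_lit 2, nat_lit 10, nat_lit 19, nat_lit 5], [nat_lit 3, nat_lit 2, nat_lit 10, nat_lit 18, nat_lit 5], [nat_lit 1, nat_lit 2, nat_lit 1, nat_lit 4, nat_lit 2], [nat_lit 1, nat_lit 9, nat_lit 19, nat_lit 1, nat_lit 2], [nat_lit 1, nat_lit 9, nat_lit 18, nat_lit 5, nat_lit 19, nat_lit 1], [nat_lit 2, nat_lit 5, nat_lit 1, nat_lit 3], [nat_lit 1, nat_lit 4, nat_lit 1, nat_lit 9, nat_lit 17], [nat_lit 2, nat_lit 17, nat_lit 19, nat_lit 1, nat_lit 2], [nat_lit 4, nat_lit 10, nat_lit 17], [nat_lit 10, nat_lit 19, nat_lit 1, nat_lit 2], [nat_lit 1, nat_lit 9, nat_lit 19, nat_lit 5], [nat_lit 1, nat_lit 2, nat_lit 5, nat_lit 1, nat_lit 3], [nat_lit 1, nat_lit 2, nat_lit 3, nat_lit 2, nat_lit 10, nat_lit 18], [nat_lit 2, nat_lit 3, nat_lit 10, nat_lit 17, nat_lit 19], [nat_lit 5, nat_lit 19, nat_lit 2, nat_lit 1], [nat_lit 5, nat_lit 1, nat_lit 3, nat_lit 9, nat_lit 18], [nat_lit 3, nat_lit 5, nat_lit 9, nat_lit 19, nat_lit 1, nat_lit 2], [nat_lit 2, nat_lit 3, nat_lit 5], [nat_lit 1, nat_lit 2, nat_lit 3, nat_lit 18], [nat_lit 1, nat_lit 2, nat_lit 3, nat_lit 9, nat_lit 18, nat_lit 19], [nat_lit 3, nat_lit 1, nat_lit 2, nat_lit 18, nat_lit 19], [nat_lit 3, nat_lit 1, nat_lit 2, nat_lit 9, nat_lit 17], [nat_lit 19, nat_lit 1, nat_lit 5, nat_lit 18], [nat_lit 4, nat_lit 2, nat_lit 9, nat_lit 18, nat_lit 5], [nat_lit 19, nat_lit 1, nat_lit 2], [nat_lit 4, nat_lit 9, nat_lit 17], [nat_lit 2, nat_lit 1, nat_lit 4, nat_lit 10, nat_lit 19, nat_lit 5], [nat_lit 2, nat_lit 1, nat_lit 5, nat_lit 10], [nat_lit 3, nat_lit 2, nat_lit 5, nat_lit 17], [nat_lit 3, nat_lit 1, nat_lit 5, nat_lit 9, nat_lit 19, nat_lit 1], [nat_lit 19, nat_lit 5, nat_lit 1, nat_lit 2], [nat_lit 5, nat_lit 1, nat_lit 3, nat_lit 9], [nat_lit 4, nat_lit 1, nat_lit 2], [nat_lit 9, nat_lit 18, nat_lit 19], [nat_lit 2, nat_lit 3, nat_lit 5, nat_lit 10, nat_lit 17], [nat_lit 3, nat_lit 10, nat_lit 19, nat_lit 5, nat_lit 1, nat_lit 2], [nat_lit 2, nat_lit 4, nat_lit 10, nat_lit 19, nat_lit 5], [nat_lit 1, nat_lit 4, nat_lit 2, nat_lit 3, nat_lit 5, nat_lit 10, nat_lit 18], [nat_lit 1, nat_lit 2, nat_lit 9, nat_lit 18, nat_lit 19], [nat_lit 1, nat_lit 2, nat_lit 4, nat_lit 18], [nat_lit 2, nat_lit 1, nat_lit 9, nat_lit 19], [nat_lit 2, nat_lit 1, nat_lit 4], [nat_lit 1, nat_lit 2, nat_lit 18, nat_lit 19, nat_lit 1], [nat_lit 1, nat_lit 2, nat_lit 4, nat_lit 1, nat_lit 9, nat_lit 18], [nat_lit 9, nat_lit 18, nat_lit 19, nat_lit 2], [nat_lit 4, nat_lit 1], [nat_lit 4, nat_lit 2, nat_lit 5, nat_lit 10, nat_lit 17], [nat_lit 10, nat_lit 19, nat_lit 1, nat_lit 5], [nat_lit 9, nat_lit 17, nat_lit 19, nat_lit 1], [nat_lit 4, nat_lit 2], [nat_lit 1, nat_lit 5, nat_lit 10, nat_lit 18, nat_lit 19], [nat_lit 1, nat_lit 5, nat_lit 1, nat_lit 2, nat_lit 3, nat_lit 10], [nat_lit 1, nat_lit 2, nat_lit 9, nat_lit 19, nat_lit 2, nat_lit 1], [nat_lit 1, nat_lit 2, nat_lit 4, nat_lit 2, nat_lit 1], [nat_lit 2, nat_lit 4, nat_lit 2, nat_lit 5], [nat_lit 1, nat_lit 9, nat_lit 19, nat_lit 2, nat_lit 1, nat_lit 5], [nat_lit 4, nat_lit 10, nat_lit 18, nat_lit 19, nat_lit 1], [nat_lit 2, nat_lit 3, nat_lit 1, nat_lit 2, nat_lit 4, nat_lit 10], [nat_lit 3, nat_lit 2, nat_lit 17], [nat_lit 2, nat_lit 3, nat_lit 2, nat_lit 1, nat_lit 9, nat_lit 19], [nat_lit 2, nat_lit 10, nat_lit 19], [nat_lit 1, nat_lit 4, nat_lit 1, nat_lit 2, nat_lit 1, nat_lit 10], [nat_lit 2, nat_lit 10, nat_lit 19, nat_lit 2, nat_lit 1, nat_lit 4], [nat_lit 3, nat_lit 1, nat_lit 10, nat_lit 17, nat_lit 18], [nat_lit 1, nat_lit 3, nat_lit 2, nat_lit 9, nat_lit 18, nat_lit 19], [nat_lit 2, nat_lit 3, nat_lit 1, nat_lit 17], [nat_lit 1, nat_lit 3, nat_lit 2, nat_lit 4, nat_lit 9], [nat_lit 1, nat_lit 2, nat_lit 4, nat_lit 1, nat_lit 19], [nat_lit 2, nat_lit 1, nat_lit 9, nat_lit 19, nat_lit 1, nat_lit 4], [nat_lit 2, nat_lit 3, nat_lit 1], [nat_lit 2, nat_lit 1, nat_lit 19, nat_lit 1], [nat_lit 2, nat_lit 1, nat_lit 4, nat_lit 1, nat_lit 9], [nat_lit 3, nat_lit 1, nat_lit 10, nat_lit 19, nat_lit 1, nat_lit 5], [nat_lit 1, nat_lit 3, nat_lit 2, nat_lit 5, nat_lit 10, nat_lit 17], [nat_lit 3, nat_lit 2], [nat_lit 1, nat_lit 9, nat_lit 19, nat_lit 2, nat_lit 1, nat_lit 4], [nat_lit 1, nat_lit 2, nat_lit 4, nat_lit 19, nat_lit 2, nat_lit 5], [nat_lit 1, nat_lit 5, nat_lit 9], [nat_lit 9, nat_lit 19, nat_lit 5, nat_lit 1, nat_lit 2, nat_lit 4], [nat_lit 5, nat_lit 1], [nat_lit 3, nat_lit 2, nat_lit 1, nat_lit 3], [nat_lit 3, nat_lit 1, nat_lit 2, nat_lit 4, nat_lit 9, nat_lit 19], [nat_lit 1, nat_lit 3, nat_lit 2, nat_lit 5, nat_lit 9, nat_lit 19], [nat_lit 5, nat_lit 1, nat_lit 2, nat_lit 4], [nat_lit 1, nat_lit 4, nat_lit 2, nat_lit 1, nat_lit 19], [nat_lit 3, nat_lit 1, nat_lit 2, nat_lit 1, nat_lit 4, nat_lit 9], [nat_lit 18, nat_lit 5, nat_lit 1], [nat_lit 4, nat_lit 1, nat_lit 9, nat_lit 19, nat_lit 1, nat_lit 5], [nat_lit 4, nat_lit 1, nat_lit 17], [nat_lit 9, nat_lit 17, nat_lit 18, nat_lit 19, nat_lit 2], [nat_lit 1, nat_lit 3, nat_lit 1, nat_lit 2, nat_lit 10, nat_lit 19], [nat_lit 3, nat_lit 1, nat_lit 10, nat_lit 18], [nat_lit 5, nat_lit 1, nat_lit 3, nat_lit 2, nat_lit 4, nat_lit 10], [nat_lit 4, nat_lit 10, nat_lit 19, nat_lit 1, nat_lit 5], [nat_lit 2, nat_lit 1, nat_lit 4, nat_lit 2], [nat_lit 2, nat_lit 1, nat_lit 9, nat_lit 19, nat_lit 2], [nat_lit 1, nat_lit 4, nat_lit 2, nat_lit 1, nat_lit 5], [nat_lit 9, nat_lit 18, nat_lit 5, nat_lit 19, nat_lit 1], [nat_lit 2, nat_lit 4, nat_lit 19, nat_lit 2, nat_lit 1], [nat_lit 3, nat_lit 2, nat_lit 4, nat_lit 9, nat_lit 18], [nat_lit 1, nat_lit 4, nat_lit 9, nat_lit 17], [nat_lit 2, nat_lit 18, nat_lit 19, nat_lit 2], [nat_lit 1, nat_lit 3, nat_lit 2, nat_lit 1, nat_lit 9], [nat_lit 3, nat_lit 1, nat_lit 17, nat_lit 19], [nat_lit 1, nat_lit 4, nat_lit 2, nat_lit 19], [nat_lit 1, nat_lit 2, nat_lit 1, nat_lit 9], [nat_lit 2, nat_lit 3, nat_lit 1, nat_lit 9, nat_lit 18], [nat_lit 3, nat_lit 2, nat_lit 19, nat_lit 2], [nat_lit 17, nat_lit 19, nat_lit 1, nat_lit 4], [nat_lit 2, nat_lit 3, nat_lit 2, nat_lit 9], [nat_lit 2, nat_lit 5, nat_lit 9, nat_lit 19, nat_lit 1], [nat_lit 4, nat_lit 2, nat_lit 5], [nat_lit 2, nat_lit 4, nat_lit 9, nat_lit 18, nat_lit 19], [nat_lit 1, nat_lit 4, nat_lit 2, nat_lit 3, nat_lit 17], [nat_lit 1, nat_lit 2, nat_lit 4, nat_lit 5, nat_lit 9, nat_lit 19, nat_lit 2], [nat_lit 1, nat_lit 5, nat_lit 17], [nat_lit 19, nat_lit 2, nat_lit 4, nat_lit 1], [nat_lit 1, nat_lit 3, nat_lit 9, nat_lit 18], [nat_lit 4, nat_lit 2, nat_lit 5, nat_lit 10], [nat_lit 2, nat_lit 5, nat_lit 10, nat_lit 19, nat_lit 1], [nat_lit 1, nat_lit 3, nat_lit 1, nat_lit 2, nat_lit 9, nat_lit 18], [nat_lit 3, nat_lit 1, nat_lit 19], [nat_lit 3, nat_lit 2, nat_lit 10, nat_lit 19, nat_lit 2], [nat_lit 2, nat_lit 3, nat_lit 1, nat_lit 10, nat_lit 18], [nat_lit 1, nat_lit 4, nat_lit 17, nat_lit 19], [nat_lit 2, nat_lit 4, nat_lit 1, nat_lit 3, nat_lit 9, nat_lit 18], [nat_lit 5, nat_lit 19, nat_lit 1], [nat_lit 4, nat_lit 2, nat_lit 1, nat_lit 5, nat_lit 1, nat_lit 9], [nat_lit 2, nat_lit 3, nat_lit 2, nat_lit 1, nat_lit 4, nat_lit 9], [nat_lit 4, nat_lit 17, nat_lit 19, nat_lit 1], [nat_lit 1, nat_lit 4, nat_lit 2, nat_lit 3], [nat_lit 1, nat_lit 2, nat_lit 1, nat_lit 4, nat_lit 9, nat_lit 19], [nat_lit 3, nat_lit 5, nat_lit 9, nat_lit 19], [nat_lit 2, nat_lit 3, nat_lit 2, nat_lit 5, nat_lit 1], [nat_lit 1, nat_lit 4, nat_lit 1, nat_lit 2, nat_lit 3, nat_lit 9], [nat_lit 4, nat_lit 19, nat_lit 1], [nat_lit 2, nat_lit 9, nat_lit 19, nat_lit 2, nat_lit 4], [nat_lit 1, nat_lit 3, nat_lit 17, nat_lit 18], [nat_lit 1, nat_lit 2, nat_lit 3, nat_lit 1, nat_lit 4, nat_lit 9], [nat_lit 1, nat_lit 4, nat_lit 19], [nat_lit 9, nat_lit 19, nat_lit 2, nat_lit 1, nat_lit 4], [nat_lit 3, nat_lit 18], [nat_lit 4, nat_lit 2, nat_lit 1, nat_lit 3, nat_lit 9], [nat_lit 4, nat_lit 17, nat_lit 19], [nat_lit 1, nat_lit 2, nat_lit 4, nat_lit 9, nat_lit 19, nat_lit 2, nat_lit 5], [nat_lit 1, nat_lit 5], [nat_lit 2, nat_lit 4, nat_lit 1, nat_lit 5, nat_lit 9], [nat_lit 1, nat_lit 18, nat_lit 5, nat_lit 19], [nat_lit 4, nat_lit 1, nat_lit 2, nat_lit 3, nat_lit 9, nat_lit 18], [nat_lit 4, nat_lit 19], [nat_lit 1, nat_lit 2, nat_lit 1, nat_lit 19, nat_lit 2], [nat_lit 1, nat_lit 4, nat_lit 9], [nat_lit 1, nat_lit 3, nat_lit 1, nat_lit 17, nat_lit 18], [nat_lit 9, nat_lit 17, nat_lit 19, nat_lit 2, nat_lit 4], [nat_lit 2, nat_lit 3, nat_lit 9, nat_lit 18], [nat_lit 1, nat_lit 17, nat_lit 19, nat_lit 1, nat_lit 4], [nat_lit 1, nat_lit 4, nat_lit 1, nat_lit 10], [nat_lit 2, nat_lit 10, nat_lit 19, nat_lit 1, nat_lit 2], [nat_lit 10, nat_lit 17, nat_lit 19], [nat_lit 4, nat_lit 2, nat_lit 1, nat_lit 10], [nat_lit 3, nat_lit 5, nat_lit 1, nat_lit 18, nat_lit 19], [nat_lit 3, nat_lit 5, nat_lit 1, nat_lit 9], [nat_lit 2, nat_lit 19, nat_lit 2, nat_lit 4], [nat_lit 1, nat_lit 3, nat_lit 9, nat_lit 17, nat_lit 18], [nat_lit 5, nat_lit 1, nat_lit 3, nat_lit 9, nat_lit 17], [nat_lit 5, nat_lit 19, nat_lit 1, nat_lit 2], [nat_lit 3, nat_lit 18, nat_lit 5, nat_lit 1, nat_lit 19], [nat_lit 3, nat_lit 5, nat_lit 1, nat_lit 9, nat_lit 17], [nat_lit 1, nat_lit 2, nat_lit 1, nat_lit 3, nat_lit 1, nat_lit 9], [nat_lit 1, nat_lit 3, nat_lit 2, nat_lit 19], [nat_lit 9, nat_lit 19], [nat_lit 4, nat_lit 1, nat_lit 2, nat_lit 18], [nat_lit 3, nat_lit 1, nat_lit 2, nat_lit 10, nat_lit 17], [nat_lit 3, nat_lit 1, nat_lit 2, nat_lit 10, nat_lit 18, nat_lit 19], [nat_lit 4, nat_lit 2, nat_lit 5, nat_lit 17], [nat_lit 9, nat_lit 19, nat_lit 1, nat_lit 5], [nat_lit 1, nat_lit 9, nat_lit 19, nat_lit 5, nat_lit 1, nat_lit 2], [nat_lit 1, nat_lit 2, nat_lit 4, nat_lit 1, nat_lit 2, nat_lit 5], [nat_lit 5, nat_lit 1, nat_lit 19, nat_lit 1], [nat_lit 2, nat_lit 5, nat_lit 1, nat_lit 3, nat_lit 2, nat_lit 9], [nat_lit 4, nat_lit 1, nat_lit 2, nat_lit 4, nat_lit 10], [nat_lit 3, nat_lit 10, nat_lit 18, nat_lit 19], [nat_lit 4, nat_lit 1, nat_lit 2, nat_lit 5, nat_lit 10, nat_lit 17], [nat_lit 10, nat_lit 18, nat_lit 5, nat_lit 19], [nat_lit 1, nat_lit 4, nat_lit 1, nat_lit 2, nat_lit 3, nat_lit 10], [nat_lit 4, nat_lit 10, nat_lit 19, nat_lit 1], [nat_lit 1, nat_lit 4, nat_lit 19, nat_lit 1, nat_lit 5, nat_lit 18], [nat_lit 2, nat_lit 5, nat_lit 1, nat_lit 9], [nat_lit 3, nat_lit 1, nat_lit 4, nat_lit 9, nat_lit 17], [nat_lit 1, nat_lit 4, nat_lit 19, nat_lit 1, nat_lit 2], [nat_lit 1, nat_lit 2, nat_lit 18, nat_lit 5], [nat_lit 2, nat_lit 1, nat_lit 4, nat_lit 5, nat_lit 9, nat_lit 19], [nat_lit 2, nat_lit 3, nat_lit 5, nat_lit 1, nat_lit 2], [nat_lit 3, nat_lit 9, nat_lit 18, nat_lit 5, nat_lit 19], [nat_lit 1, nat_lit 5, nat_lit 1, nat_lit 17], [nat_lit 4, nat_lit 1, nat_lit 9, nat_lit 18, nat_lit 5, nat_lit 19], [nat_lit 2, nat_lit 3, nat_lit 2, nat_lit 10, nat_lit 17], [nat_lit 10, nat_lit 19, nat_lit 1, nat_lit 4], [nat_lit 4, nat_lit 1, nat_lit 2, nat_lit 5, nat_lit 10], [nat_lit 5, nat_lit 10, nat_lit 18, nat_lit 19], [nat_lit 18, nat_lit 19, nat_lit 1], [nat_lit 4, nat_lit 1, nat_lit 2, nat_lit 1, nat_lit 9], [nat_lit 3, nat_lit 2, nat_lit 1, nat_lit 5, nat_lit 10, nat_lit 19], [nat_lit 3, nat_lit 1, nat_lit 2, nat_lit 5, nat_lit 10, nat_lit 17], [nat_lit 3, nat_lit 5, nat_lit 9, nat_lit 18, nat_lit 19], [nat_lit 4, nat_lit 1, nat_lit 2, nat_lit 4, nat_lit 5], [nat_lit 1, nat_lit 2, nat_lit 3, nat_lit 2, nat_lit 5, nat_lit 10], [nat_lit 2, nat_lit 3, nat_lit 10, nat_lit 18, nat_lit 5, nat_lit 19], [nat_lit 4, nat_lit 17, nat_lit 18, nat_lit 19, nat_lit 1], [nat_lit 1, nat_lit 4, nat_lit 2, nat_lit 1, nat_lit 3, nat_lit 9], [nat_lit 1, nat_lit 4, nat_lit 10, nat_lit 19, nat_lit 1, nat_lit 5, nat_lit 18], [nat_lit 2, nat_lit 5, nat_lit 1, nat_lit 10], [nat_lit 2, nat_lit 10, nat_lit 17, nat_lit 19, nat_lit 1], [nat_lit 1, nat_lit 4, nat_lit 1, nat_lit 2, nat_lit 10, nat_lit 17], [nat_lit 1, nat_lit 2, nat_lit 4, nat_lit 1, nat_lit 10], [nat_lit 1, nat_lit 2, nat_lit 10, nat_lit 19, nat_lit 1], [nat_lit 2, nat_lit 3, nat_lit 2, nat_lit 5, nat_lit 1, nat_lit 10, nat_lit 19], [nat_lit 3, nat_lit 5, nat_lit 10], [nat_lit 1, nat_lit 17, nat_lit 19, nat_lit 2, nat_lit 1], [nat_lit 2, nat_lit 4, nat_lit 2, nat_lit 9, nat_lit 17], [nat_lit 3, nat_lit 5, nat_lit 18, nat_lit 19, nat_lit 1], [nat_lit 2, nat_lit 3, nat_lit 2, nat_lit 5, nat_lit 9, nat_lit 18], [nat_lit 1, nat_lit 3, nat_lit 1, nat_lit 2, nat_lit 17], [nat_lit 3, nat_lit 1, nat_lit 9, nat_lit 17, nat_lit 18, nat_lit 19], [nat_lit 4, nat_lit 5, nat_lit 9, nat_lit 17], [nat_lit 19, nat_lit 1, nat_lit 2, nat_lit 5], [nat_lit 2, nat_lit 1, nat_lit 4, nat_lit 10], [nat_lit 2, nat_lit 1, nat_lit 10, nat_lit 19], [nat_lit 1, nat_lit 10, nat_lit 17, nat_lit 19, nat_lit 2, nat_lit 1], [nat_lit 2, nat_lit 4, nat_lit 2, nat_lit 10, nat_lit 17], [nat_lit 4, nat_lit 1, nat_lit 18, nat_lit 5], [nat_lit 9, nat_lit 19, nat_lit 2, nat_lit 5], [nat_lit 10, nat_lit 19, nat_lit 1, nat_lit 2, nat_lit 4, nat_lit 5], [nat_lit 3, nat_lit 5, nat_lit 10, nat_lit 17], [nat_lit 2, nat_lit 3, nat_lit 1, nat_lit 2, nat_lit 10, nat_lit 19], [nat_lit 3, nat_lit 2, nat_lit 10, nat_lit 18], [nat_lit 1, nat_lit 10, nat_lit 19, nat_lit 1, nat_lit 2, nat_lit 5], [nat_lit 2, nat_lit 4, nat_lit 2, nat_lit 5, nat_lit 10, nat_lit 18], [nat_lit 4, nat_lit 1, nat_lit 2, nat_lit 10, nat_lit 18, nat_lit 19], [nat_lit 10], [nat_lit 2, nat_lit 3, nat_lit 2, nat_lit 10], [nat_lit 10, nat_lit 17, nat_lit 19, nat_lit 1, nat_lit 4], [nat_lit 1, nat_lit 2, nat_lit 5, nat_lit 10, nat_lit 19, nat_lit 1, nat_lit 2], [nat_lit 2, nat_lit 4, nat_lit 2, nat_lit 10, nat_lit 18, nat_lit 5], [nat_lit 5, nat_lit 1, nat_lit 19], [nat_lit 1, nat_lit 3, nat_lit 2, nat_lit 1, nat_lit 3, nat_lit 5, nat_lit 9], [nat_lit 3, nat_lit 1, nat_lit 2, nat_lit 9, nat_lit 19, nat_lit 5], [nat_lit 3, nat_lit 2, nat_lit 1, nat_lit 5], [nat_lit 3, nat_lit 18, nat_lit 5, nat_lit 19, nat_lit 1], [nat_lit 2, nat_lit 3, nat_lit 2, nat_lit 9, nat_lit 18, nat_lit 5], [nat_lit 4, nat_lit 1, nat_lit 2, nat_lit 1, nat_lit 9, nat_lit 19], [nat_lit 4, nat_lit 2, nat_lit 3, nat_lit 18], [nat_lit 1, nat_lit 4, nat_lit 5, nat_lit 18, nat_lit 19], [nat_lit 1, nat_lit 5, nat_lit 1, nat_lit 2, nat_lit 9], [nat_lit 2, nat_lit 4, nat_lit 1, nat_lit 3, nat_lit 18], [nat_lit 1, nat_lit 4, nat_lit 9, nat_lit 17, nat_lit 19], [nat_lit 2, nat_lit 19, nat_lit 2, nat_lit 1], [nat_lit 1, nat_lit 4, nat_lit 1, nat_lit 9, nat_lit 17, nat_lit 18], [nat_lit 3, nat_lit 1, nat_lit 2, nat_lit 3, nat_lit 5, nat_lit 10], [nat_lit 1, nat_lit 5, nat_lit 10, nat_lit 19, nat_lit 1, nat_lit 2], [nat_lit 2, nat_lit 4, nat_lit 2, nat_lit 10], [nat_lit 1, nat_lit 10, nat_lit 19, nat_lit 2, nat_lit 1], [nat_lit 4, nat_lit 1, nat_lit 5, nat_lit 18], [nat_lit 5, nat_lit 9, nat_lit 19, nat_lit 2], [nat_lit 1, nat_lit 10, nat_lit 18, nat_lit 19, nat_lit 1, nat_lit 5], [nat_lit 2, nat_lit 4, nat_lit 5, nat_lit 10, nat_lit 17], [nat_lit 3, nat_lit 5, nat_lit 1, nat_lit 2, nat_lit 4], [nat_lit 5, nat_lit 1, nat_lit 9, nat_lit 18, nat_lit 19], [nat_lit 1, nat_lit 4, nat_lit 5, nat_lit 10], [nat_lit 2, nat_lit 10, nat_lit 18, nat_lit 5, nat_lit 19, nat_lit 2], [nat_lit 3, nat_lit 2, nat_lit 1, nat_lit 10, nat_lit 19, nat_lit 5], [nat_lit 3, nat_lit 1, nat_lit 2, nat_lit 5, nat_lit 10], [nat_lit 1, nat_lit 10, nat_lit 19, nat_lit 1, nat_lit 2, nat_lit 4], [nat_lit 3, nat_lit 1, nat_lit 2, nat_lit 1, nat_lit 10], [nat_lit 4, nat_lit 2, nat_lit 1, nat_lit 10, nat_lit 19], [nat_lit 10, nat_lit 17], [nat_lit 4, nat_lit 2, nat_lit 3, nat_lit 5], [nat_lit 4, nat_lit 2, nat_lit 5, nat_lit 9, nat_lit 19], [nat_lit 1, nat_lit 4, nat_lit 2, nat_lit 5, nat_lit 10, nat_lit 18], [nat_lit 2, nat_lit 10, nat_lit 19, nat_lit 5], [nat_lit 1, nat_lit 2, nat_lit 4, nat_lit 2, nat_lit 17], [nat_lit 1, nat_lit 2, nat_lit 9, nat_lit 17, nat_lit 19, nat_lit 2], [nat_lit 1, nat_lit 2, nat_lit 4, nat_lit 9], [nat_lit 1, nat_lit 2, nat_lit 19], [nat_lit 3, nat_lit 10, nat_lit 18, nat_lit 5, nat_lit 19, nat_lit 1], [nat_lit 2, nat_lit 3, nat_lit 2, nat_lit 10, nat_lit 18, nat_lit 5], [nat_lit 5, nat_lit 19, nat_lit 2, nat_lit 1, nat_lit 4], [nat_lit 5, nat_lit 1, nat_lit 9, nat_lit 18], [nat_lit 3, nat_lit 9], [nat_lit 17, nat_lit 19, nat_lit 1, nat_lit 2, nat_lit 4], [nat_lit 2, nat_lit 4, nat_lit 19, nat_lit 2, nat_lit 5], [nat_lit 1, nat_lit 3, nat_lit 2, nat_lit 4, nat_lit 5, nat_lit 9, nat_lit 18], [nat_lit 2, nat_lit 3, nat_lit 9], [nat_lit 2, nat_lit 1, nat_lit 3, nat_lit 2, nat_lit 19], [nat_lit 3, nat_lit 2, nat_lit 4, nat_lit 5, nat_lit 10, nat_lit 18], [nat_lit 1, nat_lit 4, nat_lit 2, nat_lit 1, nat_lit 10, nat_lit 19, nat_lit 5], [nat_lit 1, nat_lit 2, nat_lit 10, nat_lit 17, nat_lit 19, nat_lit 2], [nat_lit 1, nat_lit 2, nat_lit 4, nat_lit 2, nat_lit 10, nat_lit 17], [nat_lit 2, nat_lit 4, nat_lit 5, nat_lit 10, nat_lit 19, nat_lit 2], [nat_lit 1, nat_lit 3, nat_lit 2, nat_lit 4, nat_lit 10, nat_lit 18, nat_lit 5], [nat_lit 10, nat_lit 19, nat_lit 1, nat_lit 4, nat_lit 2], [nat_lit 2, nat_lit 3, nat_lit 10, nat_lit 17], [nat_lit 2, nat_lit 4, nat_lit 2, nat_lit 5, nat_lit 17], [nat_lit 5, nat_lit 1, nat_lit 2, nat_lit 9, nat_lit 19, nat_lit 1], [nat_lit 4, nat_lit 19, nat_lit 1, nat_lit 5, nat_lit 18], [nat_lit 1, nat_lit 4, nat_lit 2, nat_lit 1, nat_lit 3, nat_lit 5, nat_lit 9], [nat_lit 1, nat_lit 3, nat_lit 1, nat_lit 2, nat_lit 1, nat_lit 10], [nat_lit 2, nat_lit 3, nat_lit 1, nat_lit 10, nat_lit 19], [nat_lit 1, nat_lit 2, nat_lit 4, nat_lit 5, nat_lit 10, nat_lit 19], [nat_lit 1, nat_lit 2, nat_lit 5, nat_lit 10, nat_lit 17], [nat_lit 1, nat_lit 4, nat_lit 2, nat_lit 1, nat_lit 3, nat_lit 5, nat_lit 10], [nat_lit 4, nat_lit 10, nat_lit 19, nat_lit 1, nat_lit 5, nat_lit 18], [nat_lit 1, nat_lit 3, nat_lit 5, nat_lit 10, nat_lit 19, nat_lit 1], [nat_lit 2, nat_lit 3, nat_lit 10, nat_lit 18, nat_lit 5], [nat_lit 2, nat_lit 3, nat_lit 2], [nat_lit 9, nat_lit 17, nat_lit 19, nat_lit 1, nat_lit 4], [nat_lit 3, nat_lit 1, nat_lit 5, nat_lit 9, nat_lit 17], [nat_lit 3, nat_lit 2, nat_lit 5, nat_lit 1, nat_lit 19], [nat_lit 3, nat_lit 10, nat_lit 17, nat_lit 18, nat_lit 19], [nat_lit 1, nat_lit 2, nat_lit 3, nat_lit 2, nat_lit 1, nat_lit 10], [nat_lit 2, nat_lit 3, nat_lit 2, nat_lit 1, nat_lit 4, nat_lit 10], [nat_lit 4, nat_lit 10, nat_lit 17, nat_lit 19, nat_lit 1], [nat_lit 3, nat_lit 1, nat_lit 2, nat_lit 9, nat_lit 18], [nat_lit 3, nat_lit 1, nat_lit 2, nat_lit 17, nat_lit 19], [nat_lit 2, nat_lit 3, nat_lit 9, nat_lit 18, nat_lit 5, nat_lit 19], [nat_lit 1, nat_lit 2, nat_lit 3, nat_lit 2, nat_lit 5], [nat_lit 9, nat_lit 19, nat_lit 1, nat_lit 4], [nat_lit 2, nat_lit 3, nat_lit 2, nat_lit 17], [nat_lit 1, nat_lit 4], [nat_lit 1, nat_lit 2, nat_lit 1, nat_lit 9, nat_lit 19, nat_lit 2], [nat_lit 2, nat_lit 19, nat_lit 2, nat_lit 5], [nat_lit 1, nat_lit 4, nat_lit 5, nat_lit 9, nat_lit 18], [nat_lit 3, nat_lit 5, nat_lit 10, nat_lit 18, nat_lit 19, nat_lit 1], [nat_lit 2, nat_lit 3, nat_lit 2, nat_lit 5, nat_lit 10, nat_lit 18], [nat_lit 1, nat_lit 2, nat_lit 4, nat_lit 10, nat_lit 19, nat_lit 5], [nat_lit 1, nat_lit 2, nat_lit 5, nat_lit 10], [nat_lit 1, nat_lit 10, nat_lit 17, nat_lit 18], [nat_lit 2, nat_lit 4, nat_lit 1, nat_lit 10, nat_lit 19], [nat_lit 5, nat_lit 1, nat_lit 18, nat_lit 5], [nat_lit 2, nat_lit 4, nat_lit 1, nat_lit 2, nat_lit 9, nat_lit 19], [nat_lit 4, nat_lit 5, nat_lit 9, nat_lit 19, nat_lit 2], [nat_lit 19, nat_lit 5, nat_lit 1, nat_lit 2, nat_lit 19], [nat_lit 4, nat_lit 10, nat_lit 18, nat_lit 19, nat_lit 1, nat_lit 5], [nat_lit 1, nat_lit 10, nat_lit 19, nat_lit 1, nat_lit 2, nat_lit 5, nat_lit 19], [nat_lit 3, nat_lit 1, nat_lit 2], [nat_lit 3, nat_lit 2, nat_lit 1, nat_lit 9, nat_lit 19], [nat_lit 4, nat_lit 10, nat_lit 17, nat_lit 19, nat_lit 2], [nat_lit 1, nat_lit 3, nat_lit 2, nat_lit 1, nat_lit 4, nat_lit 10], [nat_lit 1, nat_lit 3, nat_lit 17, nat_lit 18, nat_lit 19], [nat_lit 2, nat_lit 1, nat_lit 3, nat_lit 1, nat_lit 9], [nat_lit 1, nat_lit 4, nat_lit 10, nat_lit 19, nat_lit 1, nat_lit 5], [nat_lit 2, nat_lit 5, nat_lit 1, nat_lit 10, nat_lit 18], [nat_lit 1, nat_lit 5, nat_lit 10, nat_lit 19, nat_lit 1], [nat_lit 5, nat_lit 1, nat_lit 2, nat_lit 3, nat_lit 10], [nat_lit 2, nat_lit 3, nat_lit 1, nat_lit 4, nat_lit 10], [nat_lit 2, nat_lit 1, nat_lit 4, nat_lit 2, nat_lit 10, nat_lit 19], [nat_lit 1, nat_lit 19, nat_lit 2, nat_lit 5], [nat_lit 2, nat_lit 4, nat_lit 2, nat_lit 1, nat_lit 5, nat_lit 9], [nat_lit 1, nat_lit 4, nat_lit 17], [nat_lit 2, nat_lit 9, nat_lit 18, nat_lit 19, nat_lit 2], [nat_lit 1, nat_lit 4, nat_lit 9, nat_lit 18, nat_lit 5], [nat_lit 2, nat_lit 5, nat_lit 19, nat_lit 2], [nat_lit 5, nat_lit 1, nat_lit 2, nat_lit 3, nat_lit 9], [nat_lit 1, nat_lit 5, nat_lit 19, nat_lit 1], [nat_lit 9, nat_lit 17, nat_lit 19, nat_lit 2], [nat_lit 4, nat_lit 1, nat_lit 17, nat_lit 18], [nat_lit 1, nat_lit 5, nat_lit 9, nat_lit 17], [nat_lit 1, nat_lit 2, nat_lit 4, nat_lit 5, nat_lit 19, nat_lit 2], [nat_lit 1, nat_lit 2, nat_lit 3, nat_lit 2, nat_lit 9, nat_lit 18], [nat_lit 2, nat_lit 3, nat_lit 17, nat_lit 19], [nat_lit 5, nat_lit 18], [nat_lit 4, nat_lit 1, nat_lit 2, nat_lit 5, nat_lit 9, nat_lit 19], [nat_lit 10, nat_lit 19, nat_lit 5, nat_lit 1, nat_lit 2, nat_lit 4], [nat_lit 5, nat_lit 1, nat_lit 10], [nat_lit 2, nat_lit 3, nat_lit 1, nat_lit 4, nat_lit 10, nat_lit 17], [nat_lit 1, nat_lit 4, nat_lit 10, nat_lit 18, nat_lit 19, nat_lit 1], [nat_lit 1, nat_lit 2, nat_lit 5, nat_lit 19, nat_lit 1], [nat_lit 2, nat_lit 4, nat_lit 9, nat_lit 18, nat_lit 5], [nat_lit 4, nat_lit 1, nat_lit 18, nat_lit 19], [nat_lit 4, nat_lit 1, nat_lit 3, nat_lit 9], [nat_lit 1, nat_lit 19, nat_lit 5, nat_lit 1], [nat_lit 1, nat_lit 2, nat_lit 4, nat_lit 1, nat_lit 5, nat_lit 9], [nat_lit 19, nat_lit 1, nat_lit 2, nat_lit 5, nat_lit 19], [nat_lit 4, nat_lit 9, nat_lit 19, nat_lit 5], [nat_lit 1, nat_lit 3, nat_lit 2, nat_lit 1, nat_lit 19], [nat_lit 3, nat_lit 1, nat_lit 9, nat_lit 17], [nat_lit 4, nat_lit 1, nat_lit 17, nat_lit 18, nat_lit 19], [nat_lit 4, nat_lit 1, nat_lit 3, nat_lit 9, nat_lit 17], [nat_lit 2, nat_lit 4, nat_lit 10, nat_lit 18, nat_lit 19, nat_lit 2], [nat_lit 3, nat_lit 2, nat_lit 4, nat_lit 1, nat_lit 10], [nat_lit 1, nat_lit 2, nat_lit 1, nat_lit 4, nat_lit 1, nat_lit 9], [nat_lit 1, nat_lit 19], [nat_lit 2, nat_lit 10, nat_lit 17, nat_lit 19], [nat_lit 1, nat_lit 4, nat_lit 2, nat_lit 10, nat_lit 18], [nat_lit 19, nat_lit 5, nat_lit 1, nat_lit 19, nat_lit 1], [nat_lit 5, nat_lit 1, nat_lit 9, nat_lit 19, nat_lit 1, nat_lit 4], [nat_lit 1, nat_lit 4, nat_lit 18, nat_lit 19, nat_lit 1, nat_lit 5], [nat_lit 2, nat_lit 5, nat_lit 1, nat_lit 9, nat_lit 17], [nat_lit 2, nat_lit 1, nat_lit 5], [nat_lit 2, nat_lit 1, nat_lit 4, nat_lit 9, nat_lit 19, nat_lit 5], [nat_lit 1, nat_lit 5, nat_lit 1], [nat_lit 4, nat_lit 1, nat_lit 5, nat_lit 9, nat_lit 18, nat_lit 19], [nat_lit 19, nat_lit 2, nat_lit 1, nat_lit 5, nat_lit 19], [nat_lit 4, nat_lit 9, nat_lit 18, nat_lit 5, nat_lit 19], [nat_lit 1, nat_lit 4, nat_lit 9, nat_lit 19, nat_lit 1], [nat_lit 1, nat_lit 2, nat_lit 4, nat_lit 1, nat_lit 3], [nat_lit 2, nat_lit 4, nat_lit 2, nat_lit 5, nat_lit 1, nat_lit 10], [nat_lit 1, nat_lit 2, nat_lit 5, nat_lit 10, nat_lit 19, nat_lit 2], [nat_lit 2, nat_lit 10, nat_lit 19, nat_lit 1], [nat_lit 1, nat_lit 4, nat_lit 1, nat_lit 2, nat_lit 10], [nat_lit 3, nat_lit 2, nat_lit 9, nat_lit 18, nat_lit 19], [nat_lit 2, nat_lit 3, nat_lit 1, nat_lit 2], [nat_lit 2, nat_lit 9, nat_lit 19, nat_lit 1, nat_lit 2], [nat_lit 1, nat_lit 4, nat_lit 1], [nat_lit 1, nat_lit 4, nat_lit 9, nat_lit 17, nat_lit 19, nat_lit 1], [nat_lit 3, nat_lit 1, nat_lit 4, nat_lit 2], [nat_lit 3, nat_lit 2, nat_lit 5, nat_lit 9, nat_lit 18], [nat_lit 1, nat_lit 19, nat_lit 1, nat_lit 2, nat_lit 4, nat_lit 5], [nat_lit 2, nat_lit 3, nat_lit 1, nat_lit 2, nat_lit 19, nat_lit 5], [nat_lit 3, nat_lit 2, nat_lit 9, nat_lit 18, nat_lit 5], [nat_lit 1, nat_lit 4, nat_lit 2, nat_lit 1, nat_lit 4], [nat_lit 3, nat_lit 1, nat_lit 2, nat_lit 1, nat_lit 9, nat_lit 19], [nat_lit 3, nat_lit 5, nat_lit 1, nat_lit 10], [nat_lit 3, nat_lit 5, nat_lit 1, nat_lit 10, nat_lit 18, nat_lit 19], [nat_lit 4, nat_lit 5, nat_lit 9, nat_lit 18], [nat_lit 2, nat_lit 19, nat_lit 2, nat_lit 5, nat_lit 1], [nat_lit 4, nat_lit 2, nat_lit 9, nat_lit 18, nat_lit 19], [nat_lit 4, nat_lit 1, nat_lit 2, nat_lit 1, nat_lit 3], [nat_lit 1, nat_lit 4, nat_lit 18, nat_lit 5, nat_lit 19], [nat_lit 2, nat_lit 1, nat_lit 5, nat_lit 1, nat_lit 9], [nat_lit 1, nat_lit 2, nat_lit 3, nat_lit 1, nat_lit 4], [nat_lit 1, nat_lit 4, nat_lit 9, nat_lit 19], [nat_lit 2, nat_lit 4, nat_lit 9, nat_lit 19, nat_lit 2], [nat_lit 2, nat_lit 1, nat_lit 4, nat_lit 2, nat_lit 3], [nat_lit 2, nat_lit 3, nat_lit 9, nat_lit 17, nat_lit 19], [nat_lit 1, nat_lit 2, nat_lit 3, nat_lit 2, nat_lit 18], [nat_lit 1, nat_lit 10, nat_lit 18], [nat_lit 2, nat_lit 4, nat_lit 1, nat_lit 10, nat_lit 17, nat_lit 19], [nat_lit 3, nat_lit 1, nat_lit 4, nat_lit 18], [nat_lit 4, nat_lit 1, nat_lit 9, nat_lit 19, nat_lit 1], [nat_lit 1, nat_lit 3, nat_lit 9, nat_lit 19, nat_lit 5, nat_lit 1], [nat_lit 2, nat_lit 3, nat_lit 5, nat_lit 18], [nat_lit 4, nat_lit 2, nat_lit 1, nat_lit 9], [nat_lit 17, nat_lit 19], [nat_lit 2, nat_lit 4, nat_lit 9, nat_lit 17, nat_lit 19, nat_lit 2], [nat_lit 1, nat_lit 3, nat_lit 2, nat_lit 4, nat_lit 18], [nat_lit 19, nat_lit 2, nat_lit 1], [nat_lit 4, nat_lit 9, nat_lit 18], [nat_lit 9, nat_lit 18, nat_lit 5, nat_lit 19, nat_lit 2], [nat_lit 4, nat_lit 1, nat_lit 5, nat_lit 17], [nat_lit 1, nat_lit 10, nat_lit 18, nat_lit 19, nat_lit 2], [nat_lit 1, nat_lit 3, nat_lit 1, nat_lit 2, nat_lit 3, nat_lit 10], [nat_lit 2, nat_lit 1, nat_lit 3, nat_lit 2, nat_lit 4], [nat_lit 2, nat_lit 4, nat_lit 9, nat_lit 19], [nat_lit 4, nat_lit 1, nat_lit 5], [nat_lit 5, nat_lit 9, nat_lit 18, nat_lit 19, nat_lit 2], [nat_lit 1, nat_lit 4, nat_lit 2, nat_lit 10, nat_lit 19, nat_lit 5], [nat_lit 2, nat_lit 5, nat_lit 10, nat_lit 18], [nat_lit 2, nat_lit 5, nat_lit 1, nat_lit 3, nat_lit 10], [nat_lit 1, nat_lit 10, nat_lit 18, nat_lit 5, nat_lit 19, nat_lit 1], [nat_lit 2, nat_lit 4, nat_lit 1, nat_lit 5, nat_lit 9, nat_lit 19], [nat_lit 1, nat_lit 18, nat_lit 5], [nat_lit 3, nat_lit 2, nat_lit 4, nat_lit 1, nat_lit 9], [nat_lit 2, nat_lit 4, nat_lit 18, nat_lit 19, nat_lit 2], [nat_lit 17, nat_lit 18, nat_lit 19, nat_lit 1], [nat_lit 4, nat_lit 2, nat_lit 9, nat_lit 18], [nat_lit 1, nat_lit 3, nat_lit 5, nat_lit 10], [nat_lit 1, nat_lit 2, nat_lit 3, nat_lit 1, nat_lit 10, nat_lit 19, nat_lit 5], [nat_lit 3, nat_lit 1, nat_lit 2, nat_lit 4, nat_lit 19], [nat_lit 3, nat_lit 2, nat_lit 1, nat_lit 3, nat_lit 9], [nat_lit 1, nat_lit 2, nat_lit 9, nat_lit 19, nat_lit 2], [nat_lit 1, nat_lit 2, nat_lit 4, nat_lit 2], [nat_lit 1, nat_lit 2, nat_lit 4, nat_lit 9, nat_lit 17], [nat_lit 1, nat_lit 2, nat_lit 17, nat_lit 19], [nat_lit 4, nat_lit 1, nat_lit 9], [nat_lit 18, nat_lit 19, nat_lit 2], [nat_lit 10, nat_lit 19], [nat_lit 4, nat_lit 1, nat_lit 2, nat_lit 10, nat_lit 18], [nat_lit 1, nat_lit 2, nat_lit 4, nat_lit 2, nat_lit 9, nat_lit 18, nat_lit 5], [nat_lit 2, nat_lit 5, nat_lit 1, nat_lit 19], [nat_lit 3, nat_lit 2, nat_lit 9, nat_lit 19], [nat_lit 1, nat_lit 4, nat_lit 1, nat_lit 2, nat_lit 4], [nat_lit 1, nat_lit 2, nat_lit 17, nat_lit 19, nat_lit 1], [nat_lit 1, nat_lit 2, nat_lit 4, nat_lit 1, nat_lit 9, nat_lit 17], [nat_lit 3, nat_lit 1, nat_lit 5, nat_lit 19, nat_lit 1], [nat_lit 3, nat_lit 2, nat_lit 5, nat_lit 9, nat_lit 17], [nat_lit 3, nat_lit 2, nat_lit 4, nat_lit 10, nat_lit 18, nat_lit 5], [nat_lit 1, nat_lit 4, nat_lit 2, nat_lit 1, nat_lit 5, nat_lit 10, nat_lit 19], [nat_lit 3, nat_lit 5, nat_lit 1, nat_lit 2, nat_lit 3, nat_lit 9], [nat_lit 4, nat_lit 5, nat_lit 18, nat_lit 19, nat_lit 2], [nat_lit 1, nat_lit 2, nat_lit 19, nat_lit 2, nat_lit 1], [nat_lit 1, nat_lit 2, nat_lit 4, nat_lit 2, nat_lit 1, nat_lit 9], [nat_lit 2, nat_lit 3, nat_lit 2, nat_lit 1], [nat_lit 3, nat_lit 2, nat_lit 9, nat_lit 17, nat_lit 19], [nat_lit 3, nat_lit 2, nat_lit 5, nat_lit 10, nat_lit 17], [nat_lit 3, nat_lit 1, nat_lit 5, nat_lit 10, nat_lit 19, nat_lit 1], [nat_lit 1, nat_lit 3, nat_lit 5, nat_lit 9, nat_lit 17], [nat_lit 1, nat_lit 2, nat_lit 3, nat_lit 1, nat_lit 5, nat_lit 19], [nat_lit 2, nat_lit 5, nat_lit 1, nat_lit 3, nat_lit 10, nat_lit 17], [nat_lit 1, nat_lit 5, nat_lit 10, nat_lit 18, nat_lit 19, nat_lit 1], [nat_lit 1, nat_lit 2, nat_lit 4, nat_lit 1, nat_lit 10, nat_lit 19], [nat_lit 1, nat_lit 3, nat_lit 2, nat_lit 4, nat_lit 10], [nat_lit 2, nat_lit 1, nat_lit 4, nat_lit 5, nat_lit 9], [nat_lit 2, nat_lit 1, nat_lit 19, nat_lit 5], [nat_lit 1, nat_lit 2, nat_lit 3, nat_lit 17, nat_lit 19], [nat_lit 1, nat_lit 2, nat_lit 3, nat_lit 9, nat_lit 17], [nat_lit 1, nat_lit 2, nat_lit 4, nat_lit 9, nat_lit 17, nat_lit 19], [nat_lit 1, nat_lit 2, nat_lit 17], [nat_lit 5, nat_lit 1, nat_lit 2, nat_lit 4, nat_lit 10, nat_lit 19], [nat_lit 1, nat_lit 3, nat_lit 2, nat_lit 5, nat_lit 10], [nat_lit 1, nat_lit 9, nat_lit 17], [nat_lit 2, nat_lit 4, nat_lit 1, nat_lit 18, nat_lit 19], [nat_lit 4, nat_lit 2, nat_lit 10, nat_lit 19, nat_lit 2], [nat_lit 3, nat_lit 2, nat_lit 4, nat_lit 10, nat_lit 17], [nat_lit 1, nat_lit 3, nat_lit 1, nat_lit 9, nat_lit 18], [nat_lit 19, nat_lit 2, nat_lit 4], [nat_lit 1, nat_lit 4, nat_lit 2, nat_lit 3, nat_lit 10, nat_lit 17], [nat_lit 2, nat_lit 4, nat_lit 10, nat_lit 18, nat_lit 19], [nat_lit 1, nat_lit 3, nat_lit 2, nat_lit 9, nat_lit 18, nat_lit 5, nat_lit 19], [nat_lit 2, nat_lit 3, nat_lit 1, nat_lit 5], [nat_lit 2, nat_lit 9, nat_lit 17, nat_lit 19, nat_lit 1, nat_lit 2], [nat_lit 1, nat_lit 4, nat_lit 1, nat_lit 17], [nat_lit 1, nat_lit 2, nat_lit 19, nat_lit 1], [nat_lit 1, nat_lit 2, nat_lit 4, nat_lit 1, nat_lit 9], [nat_lit 1, nat_lit 4, nat_lit 2, nat_lit 18, nat_lit 19], [nat_lit 2, nat_lit 9, nat_lit 17], [nat_lit 1, nat_lit 2, nat_lit 3, nat_lit 10, nat_lit 17, nat_lit 19], [nat_lit 1, nat_lit 2, nat_lit 3, nat_lit 10, nat_lit 17], [nat_lit 2, nat_lit 1, nat_lit 5, nat_lit 9, nat_lit 19], [nat_lit 1, nat_lit 2, nat_lit 4, nat_lit 18, nat_lit 5], [nat_lit 3, nat_lit 10, nat_lit 17, nat_lit 18], [nat_lit 10, nat_lit 17, nat_lit 19, nat_lit 2, nat_lit 1, nat_lit 4], [nat_lit 2, nat_lit 5, nat_lit 1, nat_lit 9, nat_lit 18], [nat_lit 1, nat_lit 4, nat_lit 19, nat_lit 1, nat_lit 5], [nat_lit 5, nat_lit 9, nat_lit 19, nat_lit 1, nat_lit 2, nat_lit 4], [nat_lit 5, nat_lit 1, nat_lit 17], [nat_lit 2, nat_lit 3, nat_lit 1, nat_lit 4], [nat_lit 2, nat_lit 1, nat_lit 4, nat_lit 2, nat_lit 9, nat_lit 19], [nat_lit 1, nat_lit 2, nat_lit 3, nat_lit 2, nat_lit 5, nat_lit 10, nat_lit 17], [nat_lit 2, nat_lit 3, nat_lit 5, nat_lit 10, nat_lit 18, nat_lit 19], [nat_lit 5, nat_lit 10, nat_lit 19, nat_lit 1, nat_lit 2, nat_lit 4], [nat_lit 5, nat_lit 1, nat_lit 10, nat_lit 17], [nat_lit 2, nat_lit 4, nat_lit 5, nat_lit 9, nat_lit 18], [nat_lit 1, nat_lit 19, nat_lit 1, nat_lit 5], [nat_lit 17, nat_lit 19, nat_lit 2, nat_lit 1], [nat_lit 4, nat_lit 9, nat_lit 17, nat_lit 18], [nat_lit 3, nat_lit 19, nat_lit 5, nat_lit 1, nat_lit 2], [nat_lit 2, nat_lit 3, nat_lit 5, nat_lit 9, nat_lit 17], [nat_lit 9, nat_lit 17, nat_lit 19], [nat_lit 4, nat_lit 2, nat_lit 1], [nat_lit 1, nat_lit 3, nat_lit 2, nat_lit 4, nat_lit 18, nat_lit 5], [nat_lit 2, nat_lit 4, nat_lit 5, nat_lit 9, nat_lit 19, nat_lit 2], [nat_lit 4, nat_lit 2, nat_lit 1, nat_lit 3, nat_lit 10], [nat_lit 4, nat_lit 10, nat_lit 17, nat_lit 19], [nat_lit 9, nat_lit 19, nat_lit 2, nat_lit 5, nat_lit 1, nat_lit 19], [nat_lit 4, nat_lit 18, nat_lit 5, nat_lit 19, nat_lit 2], [nat_lit 3, nat_lit 10, nat_lit 18], [nat_lit 10, nat_lit 19, nat_lit 2, nat_lit 1, nat_lit 4], [nat_lit 2, nat_lit 1, nat_lit 3, nat_lit 5, nat_lit 10], [nat_lit 2, nat_lit 1, nat_lit 3, nat_lit 10, nat_lit 19, nat_lit 5], [nat_lit 2, nat_lit 4, nat_lit 1, nat_lit 2, nat_lit 9], [nat_lit 1, nat_lit 17, nat_lit 18, nat_lit 19, nat_lit 2], [nat_lit 1, nat_lit 2, nat_lit 4, nat_lit 2, nat_lit 18], [nat_lit 1, nat_lit 2, nat_lit 9, nat_lit 18, nat_lit 19, nat_lit 2], [nat_lit 2, nat_lit 1, nat_lit 3, nat_lit 2, nat_lit 10, nat_lit 19], [nat_lit 2, nat_lit 3, nat_lit 10], [nat_lit 2, nat_lit 1, nat_lit 4, nat_lit 9, nat_lit 19, nat_lit 1], [nat_lit 2], [nat_lit 4, nat_lit 5, nat_lit 9, nat_lit 19], [nat_lit 4, nat_lit 2, nat_lit 1, nat_lit 3, nat_lit 5], [nat_lit 2, nat_lit 4, nat_lit 9, nat_lit 17, nat_lit 19], [nat_lit 4, nat_lit 2, nat_lit 3, nat_lit 1], [nat_lit 4, nat_lit 10, nat_lit 18, nat_lit 5], [nat_lit 10, nat_lit 19, nat_lit 2, nat_lit 1, nat_lit 5], [nat_lit 2, nat_lit 1, nat_lit 10], [nat_lit 2, nat_lit 1, nat_lit 4, nat_lit 10, nat_lit 19], [nat_lit 3, nat_lit 5, nat_lit 19, nat_lit 1, nat_lit 2], [nat_lit 2, nat_lit 3, nat_lit 5, nat_lit 9], [nat_lit 1, nat_lit 10, nat_lit 17, nat_lit 18, nat_lit 19], [nat_lit 2, nat_lit 4, nat_lit 1, nat_lit 10], [nat_lit 1, nat_lit 2, nat_lit 4, nat_lit 19, nat_lit 2], [nat_lit 1, nat_lit 9], [nat_lit 9, nat_lit 17], [nat_lit 4, nat_lit 2, nat_lit 1, nat_lit 19], [nat_lit 1, nat_lit 5, nat_lit 10, nat_lit 19, nat_lit 1, nat_lit 4], [nat_lit 5, nat_lit 1, nat_lit 2, nat_lit 10], [nat_lit 1, nat_lit 4, nat_lit 5, nat_lit 17], [nat_lit 1, nat_lit 2, nat_lit 5, nat_lit 1, nat_lit 9, nat_lit 19], [nat_lit 1, nat_lit 4, nat_lit 10, nat_lit 18, nat_lit 5, nat_lit 19], [nat_lit 2, nat_lit 1, nat_lit 5, nat_lit 1, nat_lit 10], [nat_lit 2, nat_lit 3, nat_lit 1, nat_lit 18], [nat_lit 3, nat_lit 2, nat_lit 9, nat_lit 19, nat_lit 2], [nat_lit 2, nat_lit 4, nat_lit 1, nat_lit 2, nat_lit 5, nat_lit 10], [nat_lit 10, nat_lit 18, nat_lit 5, nat_lit 1, nat_lit 19], [nat_lit 2, nat_lit 4, nat_lit 2, nat_lit 1, nat_lit 5, nat_lit 10], [nat_lit 1, nat_lit 10, nat_lit 19, nat_lit 2, nat_lit 5], [nat_lit 9, nat_lit 18, nat_lit 5, nat_lit 1], [nat_lit 4, nat_lit 1, nat_lit 19, nat_lit 1, nat_lit 5], [nat_lit 5, nat_lit 1, nat_lit 9, nat_lit 17], [nat_lit 5, nat_lit 19, nat_lit 1, nat_lit 2, nat_lit 4], [nat_lit 3, nat_lit 5, nat_lit 1, nat_lit 10, nat_lit 19, nat_lit 1], [nat_lit 3, nat_lit 5, nat_lit 10, nat_lit 18], [nat_lit 1, nat_lit 2, nat_lit 10], [nat_lit 1, nat_lit 2, nat_lit 4, nat_lit 10, nat_lit 19], [nat_lit 1, nat_lit 2, nat_lit 3, nat_lit 19], [nat_lit 1, nat_lit 2, nat_lit 3, nat_lit 9], [nat_lit 4, nat_lit 2, nat_lit 5, nat_lit 1, nat_lit 10], [nat_lit 2, nat_lit 5, nat_lit 10, nat_lit 19], [nat_lit 1, nat_lit 2, nat_lit 10, nat_lit 17], [nat_lit 1, nat_lit 2, nat_lit 4, nat_lit 10, nat_lit 17, nat_lit 19], [nat_lit 5, nat_lit 1, nat_lit 10, nat_lit 18, nat_lit 19], [nat_lit 3, nat_lit 5, nat_lit 1, nat_lit 2, nat_lit 4, nat_lit 10], [nat_lit 4, nat_lit 1, nat_lit 2, nat_lit 18, nat_lit 19], [nat_lit 9], [nat_lit 3, nat_lit 1, nat_lit 9, nat_lit 18, nat_lit 5], [nat_lit 19, nat_lit 2, nat_lit 5, nat_lit 1, nat_lit 3], [nat_lit 3, nat_lit 9, nat_lit 18, nat_lit 5], [nat_lit 19, nat_lit 2, nat_lit 1, nat_lit 4, nat_lit 5], [nat_lit 9, nat_lit 19, nat_lit 2, nat_lit 5, nat_lit 1], [nat_lit 18, nat_lit 5, nat_lit 1, nat_lit 3], [nat_lit 2, nat_lit 4, nat_lit 5, nat_lit 19, nat_lit 2], [nat_lit 1, nat_lit 3, nat_lit 2, nat_lit 4, nat_lit 9, nat_lit 18, nat_lit 5], [nat_lit 1, nat_lit 4, nat_lit 5], [nat_lit 2, nat_lit 9, nat_lit 18, nat_lit 5, nat_lit 19, nat_lit 2], [nat_lit 1, nat_lit 4, nat_lit 1, nat_lit 2, nat_lit 4, nat_lit 9], [nat_lit 3, nat_lit 2, nat_lit 19], [nat_lit 5, nat_lit 19, nat_lit 1, nat_lit 4, nat_lit 2], [nat_lit 1, nat_lit 9, nat_lit 19, nat_lit 2, nat_lit 5, nat_lit 1, nat_lit 19], [nat_lit 1, nat_lit 3, nat_lit 2, nat_lit 1, nat_lit 3, nat_lit 5], [nat_lit 5, nat_lit 1, nat_lit 9, nat_lit 19], [nat_lit 1, nat_lit 9, nat_lit 17, nat_lit 18, nat_lit 19, nat_lit 2], [nat_lit 2, nat_lit 4, nat_lit 1, nat_lit 2], [nat_lit 2, nat_lit 4], [nat_lit 1, nat_lit 9, nat_lit 17, nat_lit 18, nat_lit 19, nat_lit 1], [nat_lit 3, nat_lit 1, nat_lit 18, nat_lit 5, nat_lit 19], [nat_lit 3, nat_lit 2, nat_lit 5, nat_lit 1, nat_lit 9, nat_lit 18], [nat_lit 1, nat_lit 19, nat_lit 2, nat_lit 1], [nat_lit 2, nat_lit 4, nat_lit 2, nat_lit 9], [nat_lit 1, nat_lit 4, nat_lit 2, nat_lit 17], [nat_lit 2, nat_lit 9, nat_lit 18, nat_lit 19], [nat_lit 1, nat_lit 2, nat_lit 3, nat_lit 2, nat_lit 1], [nat_lit 3, nat_lit 9, nat_lit 17, nat_lit 18, nat_lit 19], [nat_lit 4, nat_lit 1, nat_lit 10, nat_lit 17, nat_lit 18], [nat_lit 10, nat_lit 17, nat_lit 19, nat_lit 2], [nat_lit 1, nat_lit 3, nat_lit 17], [nat_lit 2, nat_lit 9, nat_lit 18, nat_lit 19, nat_lit 2, nat_lit 4], [nat_lit 4, nat_lit 2, nat_lit 5, nat_lit 10, nat_lit 18], [nat_lit 10, nat_lit 18, nat_lit 19, nat_lit 1, nat_lit 5], [nat_lit 1, nat_lit 3, nat_lit 1, nat_lit 2, nat_lit 10, nat_lit 18], [nat_lit 3, nat_lit 1, nat_lit 10, nat_lit 19], [nat_lit 1, nat_lit 3], [nat_lit 1, nat_lit 2, nat_lit 3, nat_lit 1, nat_lit 9, nat_lit 19], [nat_lit 4, nat_lit 1, nat_lit 2, nat_lit 4], [nat_lit 3, nat_lit 9, nat_lit 18, nat_lit 19], [nat_lit 1, nat_lit 4, nat_lit 2], [nat_lit 1, nat_lit 2, nat_lit 1, nat_lit 9, nat_lit 19], [nat_lit 1, nat_lit 3, nat_lit 2, nat_lit 1, nat_lit 10], [nat_lit 3, nat_lit 1, nat_lit 10, nat_lit 17, nat_lit 19], [nat_lit 1, nat_lit 9, nat_lit 18, nat_lit 19, nat_lit 1], [nat_lit 2, nat_lit 4, nat_lit 17], [nat_lit 3, nat_lit 9, nat_lit 19, nat_lit 5], [nat_lit 1, nat_lit 2, nat_lit 3, nat_lit 1, nat_lit 2, nat_lit 5], [nat_lit 2, nat_lit 10, nat_lit 19, nat_lit 2, nat_lit 5], [nat_lit 1, nat_lit 4, nat_lit 5, nat_lit 10, nat_lit 18], [nat_lit 2, nat_lit 4, nat_lit 9], [nat_lit 1, nat_lit 17, nat_lit 18, nat_lit 19, nat_lit 1], [nat_lit 1, nat_lit 5, nat_lit 19, nat_lit 1, nat_lit 2], [nat_lit 3, nat_lit 1, nat_lit 2, nat_lit 3, nat_lit 5, nat_lit 9], [nat_lit 2, nat_lit 4, nat_lit 2, nat_lit 9, nat_lit 18, nat_lit 5], [nat_lit 1, nat_lit 2, nat_lit 5, nat_lit 19, nat_lit 1, nat_lit 2], [nat_lit 1, nat_lit 4, nat_lit 5, nat_lit 9, nat_lit 19], [nat_lit 1, nat_lit 2, nat_lit 5, nat_lit 1, nat_lit 17], [nat_lit 2, nat_lit 5, nat_lit 10, nat_lit 19, nat_lit 2], [nat_lit 1, nat_lit 4, nat_lit 10, nat_lit 18, nat_lit 5], [nat_lit 2, nat_lit 4, nat_lit 9, nat_lit 18], [nat_lit 1, nat_lit 17, nat_lit 19, nat_lit 1], [nat_lit 4, nat_lit 2, nat_lit 3, nat_lit 10, nat_lit 17], [nat_lit 4, nat_lit 2, nat_lit 10, nat_lit 19], [nat_lit 1, nat_lit 10, nat_lit 18, nat_lit 19, nat_lit 1], [nat_lit 2, nat_lit 4, nat_lit 10, nat_lit 17], [nat_lit 2, nat_lit 4, nat_lit 1, nat_lit 9, nat_lit 18], [nat_lit 1, nat_lit 17, nat_lit 19], [nat_lit 2, nat_lit 4, nat_lit 9, nat_lit 17], [nat_lit 1, nat_lit 18, nat_lit 19, nat_lit 1], [nat_lit 4, nat_lit 19, nat_lit 2], [nat_lit 2, nat_lit 4, nat_lit 2, nat_lit 1, nat_lit 3, nat_lit 9], [nat_lit 3, nat_lit 1, nat_lit 9], [nat_lit 2, nat_lit 19, nat_lit 1, nat_lit 2, nat_lit 4], [nat_lit 4, nat_lit 2, nat_lit 3, nat_lit 5, nat_lit 9], [nat_lit 4, nat_lit 2, nat_lit 5, nat_lit 19], [nat_lit 1, nat_lit 3, nat_lit 18, nat_lit 19], [nat_lit 1, nat_lit 2, nat_lit 3, nat_lit 1, nat_lit 9, nat_lit 18], [nat_lit 1, nat_lit 2, nat_lit 1, nat_lit 4, nat_lit 9], [nat_lit 1, nat_lit 19, nat_lit 1], [nat_lit 9, nat_lit 19, nat_lit 1, nat_lit 5, nat_lit 19], [nat_lit 4, nat_lit 2, nat_lit 19, nat_lit 5], [nat_lit 18, nat_lit 5], [nat_lit 4, nat_lit 1, nat_lit 2, nat_lit 9, nat_lit 19, nat_lit 5], [nat_lit 1, nat_lit 10, nat_lit 19, nat_lit 5, nat_lit 1], [nat_lit 1, nat_lit 2, nat_lit 4, nat_lit 1, nat_lit 5, nat_lit 10], [nat_lit 1, nat_lit 10, nat_lit 17, nat_lit 18, nat_lit 19, nat_lit 1], [nat_lit 2, nat_lit 4, nat_lit 10], [nat_lit 2, nat_lit 3, nat_lit 1, nat_lit 10, nat_lit 17, nat_lit 19], [nat_lit 1, nat_lit 3, nat_lit 2, nat_lit 10, nat_lit 18], [nat_lit 1, nat_lit 3, nat_lit 10, nat_lit 19, nat_lit 5, nat_lit 1], [nat_lit 2, nat_lit 3, nat_lit 5, nat_lit 10, nat_lit 18], [nat_lit 3, nat_lit 1, nat_lit 5, nat_lit 18, nat_lit 19], [nat_lit 3, nat_lit 5, nat_lit 1, nat_lit 2, nat_lit 9], [nat_lit 1, nat_lit 2, nat_lit 3, nat_lit 1, nat_lit 17], [nat_lit 1, nat_lit 3, nat_lit 9, nat_lit 17, nat_lit 19], [nat_lit 3, nat_lit 1, nat_lit 10, nat_lit 19, nat_lit 5, nat_lit 1], [nat_lit 3, nat_lit 2, nat_lit 5, nat_lit 10], [nat_lit 1, nat_lit 5, nat_lit 1, nat_lit 2, nat_lit 4, nat_lit 9], [nat_lit 1, nat_lit 3, nat_lit 5, nat_lit 18, nat_lit 19], [nat_lit 1, nat_lit 2, nat_lit 3, nat_lit 10, nat_lit 18], [nat_lit 1, nat_lit 2, nat_lit 3, nat_lit 10, nat_lit 18, nat_lit 19], [nat_lit 2, nat_lit 5, nat_lit 1, nat_lit 3, nat_lit 9], [nat_lit 1, nat_lit 18, nat_lit 5, nat_lit 19, nat_lit 1], [nat_lit 3, nat_lit 2, nat_lit 4, nat_lit 18, nat_lit 5], [nat_lit 1, nat_lit 4, nat_lit 2, nat_lit 1, nat_lit 5, nat_lit 9, nat_lit 19], [nat_lit 1, nat_lit 3, nat_lit 2, nat_lit 5, nat_lit 1, nat_lit 10], [nat_lit 3, nat_lit 1, nat_lit 2, nat_lit 5, nat_lit 10, nat_lit 19], [nat_lit 1, nat_lit 4, nat_lit 1, nat_lit 2, nat_lit 9, nat_lit 19], [nat_lit 3, nat_lit 2, nat_lit 4], [nat_lit 1, nat_lit 4, nat_lit 5, nat_lit 10, nat_lit 18, nat_lit 19], [nat_lit 1, nat_lit 5, nat_lit 1, nat_lit 2, nat_lit 10], [nat_lit 1, nat_lit 10, nat_lit 17, nat_lit 19, nat_lit 2], [nat_lit 1, nat_lit 3, nat_lit 2, nat_lit 1, nat_lit 3, nat_lit 10], [nat_lit 2, nat_lit 5, nat_lit 1, nat_lit 3, nat_lit 2], [nat_lit 5, nat_lit 1, nat_lit 9, nat_lit 19, nat_lit 1], [nat_lit 3, nat_lit 5, nat_lit 1, nat_lit 10, nat_lit 17], [nat_lit 3, nat_lit 10, nat_lit 18, nat_lit 5, nat_lit 1, nat_lit 19], [nat_lit 2, nat_lit 3, nat_lit 5, nat_lit 1, nat_lit 9], [nat_lit 1, nat_lit 3, nat_lit 18, nat_lit 5, nat_lit 19], [nat_lit 2, nat_lit 5, nat_lit 1, nat_lit 3, nat_lit 9, nat_lit 17], [nat_lit 1, nat_lit 5, nat_lit 18, nat_lit 19, nat_lit 1], [nat_lit 1, nat_lit 2, nat_lit 5, nat_lit 10, nat_lit 19, nat_lit 1], [nat_lit 2, nat_lit 4, nat_lit 10, nat_lit 18, nat_lit 5], [nat_lit 4, nat_lit 1, nat_lit 10, nat_lit 18], [nat_lit 10, nat_lit 19, nat_lit 2], [nat_lit 4, nat_lit 2, nat_lit 10, nat_lit 18, nat_lit 5], [nat_lit 10, nat_lit 19, nat_lit 1, nat_lit 5, nat_lit 18], [nat_lit 2, nat_lit 10, nat_lit 17, nat_lit 19, nat_lit 2, nat_lit 1], [nat_lit 1, nat_lit 4, nat_lit 1, nat_lit 10, nat_lit 18], [nat_lit 2, nat_lit 4, nat_lit 2, nat_lit 1, nat_lit 10], [nat_lit 1, nat_lit 10, nat_lit 19, nat_lit 2], [nat_lit 1, nat_lit 2, nat_lit 4, nat_lit 1, nat_lit 2, nat_lit 9], [nat_lit 1, nat_lit 2, nat_lit 19, nat_lit 1, nat_lit 2], [nat_lit 3, nat_lit 5, nat_lit 10, nat_lit 19, nat_lit 1], [nat_lit 2, nat_lit 3, nat_lit 2, nat_lit 5, nat_lit 10], [nat_lit 4, nat_lit 2, nat_lit 5, nat_lit 10, nat_lit 18, nat_lit 19], [nat_lit 4, nat_lit 2, nat_lit 3, nat_lit 5, nat_lit 10, nat_lit 18], [nat_lit 1, nat_lit 10, nat_lit 18, nat_lit 5, nat_lit 19], [nat_lit 2, nat_lit 4, nat_lit 1, nat_lit 5, nat_lit 10], [nat_lit 1, nat_lit 18], [nat_lit 2, nat_lit 4, nat_lit 1, nat_lit 9, nat_lit 17, nat_lit 19], [nat_lit 1, nat_lit 2, nat_lit 3, nat_lit 1, nat_lit 5, nat_lit 10, nat_lit 19], [nat_lit 1, nat_lit 3, nat_lit 5, nat_lit 10, nat_lit 17], [nat_lit 1, nat_lit 3, nat_lit 2, nat_lit 1, nat_lit 9, nat_lit 19], [nat_lit 3, nat_lit 1, nat_lit 17], [nat_lit 1, nat_lit 3, nat_lit 2, nat_lit 1, nat_lit 3, nat_lit 5, nat_lit 10], [nat_lit 5, nat_lit 1, nat_lit 10, nat_lit 19], [nat_lit 3, nat_lit 2, nat_lit 9], [nat_lit 1, nat_lit 19, nat_lit 2, nat_lit 1, nat_lit 4], [nat_lit 1, nat_lit 19, nat_lit 5, nat_lit 1, nat_lit 2], [nat_lit 1, nat_lit 2, nat_lit 4, nat_lit 1, nat_lit 2, nat_lit 5, nat_lit 9], [nat_lit 2, nat_lit 4, nat_lit 2, nat_lit 5, nat_lit 9, nat_lit 18], [nat_lit 1, nat_lit 19, nat_lit 1, nat_lit 2, nat_lit 5], [nat_lit 1, nat_lit 4, nat_lit 10, nat_lit 19], [nat_lit 1, nat_lit 2, nat_lit 3, nat_lit 1, nat_lit 4, nat_lit 10], [nat_lit 3, nat_lit 1, nat_lit 2, nat_lit 3, nat_lit 9], [nat_lit 3, nat_lit 2, nat_lit 1, nat_lit 4, nat_lit 19], [nat_lit 3, nat_lit 2, nat_lit 9, nat_lit 17], [nat_lit 2, nat_lit 3, nat_lit 2, nat_lit 1, nat_lit 19], [nat_lit 3, nat_lit 1, nat_lit 2, nat_lit 5, nat_lit 9, nat_lit 19], [nat_lit 1, nat_lit 3, nat_lit 2, nat_lit 5, nat_lit 1], [nat_lit 1, nat_lit 2, nat_lit 3, nat_lit 10, nat_lit 18, nat_lit 5], [nat_lit 2, nat_lit 1, nat_lit 3, nat_lit 5, nat_lit 10, nat_lit 19], [nat_lit 2, nat_lit 4, nat_lit 1, nat_lit 3, nat_lit 10, nat_lit 18], [nat_lit 1, nat_lit 4, nat_lit 10, nat_lit 17, nat_lit 19], [nat_lit 4, nat_lit 2, nat_lit 9], [nat_lit 17, nat_lit 19, nat_lit 1], [nat_lit 1, nat_lit 10, nat_lit 19, nat_lit 2, nat_lit 5, nat_lit 1], [nat_lit 3, nat_lit 2, nat_lit 1, nat_lit 3, nat_lit 5, nat_lit 10], [nat_lit 1, nat_lit 2, nat_lit 10, nat_lit 17, nat_lit 19, nat_lit 1], [nat_lit 1, nat_lit 2, nat_lit 4, nat_lit 1, nat_lit 10, nat_lit 17], [nat_lit 3, nat_lit 1, nat_lit 2, nat_lit 4, nat_lit 9, nat_lit 18], [nat_lit 4, nat_lit 17, nat_lit 19, nat_lit 2, nat_lit 1], [nat_lit 4, nat_lit 2, nat_lit 9, nat_lit 17], [nat_lit 19, nat_lit 1], [nat_lit 4, nat_lit 2, nat_lit 10, nat_lit 18, nat_lit 5, nat_lit 19], [nat_lit 4, nat_lit 2, nat_lit 3, nat_lit 10, nat_lit 18, nat_lit 5], [nat_lit 1, nat_lit 3, nat_lit 2, nat_lit 1, nat_lit 10, nat_lit 19], [nat_lit 3, nat_lit 1, nat_lit 10, nat_lit 17], [nat_lit 3, nat_lit 1, nat_lit 2, nat_lit 10, nat_lit 17, nat_lit 19], [nat_lit 3, nat_lit 1, nat_lit 2, nat_lit 10, nat_lit 18], [nat_lit 10, nat_lit 19, nat_lit 5, nat_lit 1, nat_lit 2], [nat_lit 5, nat_lit 1, nat_lit 3, nat_lit 10], [nat_lit 3, nat_lit 5, nat_lit 1, nat_lit 2, nat_lit 10], [nat_lit 3, nat_lit 1, nat_lit 5, nat_lit 10, nat_lit 18, nat_lit 19], [nat_lit 1, nat_lit 19, nat_lit 1, nat_lit 2], [nat_lit 1, nat_lit 2, nat_lit 1, nat_lit 4, nat_lit 2, nat_lit 9], [nat_lit 2, nat_lit 1, nat_lit 3, nat_lit 10], [nat_lit 2, nat_lit 1, nat_lit 3, nat_lit 10, nat_lit 19], [nat_lit 2, nat_lit 4, nat_lit 10, nat_lit 19], [nat_lit 2, nat_lit 1, nat_lit 3, nat_lit 2, nat_lit 4, nat_lit 10], [nat_lit 3, nat_lit 1, nat_lit 2, nat_lit 10, nat_lit 19], [nat_lit 3, nat_lit 2, nat_lit 1, nat_lit 10], [nat_lit 1, nat_lit 17, nat_lit 19, nat_lit 1, nat_lit 2], [nat_lit 2, nat_lit 4, nat_lit 2, nat_lit 9, nat_lit 18], [nat_lit 9, nat_lit 18, nat_lit 19, nat_lit 1], [nat_lit 4, nat_lit 1, nat_lit 2, nat_lit 1], [nat_lit 4, nat_lit 5, nat_lit 10, nat_lit 17], [nat_lit 10, nat_lit 19, nat_lit 1, nat_lit 2, nat_lit 5], [nat_lit 17, nat_lit 18], [nat_lit 1, nat_lit 4, nat_lit 2, nat_lit 9, nat_lit 19, nat_lit 2], [nat_lit 18], [nat_lit 4, nat_lit 1, nat_lit 2, nat_lit 9, nat_lit 19], [nat_lit 2, nat_lit 5, nat_lit 9, nat_lit 17], [nat_lit 1, nat_lit 4, nat_lit 2, nat_lit 5, nat_lit 18, nat_lit 19], [nat_lit 5, nat_lit 1, nat_lit 3, nat_lit 2, nat_lit 9], [nat_lit 19, nat_lit 5, nat_lit 1], [nat_lit 3, nat_lit 2, nat_lit 18, nat_lit 19], [nat_lit 2, nat_lit 3, nat_lit 1, nat_lit 2, nat_lit 9], [nat_lit 2, nat_lit 5, nat_lit 10], [nat_lit 4, nat_lit 2, nat_lit 5, nat_lit 1, nat_lit 10, nat_lit 19], [nat_lit 3, nat_lit 2, nat_lit 1, nat_lit 4, nat_lit 10], [nat_lit 4, nat_lit 10, nat_lit 19, nat_lit 2, nat_lit 1], [nat_lit 2, nat_lit 5, nat_lit 9], [nat_lit 4, nat_lit 2, nat_lit 5, nat_lit 1, nat_lit 19], [nat_lit 1, nat_lit 2, nat_lit 3, nat_lit 2, nat_lit 5, nat_lit 1], [nat_lit 3, nat_lit 2, nat_lit 9, nat_lit 18, nat_lit 5, nat_lit 19], [nat_lit 1, nat_lit 3, nat_lit 2, nat_lit 5, nat_lit 9, nat_lit 18, nat_lit 19], [nat_lit 2, nat_lit 3, nat_lit 1, nat_lit 5, nat_lit 17], [nat_lit 5, nat_lit 1, nat_lit 3, nat_lit 2, nat_lit 10], [nat_lit 10, nat_lit 19, nat_lit 5, nat_lit 1], [nat_lit 2, nat_lit 5, nat_lit 10, nat_lit 17], [nat_lit 1, nat_lit 4, nat_lit 2, nat_lit 5, nat_lit 10, nat_lit 18, nat_lit 19], [nat_lit 3, nat_lit 1, nat_lit 2, nat_lit 4, nat_lit 10, nat_lit 18], [nat_lit 4, nat_lit 10, nat_lit 17, nat_lit 19, nat_lit 2, nat_lit 1], [nat_lit 1, nat_lit 4, nat_lit 1, nat_lit 2, nat_lit 10, nat_lit 19], [nat_lit 3, nat_lit 2, nat_lit 4, nat_lit 10], [nat_lit 2, nat_lit 9, nat_lit 17, nat_lit 19, nat_lit 1], [nat_lit 1, nat_lit 4, nat_lit 1, nat_lit 2, nat_lit 17], [nat_lit 4, nat_lit 19, nat_lit 2, nat_lit 5, nat_lit 1], [nat_lit 1, nat_lit 9, nat_lit 19, nat_lit 5, nat_lit 1, nat_lit 19], [nat_lit 3, nat_lit 2, nat_lit 5, nat_lit 9, nat_lit 18, nat_lit 19], [nat_lit 2, nat_lit 3, nat_lit 1, nat_lit 2, nat_lit 5], [nat_lit 1, nat_lit 2, nat_lit 4, nat_lit 2, nat_lit 5], [nat_lit 5, nat_lit 1, nat_lit 2, nat_lit 9, nat_lit 19], [nat_lit 2, nat_lit 1, nat_lit 3, nat_lit 2], [nat_lit 2, nat_lit 3, nat_lit 9, nat_lit 19], [nat_lit 2, nat_lit 5, nat_lit 17], [nat_lit 1, nat_lit 4, nat_lit 2, nat_lit 5, nat_lit 9, nat_lit 18, nat_lit 19], [nat_lit 1, nat_lit 4, nat_lit 5, nat_lit 10, nat_lit 17], [nat_lit 1, nat_lit 2, nat_lit 5, nat_lit 1, nat_lit 10, nat_lit 19], [nat_lit 3, nat_lit 1, nat_lit 5, nat_lit 9, nat_lit 18], [nat_lit 3, nat_lit 5, nat_lit 1, nat_lit 2, nat_lit 19], [nat_lit 2, nat_lit 9, nat_lit 19, nat_lit 2, nat_lit 4, nat_lit 5], [nat_lit 1, nat_lit 3, nat_lit 5, nat_lit 18], [nat_lit 1, nat_lit 2, nat_lit 4, nat_lit 1], [nat_lit 1, nat_lit 2, nat_lit 9, nat_lit 19, nat_lit 1], [nat_lit 2, nat_lit 10, nat_lit 19, nat_lit 1, nat_lit 2, nat_lit 4], [nat_lit 3, nat_lit 1, nat_lit 10], [nat_lit 2, nat_lit 3, nat_lit 1, nat_lit 5, nat_lit 9], [nat_lit 1, nat_lit 3, nat_lit 2, nat_lit 18, nat_lit 5, nat_lit 19], [nat_lit 2, nat_lit 5], [nat_lit 4, nat_lit 2, nat_lit 5, nat_lit 1, nat_lit 9, nat_lit 19], [nat_lit 2, nat_lit 3, nat_lit 1, nat_lit 5, nat_lit 9, nat_lit 17], [nat_lit 1, nat_lit 3, nat_lit 2, nat_lit 5, nat_lit 18, nat_lit 19], [nat_lit 1, nat_lit 4, nat_lit 10, nat_lit 17], [nat_lit 2, nat_lit 10, nat_lit 18, nat_lit 19, nat_lit 2], [nat_lit 5, nat_lit 1, nat_lit 18, nat_lit 19], [nat_lit 3, nat_lit 5, nat_lit 1, nat_lit 2, nat_lit 4, nat_lit 9], [nat_lit 1, nat_lit 10, nat_lit 19, nat_lit 1, nat_lit 2, nat_lit 4, nat_lit 5], [nat_lit 3, nat_lit 2, nat_lit 5, nat_lit 10, nat_lit 18], [nat_lit 5, nat_lit 1, nat_lit 3, nat_lit 18], [nat_lit 5, nat_lit 9, nat_lit 19, nat_lit 2, nat_lit 1], [nat_lit 3, nat_lit 2, nat_lit 5, nat_lit 1, nat_lit 10, nat_lit 18], [nat_lit 3, nat_lit 1, nat_lit 10, nat_lit 18, nat_lit 5, nat_lit 19], [nat_lit 2, nat_lit 4, nat_lit 2, nat_lit 5, nat_lit 1], [nat_lit 1, nat_lit 2, nat_lit 5, nat_lit 9, nat_lit 19, nat_lit 2], [nat_lit 2, nat_lit 5, nat_lit 1, nat_lit 10, nat_lit 19], [nat_lit 1, nat_lit 2, nat_lit 4, nat_lit 2, nat_lit 10, nat_lit 18, nat_lit 5], [nat_lit 1, nat_lit 3, nat_lit 2, nat_lit 4, nat_lit 5, nat_lit 10, nat_lit 18], [nat_lit 2, nat_lit 4, nat_lit 10, nat_lit 19, nat_lit 2, nat_lit 5], [nat_lit 1, nat_lit 4, nat_lit 2, nat_lit 1, nat_lit 5, nat_lit 19], [nat_lit 3, nat_lit 2, nat_lit 4, nat_lit 9, nat_lit 18, nat_lit 5], [nat_lit 1, nat_lit 4, nat_lit 2, nat_lit 1, nat_lit 19, nat_lit 5], [nat_lit 3, nat_lit 2, nat_lit 4, nat_lit 5, nat_lit 9, nat_lit 18], [nat_lit 1, nat_lit 5, nat_lit 1, nat_lit 18, nat_lit 5], [nat_lit 4, nat_lit 1, nat_lit 9, nat_lit 17, nat_lit 19], [nat_lit 4, nat_lit 1, nat_lit 3], [nat_lit 4, nat_lit 1, nat_lit 9, nat_lit 18, nat_lit 19], [nat_lit 2, nat_lit 1, nat_lit 10, nat_lit 19, nat_lit 2], [nat_lit 2, nat_lit 1, nat_lit 4, nat_lit 2, nat_lit 10], [nat_lit 1, nat_lit 3, nat_lit 9, nat_lit 18, nat_lit 19], [nat_lit 1, nat_lit 2, nat_lit 3, nat_lit 1, nat_lit 18], [nat_lit 4, nat_lit 1, nat_lit 2, nat_lit 3, nat_lit 5], [nat_lit 4, nat_lit 5, nat_lit 9, nat_lit 18, nat_lit 19], [nat_lit 9, nat_lit 19, nat_lit 2, nat_lit 1], [nat_lit 4, nat_lit 18], [nat_lit 1, nat_lit 3, nat_lit 10, nat_lit 18], [nat_lit 10, nat_lit 19, nat_lit 2, nat_lit 4, nat_lit 1], [nat_lit 1, nat_lit 4, nat_lit 1, nat_lit 2, nat_lit 18], [nat_lit 2, nat_lit 9, nat_lit 18, nat_lit 19, nat_lit 1], [nat_lit 1, nat_lit 2, nat_lit 3, nat_lit 10, nat_lit 19], [nat_lit 1, nat_lit 2, nat_lit 3, nat_lit 10], [nat_lit 1, nat_lit 5, nat_lit 9, nat_lit 19], [nat_lit 2, nat_lit 4, nat_lit 1, nat_lit 18, nat_lit 5], [nat_lit 2, nat_lit 3, nat_lit 1, nat_lit 4, nat_lit 17], [nat_lit 1, nat_lit 4, nat_lit 9, nat_lit 18, nat_lit 19, nat_lit 1], [nat_lit 1, nat_lit 9, nat_lit 19, nat_lit 1, nat_lit 2, nat_lit 5, nat_lit 19], [nat_lit 4, nat_lit 18, nat_lit 19, nat_lit 1, nat_lit 5], [nat_lit 1, nat_lit 2, nat_lit 10, nat_lit 19, nat_lit 2, nat_lit 1], [nat_lit 1, nat_lit 2, nat_lit 4, nat_lit 2, nat_lit 1, nat_lit 10], [nat_lit 2, nat_lit 4, nat_lit 2, nat_lit 5, nat_lit 9], [nat_lit 1, nat_lit 19, nat_lit 2, nat_lit 1, nat_lit 5], [nat_lit 19], [nat_lit 4, nat_lit 1, nat_lit 2, nat_lit 9, nat_lit 18], [nat_lit 1, nat_lit 3, nat_lit 5], [nat_lit 1, nat_lit 2, nat_lit 3, nat_lit 1, nat_lit 9, nat_lit 19, nat_lit 5], [nat_lit 2, nat_lit 4, nat_lit 2, nat_lit 5, nat_lit 9, nat_lit 17], [nat_lit 5, nat_lit 1, nat_lit 2, nat_lit 19, nat_lit 1], [nat_lit 1, nat_lit 3, nat_lit 10, nat_lit 17, nat_lit 18], [nat_lit 2, nat_lit 10, nat_lit 19, nat_lit 2, nat_lit 4], [nat_lit 3, nat_lit 1, nat_lit 2, nat_lit 4, nat_lit 10, nat_lit 19], [nat_lit 3, nat_lit 2, nat_lit 1, nat_lit 3, nat_lit 10], [nat_lit 2, nat_lit 3, nat_lit 9, nat_lit 18, nat_lit 5], [nat_lit 1, nat_lit 3, nat_lit 5, nat_lit 19, nat_lit 1], [nat_lit 3, nat_lit 1, nat_lit 2, nat_lit 5], [nat_lit 3, nat_lit 2, nat_lit 1, nat_lit 9, nat_lit 19, nat_lit 5], [nat_lit 3, nat_lit 2, nat_lit 1, nat_lit 9], [nat_lit 3, nat_lit 1, nat_lit 2, nat_lit 19], [nat_lit 3, nat_lit 1, nat_lit 2, nat_lit 5, nat_lit 17], [nat_lit 3, nat_lit 2, nat_lit 1, nat_lit 5, nat_lit 9, nat_lit 19], [nat_lit 1, nat_lit 2, nat_lit 1, nat_lit 10], [nat_lit 1, nat_lit 4, nat_lit 2, nat_lit 10, nat_lit 19], [nat_lit 1, nat_lit 10, nat_lit 19, nat_lit 1, nat_lit 4], [nat_lit 1, nat_lit 2, nat_lit 1, nat_lit 3, nat_lit 10], [nat_lit 1, nat_lit 10, nat_lit 17, nat_lit 19, nat_lit 1, nat_lit 4], [nat_lit 2, nat_lit 3, nat_lit 10, nat_lit 18], [nat_lit 4, nat_lit 1, nat_lit 3, nat_lit 17], [nat_lit 4, nat_lit 1, nat_lit 9, nat_lit 17, nat_lit 18, nat_lit 19], [nat_lit 4, nat_lit 1, nat_lit 5, nat_lit 10, nat_lit 17], [nat_lit 10, nat_lit 18, nat_lit 5, nat_lit 19, nat_lit 2], [nat_lit 2, nat_lit 3, nat_lit 1, nat_lit 4, nat_lit 9], [nat_lit 2, nat_lit 1, nat_lit 4, nat_lit 2, nat_lit 19], [nat_lit 4, nat_lit 2, nat_lit 5, nat_lit 9, nat_lit 18, nat_lit 19], [nat_lit 4, nat_lit 2, nat_lit 3, nat_lit 5, nat_lit 18], [nat_lit 4, nat_lit 10, nat_lit 18, nat_lit 19, nat_lit 2], [nat_lit 1, nat_lit 3, nat_lit 1, nat_lit 2, nat_lit 4, nat_lit 10], [nat_lit 1, nat_lit 2, nat_lit 4, nat_lit 1, nat_lit 3, nat_lit 10], [nat_lit 1, nat_lit 4, nat_lit 10, nat_lit 19, nat_lit 1], [nat_lit 1, nat_lit 4, nat_lit 2, nat_lit 3, nat_lit 5, nat_lit 9], [nat_lit 2, nat_lit 4, nat_lit 18, nat_lit 5, nat_lit 19], [nat_lit 4, nat_lit 9, nat_lit 18, nat_lit 19, nat_lit 1, nat_lit 5], [nat_lit 1, nat_lit 19, nat_lit 1, nat_lit 2, nat_lit 5, nat_lit 19], [nat_lit 19, nat_lit 1, nat_lit 2, nat_lit 4, nat_lit 5], [nat_lit 3, nat_lit 5, nat_lit 9, nat_lit 17], [nat_lit 2, nat_lit 3, nat_lit 2, nat_lit 5, nat_lit 1, nat_lit 19], [nat_lit 3, nat_lit 5, nat_lit 9], [nat_lit 3, nat_lit 5, nat_lit 1, nat_lit 2, nat_lit 10, nat_lit 19], [nat_lit 3, nat_lit 1, nat_lit 5, nat_lit 10, nat_lit 18], [nat_lit 10, nat_lit 19, nat_lit 2, nat_lit 5, nat_lit 1, nat_lit 3], [nat_lit 3, nat_lit 1, nat_lit 10, nat_lit 18, nat_lit 5], [nat_lit 2, nat_lit 4, nat_lit 5, nat_lit 18, nat_lit 19], [nat_lit 1, nat_lit 9, nat_lit 19, nat_lit 1, nat_lit 5, nat_lit 19], [nat_lit 5, nat_lit 1, nat_lit 10, nat_lit 19, nat_lit 1, nat_lit 4], [nat_lit 10, nat_lit 19, nat_lit 5, nat_lit 1, nat_lit 19, nat_lit 1], [nat_lit 4, nat_lit 1, nat_lit 10, nat_lit 19], [nat_lit 4, nat_lit 1, nat_lit 3, nat_lit 10, nat_lit 18], [nat_lit 1, nat_lit 2, nat_lit 3, nat_lit 1, nat_lit 19, nat_lit 5], [nat_lit 1, nat_lit 3, nat_lit 5, nat_lit 9], [nat_lit 4, nat_lit 10], [nat_lit 10, nat_lit 17, nat_lit 19, nat_lit 1, nat_lit 2], [nat_lit 3, nat_lit 2, nat_lit 4, nat_lit 5], [nat_lit 4, nat_lit 2, nat_lit 5, nat_lit 9, nat_lit 19, nat_lit 2], [nat_lit 4, nat_lit 5, nat_lit 19, nat_lit 2], [nat_lit 9, nat_lit 19, nat_lit 5, nat_lit 1, nat_lit 2, nat_lit 19], [nat_lit 1, nat_lit 3, nat_lit 2, nat_lit 10, nat_lit 19], [nat_lit 1, nat_lit 2, nat_lit 1, nat_lit 3, nat_lit 1, nat_lit 10], [nat_lit 4, nat_lit 9, nat_lit 19, nat_lit 2, nat_lit 5], [nat_lit 3, nat_lit 2, nat_lit 5, nat_lit 1, nat_lit 3], [nat_lit 4, nat_lit 10, nat_lit 19, nat_lit 2, nat_lit 1, nat_lit 5], [nat_lit 3, nat_lit 2, nat_lit 1, nat_lit 4, nat_lit 5, nat_lit 10], [nat_lit 1, nat_lit 2, nat_lit 18], [nat_lit 1, nat_lit 2, nat_lit 4, nat_lit 9, nat_lit 18, nat_lit 19], [nat_lit 1, nat_lit 4, nat_lit 2, nat_lit 5, nat_lit 17], [nat_lit 2, nat_lit 5, nat_lit 9, nat_lit 18, nat_lit 19], [nat_lit 2, nat_lit 4, nat_lit 2], [nat_lit 1, nat_lit 9, nat_lit 19, nat_lit 2, nat_lit 1], [nat_lit 3, nat_lit 1, nat_lit 18, nat_lit 19], [nat_lit 1, nat_lit 3, nat_lit 1, nat_lit 2, nat_lit 9], [nat_lit 1, nat_lit 2, nat_lit 19, nat_lit 2, nat_lit 4], [nat_lit 1, nat_lit 3, nat_lit 2, nat_lit 9], [nat_lit 1, nat_lit 2, nat_lit 19, nat_lit 5], [nat_lit 1, nat_lit 2, nat_lit 4, nat_lit 5, nat_lit 9], [nat_lit 5, nat_lit 1, nat_lit 2, nat_lit 19], [nat_lit 1, nat_lit 2, nat_lit 4, nat_lit 2, nat_lit 5, nat_lit 9], [nat_lit 1, nat_lit 19, nat_lit 2, nat_lit 5, nat_lit 1], [nat_lit 3, nat_lit 2, nat_lit 1, nat_lit 3, nat_lit 5, nat_lit 9], [nat_lit 3, nat_lit 5, nat_lit 1, nat_lit 2], [nat_lit 3, nat_lit 1, nat_lit 5, nat_lit 9, nat_lit 18, nat_lit 19], [nat_lit 2, nat_lit 4, nat_lit 18, nat_lit 19], [nat_lit 1, nat_lit 4, nat_lit 2, nat_lit 3, nat_lit 9, nat_lit 17], [nat_lit 2, nat_lit 19, nat_lit 2], [nat_lit 1, nat_lit 4, nat_lit 9, nat_lit 17, nat_lit 18], [nat_lit 2, nat_lit 4, nat_lit 9, nat_lit 19, nat_lit 5], [nat_lit 1, nat_lit 4, nat_lit 2, nat_lit 3, nat_lit 5, nat_lit 18], [nat_lit 4, nat_lit 2, nat_lit 3, nat_lit 1, nat_lit 5], [nat_lit 2, nat_lit 4, nat_lit 5, nat_lit 9, nat_lit 19], [nat_lit 2, nat_lit 17, nat_lit 19, nat_lit 2], [nat_lit 1, nat_lit 4, nat_lit 9, nat_lit 18], [nat_lit 1, nat_lit 2, nat_lit 1, nat_lit 3, nat_lit 2, nat_lit 10], [nat_lit 10, nat_lit 18, nat_lit 19, nat_lit 1, nat_lit 4], [nat_lit 2, nat_lit 3, nat_lit 2, nat_lit 10, nat_lit 18], [nat_lit 10, nat_lit 17, nat_lit 18, nat_lit 19, nat_lit 1, nat_lit 4], [nat_lit 5, nat_lit 1, nat_lit 2, nat_lit 4, nat_lit 2], [nat_lit 3, nat_lit 2, nat_lit 9, nat_lit 19, nat_lit 5], [nat_lit 5, nat_lit 1, nat_lit 2, nat_lit 3], [nat_lit 1, nat_lit 5, nat_lit 9, nat_lit 19, nat_lit 1], [nat_lit 1, nat_lit 2, nat_lit 4, nat_lit 1, nat_lit 5], [nat_lit 1, nat_lit 9, nat_lit 19, nat_lit 5, nat_lit 1], [nat_lit 3, nat_lit 2, nat_lit 5, nat_lit 9, nat_lit 19], [nat_lit 2, nat_lit 3, nat_lit 2, nat_lit 1, nat_lit 5]]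

def L0 : List (List ℕ) := [[], [nat_lit 4, nat_lit 1, nat_lit 2, nat_lit 9, nat_lit 18, nat_lit 19], [nat_lit 2, nat_lit 19], [nat_lit 1, nat_lit 4, nat_lit 1, nat_lit 2, nat_lit 1, nat_lit 9], [nat_lit 4, nat_lit 1, nat_lit 2, nat_lit 9, nat_lit 17], [nat_lit 17, nat_lit 18, nat_lit 19], [nat_lit 4, nat_lit 2, nat_lit 1, nat_lit 9, nat_lit 19], [nat_lit 17], [nat_lit 3, nat_lit 18, nat_lit 19], [nat_lit 4, nat_lit 1, nat_lit 2, nat_lit 4, nat_lit 9], [nat_lit 2, nat_lit 4, nat_lit 18], [nat_lit 1, nat_lit 9, nat_lit 17, nat_lit 19, nat_lit 1], [nat_lit 1, nat_lit 2, nat_lit 4, nat_lit 18, nat_lit 19], [nat_lit 1, nat_lit 2, nat_lit 9, nat_lit 18], [nat_lit 1, nat_lit 2, nat_lit 3], [nat_lit 1, nat_lit 2, nat_lit 3, nat_lit 9, nat_lit 19], [nat_lit 2, nat_lit 3, nat_lit 2, nat_lit 1, nat_lit 10, nat_lit 19], [nat_lit 3, nat_lit 2, nat_lit 10, nat_lit 17], [nat_lit 2, nat_lit 17, nat_lit 19], [nat_lit 1, nat_lit 4, nat_lit 2, nat_lit 9, nat_lit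 18], [nat_lit 4, nat_lit 1, nat_lit 9, nat_lit 17, nat_lit 18], [nat_lit 17, nat_lit 19, nat_lit 2], [nat_lit 10, nat_lit 17, nat_lit 19, nat_lit 2, nat_lit 1], [nat_lit 4, nat_lit 10, nat_lit 17, nat_lit 18], [nat_lit 4, nat_lit 2, nat_lit 10, nat_lit 18, nat_lit 19], [nat_lit 4, nat_lit 1, nat_lit 2, nat_lit 1, nat_lit 3, nat_lit 10], [nat_lit 1, nat_lit 2, nat_lit 10, nat_lit 17, nat_lit 19], [nat_lit 1, nat_lit 2, nat_lit 4, nat_lit 10, nat_lit 17], [nat_lit 4, nat_lit 1, nat_lit 2, nat_lit 1, nat_lit 3, nat_lit 9], [nat_lit 4, nat_lit 2, nat_lit 18, nat_lit 19], [nat_lit 1, nat_lit 17, nat_lit 18, nat_lit 19], [nat_lit 2, nat_lit 4, nat_lit 1, nat_lit 9], [nat_lit 4, nat_lit 17, nat_lit 19, nat_lit 1, nat_lit 2], [nat_lit 3, nat_lit 1, nat_lit 2, nat_lit 4, nat_lit 9, nat_lit 17], [nat_lit 3, nat_lit 9, nat_lit 17, nat_lit 18], [nat_lit 17, nat_lit 19, nat_lit 2, nat_lit 1, nat_lit 4], [nat_lit 4, nat_lit 1, nat_lit 10, nat_lit 18, nat_lit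 19], [nat_lit 4, nat_lit 1, nat_lit 3, nat_lit 10], [nat_lit 3, nat_lit 17, nat_lit 18, nat_lit 19], [nat_lit 1, nat_lit 2, nat_lit 3, nat_lit 2, nat_lit 1, nat_lit 9], [nat_lit 1, nat_lit 10, nat_lit 19, nat_lit 2, nat_lit 1, nat_lit 4], [nat_lit 3, nat_lit 2, nat_lit 10], [nat_lit 3, nat_lit 1, nat_lit 10, nat_lit 19, nat_lit 1], [nat_lit 1, nat_lit 3, nat_lit 2, nat_lit 10, nat_lit 17], [nat_lit 1, nat_lit 4, nat_lit 2, nat_lit 1, nat_lit 9, nat_lit 19], [nat_lit 3, nat_lit 1, nat_lit 2, nat_lit 1, nat_lit 4], [nat_lit 3, nat_lit 2, nat_lit 18], [nat_lit 2, nat_lit 3, nat_lit 1, nat_lit 2, nat_lit 9, nat_lit 19], [nat_lit 1, nat_lit 18, nat_lit 19], [nat_lit 2, nat_lit 4, nat_lit 1, nat_lit 9, nat_lit 17], [nat_lit 1, nat_lit 17], [nat_lit 2, nat_lit 4, nat_lit 1, nat_lit 9, nat_lit 18, nat_lit 19], [nat_lit 1, nat_lit 2, nat_lit 1], [nat_lit 1, nat_lit 4, nat_lit 2, nat_lit 9, nat_lit 19], [nat_lit 4, nat_lit 1, nat_lit 2, nat_lit 9], [nat_lit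 18, nat_lit 19], [nat_lit 2, nat_lit 4, nat_lit 1, nat_lit 2, nat_lit 3], [nat_lit 4, nat_lit 9, nat_lit 17, nat_lit 18, nat_lit 19, nat_lit 2], [nat_lit 9, nat_lit 17, nat_lit 18, nat_lit 19, nat_lit 2, nat_lit 4], [nat_lit 1, nat_lit 3, nat_lit 1, nat_lit 17], [nat_lit 1, nat_lit 2, nat_lit 3, nat_lit 2, nat_lit 9], [nat_lit 1, nat_lit 2, nat_lit 1, nat_lit 3, nat_lit 19], [nat_lit 4, nat_lit 9, nat_lit 17, nat_lit 19, nat_lit 2], [nat_lit 1, nat_lit 3, nat_lit 2, nat_lit 1, nat_lit 4], [nat_lit 1, nat_lit 2, nat_lit 3, nat_lit 17], [nat_lit 1, nat_lit 2, nat_lit 3, nat_lit 9, nat_lit 17, nat_lit 19], [nat_lit 1, nat_lit 3, nat_lit 2, nat_lit 10], [nat_lit 1, nat_lit 2, nat_lit 10, nat_lit 19, nat_lit 2, nat_lit 4], [nat_lit 1, nat_lit 3, nat_lit 1], [nat_lit 9, nat_lit 18, nat_lit 19, nat_lit 2, nat_lit 4], [nat_lit 4, nat_lit 1, nat_lit 9, nat_lit 18], [nat_lit 19, nat_lit 2], [nat_lit 3, nat_lit 2, nat_lit 1, nat_lit 4, nat_lit 10, nat_lit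 19], [nat_lit 3, nat_lit 1, nat_lit 2, nat_lit 3, nat_lit 10], [nat_lit 1, nat_lit 4, nat_lit 9, nat_lit 17, nat_lit 18, nat_lit 19], [nat_lit 2, nat_lit 4, nat_lit 1, nat_lit 3], [nat_lit 1, nat_lit 9, nat_lit 19, nat_lit 1, nat_lit 4], [nat_lit 1, nat_lit 2, nat_lit 1, nat_lit 3], [nat_lit 4, nat_lit 2, nat_lit 3, nat_lit 1, nat_lit 9], [nat_lit 2, nat_lit 4, nat_lit 17, nat_lit 19], [nat_lit 1, nat_lit 2, nat_lit 4, nat_lit 1, nat_lit 10, nat_lit 18], [nat_lit 1, nat_lit 2, nat_lit 10, nat_lit 18, nat_lit 19, nat_lit 1], [nat_lit 1, nat_lit 2, nat_lit 10, nat_lit 19, nat_lit 2], [nat_lit 1, nat_lit 2, nat_lit 4, nat_lit 2, nat_lit 10], [nat_lit 9, nat_lit 19, nat_lit 1, nat_lit 2], [nat_lit 4, nat_lit 17], [nat_lit 4, nat_lit 10, nat_lit 17, nat_lit 18, nat_lit 19, nat_lit 1], [nat_lit 1, nat_lit 4, nat_lit 2, nat_lit 1, nat_lit 3, nat_lit 10], [nat_lit 1, nat_lit 2, nat_lit 1, nat_lit 4], [nat_lit 1, nat_lit 9, nat_lit 19, nat_lit 1], [nat_lit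 1, nat_lit 3, nat_lit 9, nat_lit 17], [nat_lit 2, nat_lit 18, nat_lit 19, nat_lit 2, nat_lit 4], [nat_lit 1, nat_lit 2, nat_lit 4, nat_lit 1, nat_lit 2, nat_lit 10], [nat_lit 1, nat_lit 2, nat_lit 10, nat_lit 19, nat_lit 1, nat_lit 2], [nat_lit 9, nat_lit 19, nat_lit 2], [nat_lit 4, nat_lit 1, nat_lit 18], [nat_lit 2, nat_lit 18], [nat_lit 1, nat_lit 4, nat_lit 2, nat_lit 9, nat_lit 17, nat_lit 19], [nat_lit 2, nat_lit 4, nat_lit 19], [nat_lit 2, nat_lit 1, nat_lit 3, nat_lit 2, nat_lit 4, nat_lit 9], [nat_lit 3], [nat_lit 9, nat_lit 17, nat_lit 19, nat_lit 1, nat_lit 2, nat_lit 4], [nat_lit 1, nat_lit 2, nat_lit 3, nat_lit 9, nat_lit 18], [nat_lit 1, nat_lit 2, nat_lit 3, nat_lit 18, nat_lit 19], [nat_lit 1, nat_lit 2, nat_lit 4], [nat_lit 1, nat_lit 2, nat_lit 9, nat_lit 19], [nat_lit 4, nat_lit 18, nat_lit 19], [nat_lit 4, nat_lit 1, nat_lit 2, nat_lit 3, nat_lit 9], [nat_lit 1, nat_lit 9, nat_lit 17, nat_lit 19, nat_lit 1, nat_lit 4], [nat_lit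 2, nat_lit 3, nat_lit 18], [nat_lit 2, nat_lit 1, nat_lit 3, nat_lit 2, nat_lit 9], [nat_lit 2, nat_lit 3, nat_lit 19], [nat_lit 4], [nat_lit 9, nat_lit 17, nat_lit 19, nat_lit 1, nat_lit 2], [nat_lit 1, nat_lit 2, nat_lit 18, nat_lit 19], [nat_lit 1, nat_lit 2, nat_lit 4, nat_lit 9, nat_lit 18], [nat_lit 1, nat_lit 2, nat_lit 4, nat_lit 9, nat_lit 19], [nat_lit 1, nat_lit 2], [nat_lit 2, nat_lit 1, nat_lit 19], [nat_lit 2, nat_lit 1, nat_lit 4, nat_lit 9], [nat_lit 1, nat_lit 2, nat_lit 9, nat_lit 17], [nat_lit 1, nat_lit 2, nat_lit 4, nat_lit 17, nat_lit 19], [nat_lit 2, nat_lit 1, nat_lit 9], [nat_lit 2, nat_lit 1, nat_lit 4, nat_lit 19], [nat_lit 2, nat_lit 1, nat_lit 3], [nat_lit 2, nat_lit 1, nat_lit 3, nat_lit 9, nat_lit 19], [nat_lit 1, nat_lit 2, nat_lit 4, nat_lit 17], [nat_lit 1, nat_lit 2, nat_lit 9, nat_lit 17, nat_lit 19], [nat_lit 4, nat_lit 1, nat_lit 3, nat_lit 2], [nat_lit 1, nat_lit 4, nat_lit 9, nat_lit 18, nat_lit 19], [nat_lit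 1, nat_lit 2, nat_lit 1, nat_lit 10, nat_lit 19, nat_lit 1], [nat_lit 1, nat_lit 4, nat_lit 2, nat_lit 1, nat_lit 10], [nat_lit 1, nat_lit 10, nat_lit 17, nat_lit 19, nat_lit 1], [nat_lit 2, nat_lit 4, nat_lit 10, nat_lit 18], [nat_lit 3, nat_lit 1, nat_lit 9, nat_lit 18, nat_lit 19], [nat_lit 1, nat_lit 3, nat_lit 1, nat_lit 2], [nat_lit 9, nat_lit 17, nat_lit 19, nat_lit 2, nat_lit 1, nat_lit 4], [nat_lit 3, nat_lit 17, nat_lit 18], [nat_lit 4, nat_lit 2, nat_lit 3, nat_lit 10, nat_lit 18], [nat_lit 4, nat_lit 1, nat_lit 2, nat_lit 1, nat_lit 10, nat_lit 19], [nat_lit 1, nat_lit 2, nat_lit 4, nat_lit 10, nat_lit 19, nat_lit 2], [nat_lit 1, nat_lit 10], [nat_lit 1, nat_lit 4, nat_lit 18], [nat_lit 2, nat_lit 9, nat_lit 17, nat_lit 19, nat_lit 2], [nat_lit 2, nat_lit 1, nat_lit 10, nat_lit 19, nat_lit 1, nat_lit 4], [nat_lit 2, nat_lit 3, nat_lit 1, nat_lit 10], [nat_lit 1, nat_lit 10, nat_lit 19, nat_lit 1], [nat_lit 1, nat_lit 2, nat_lit 1, nat_lit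 4, nat_lit 10], [nat_lit 2, nat_lit 3, nat_lit 1, nat_lit 2, nat_lit 4, nat_lit 9], [nat_lit 4, nat_lit 18, nat_lit 19, nat_lit 1], [nat_lit 2, nat_lit 19, nat_lit 2, nat_lit 1, nat_lit 4], [nat_lit 3, nat_lit 1, nat_lit 9, nat_lit 17, nat_lit 18], [nat_lit 4, nat_lit 10, nat_lit 19, nat_lit 2], [nat_lit 2, nat_lit 4, nat_lit 2, nat_lit 1, nat_lit 3, nat_lit 10], [nat_lit 2, nat_lit 1, nat_lit 4, nat_lit 2, nat_lit 9], [nat_lit 2, nat_lit 1, nat_lit 19, nat_lit 2], [nat_lit 1, nat_lit 3, nat_lit 1, nat_lit 2, nat_lit 19], [nat_lit 3, nat_lit 1, nat_lit 9, nat_lit 18], [nat_lit 1, nat_lit 3, nat_lit 2, nat_lit 9, nat_lit 18], [nat_lit 2, nat_lit 3, nat_lit 1, nat_lit 17, nat_lit 19], [nat_lit 4, nat_lit 2, nat_lit 19, nat_lit 2], [nat_lit 3, nat_lit 2, nat_lit 4, nat_lit 9, nat_lit 17], [nat_lit 1, nat_lit 9, nat_lit 18, nat_lit 19], [nat_lit 2, nat_lit 4, nat_lit 1, nat_lit 17], [nat_lit 1, nat_lit 3, nat_lit 1, nat_lit 2, nat_lit 3, nat_lit 9],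 [nat_lit 1, nat_lit 18, nat_lit 19, nat_lit 2], [nat_lit 1, nat_lit 3, nat_lit 1, nat_lit 2, nat_lit 1, nat_lit 9], [nat_lit 2, nat_lit 3, nat_lit 1, nat_lit 19], [nat_lit 1, nat_lit 19, nat_lit 2], [nat_lit 2, nat_lit 4, nat_lit 2, nat_lit 1, nat_lit 9], [nat_lit 2, nat_lit 4, nat_lit 2, nat_lit 10, nat_lit 18], [nat_lit 1, nat_lit 10, nat_lit 17, nat_lit 19, nat_lit 1, nat_lit 2], [nat_lit 3, nat_lit 2, nat_lit 4, nat_lit 9], [nat_lit 1, nat_lit 4, nat_lit 1, nat_lit 2, nat_lit 19], [nat_lit 3, nat_lit 2, nat_lit 1, nat_lit 4, nat_lit 9, nat_lit 19], [nat_lit 3, nat_lit 1, nat_lit 2, nat_lit 3], [nat_lit 2, nat_lit 3, nat_lit 1, nat_lit 9], [nat_lit 2, nat_lit 1, nat_lit 19, nat_lit 1, nat_lit 4], [nat_lit 2, nat_lit 4, nat_lit 1, nat_lit 2, nat_lit 19], [nat_lit 5, nat_lit 1, nat_lit 9, nat_lit 18, nat_lit 5], [nat_lit 9, nat_lit 18, nat_lit 19, nat_lit 1, nat_lit 4], [nat_lit 1, nat_lit 2, nat_lit 1, nat_lit 3, nat_lit 2], [nat_lit 4, nat_lit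 9, nat_lit 17, nat_lit 19, nat_lit 2, nat_lit 1], [nat_lit 3, nat_lit 1, nat_lit 2, nat_lit 4, nat_lit 18], [nat_lit 3, nat_lit 2, nat_lit 9, nat_lit 18], [nat_lit 2, nat_lit 3, nat_lit 1, nat_lit 2, nat_lit 19], [nat_lit 4, nat_lit 1, nat_lit 19], [nat_lit 4, nat_lit 1, nat_lit 3, nat_lit 9, nat_lit 18], [nat_lit 3, nat_lit 17, nat_lit 19], [nat_lit 4, nat_lit 2, nat_lit 1, nat_lit 4, nat_lit 9], [nat_lit 2, nat_lit 3, nat_lit 2, nat_lit 1, nat_lit 10], [nat_lit 3, nat_lit 2, nat_lit 10, nat_lit 17, nat_lit 19], [nat_lit 10, nat_lit 19, nat_lit 2, nat_lit 1], [nat_lit 4, nat_lit 10, nat_lit 18], [nat_lit 2, nat_lit 1, nat_lit 3, nat_lit 9], [nat_lit 2, nat_lit 1, nat_lit 3, nat_lit 19], [nat_lit 2, nat_lit 3, nat_lit 1, nat_lit 9, nat_lit 17], [nat_lit 1, nat_lit 3, nat_lit 2, nat_lit 18, nat_lit 19], [nat_lit 2, nat_lit 4, nat_lit 17, nat_lit 19, nat_lit 2], [nat_lit 1, nat_lit 3, nat_lit 2, nat_lit 4, nat_lit 9, nat_lit 18], [nat_lit 3, nat_lit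 10, nat_lit 17, nat_lit 19], [nat_lit 4, nat_lit 2, nat_lit 1, nat_lit 4, nat_lit 10], [nat_lit 9, nat_lit 18], [nat_lit 4, nat_lit 1, nat_lit 2, nat_lit 19], [nat_lit 1, nat_lit 9, nat_lit 19, nat_lit 1, nat_lit 2, nat_lit 4], [nat_lit 3, nat_lit 1, nat_lit 2, nat_lit 1], [nat_lit 9, nat_lit 17, nat_lit 18], [nat_lit 1, nat_lit 4, nat_lit 2, nat_lit 19, nat_lit 2], [nat_lit 2, nat_lit 3, nat_lit 1, nat_lit 9, nat_lit 17, nat_lit 19], [nat_lit 1, nat_lit 3, nat_lit 2, nat_lit 18], [nat_lit 4, nat_lit 9, nat_lit 19, nat_lit 2, nat_lit 1], [nat_lit 3, nat_lit 2, nat_lit 1, nat_lit 4], [nat_lit 1, nat_lit 4, nat_lit 1, nat_lit 2, nat_lit 4, nat_lit 10], [nat_lit 3, nat_lit 2, nat_lit 10, nat_lit 19], [nat_lit 2, nat_lit 4, nat_lit 19, nat_lit 2], [nat_lit 2, nat_lit 1, nat_lit 4, nat_lit 2, nat_lit 3, nat_lit 9], [nat_lit 1, nat_lit 2, nat_lit 1, nat_lit 9, nat_lit 19, nat_lit 1], [nat_lit 1, nat_lit 4, nat_lit 2, nat_lit 1], [nat_lit 1, nat_lit 2,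 nat_lit 3, nat_lit 2, nat_lit 9, nat_lit 17], [nat_lit 2, nat_lit 3, nat_lit 18, nat_lit 19], [nat_lit 4, nat_lit 2, nat_lit 10], [nat_lit 10, nat_lit 17, nat_lit 19, nat_lit 1], [nat_lit 1, nat_lit 4, nat_lit 10, nat_lit 18], [nat_lit 2, nat_lit 10, nat_lit 17, nat_lit 19, nat_lit 2], [nat_lit 3, nat_lit 1, nat_lit 2, nat_lit 9, nat_lit 19], [nat_lit 3, nat_lit 2, nat_lit 1], [nat_lit 2, nat_lit 3, nat_lit 2, nat_lit 18], [nat_lit 9, nat_lit 17, nat_lit 18, nat_lit 19, nat_lit 1, nat_lit 4], [nat_lit 3, nat_lit 19], [nat_lit 1, nat_lit 2, nat_lit 3, nat_lit 1, nat_lit 2, nat_lit 9], [nat_lit 2, nat_lit 9, nat_lit 19, nat_lit 2], [nat_lit 1, nat_lit 4, nat_lit 17, nat_lit 18], [nat_lit 3, nat_lit 1, nat_lit 2, nat_lit 18], [nat_lit 3, nat_lit 1, nat_lit 2, nat_lit 9, nat_lit 17, nat_lit 19], [nat_lit 3, nat_lit 1, nat_lit 2, nat_lit 1, nat_lit 9], [nat_lit 1, nat_lit 19, nat_lit 1, nat_lit 2, nat_lit 4], [nat_lit 1, nat_lit 3, nat_lit 10, nat_lit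 17], [nat_lit 2, nat_lit 10, nat_lit 18, nat_lit 19, nat_lit 2, nat_lit 4], [nat_lit 1, nat_lit 2, nat_lit 4, nat_lit 2, nat_lit 10, nat_lit 18], [nat_lit 1, nat_lit 2, nat_lit 10, nat_lit 18, nat_lit 19, nat_lit 2], [nat_lit 1, nat_lit 2, nat_lit 4, nat_lit 1, nat_lit 3, nat_lit 9], [nat_lit 1, nat_lit 4, nat_lit 19, nat_lit 1], [nat_lit 1, nat_lit 4, nat_lit 18, nat_lit 19], [nat_lit 4, nat_lit 1, nat_lit 3, nat_lit 2, nat_lit 9], [nat_lit 1, nat_lit 4, nat_lit 10], [nat_lit 1, nat_lit 2, nat_lit 1, nat_lit 10, nat_lit 19, nat_lit 2], [nat_lit 1, nat_lit 2, nat_lit 4, nat_lit 2, nat_lit 9, nat_lit 17], [nat_lit 1, nat_lit 2, nat_lit 17, nat_lit 19, nat_lit 2], [nat_lit 1, nat_lit 2, nat_lit 3, nat_lit 2], [nat_lit 1, nat_lit 2, nat_lit 1, nat_lit 3, nat_lit 9, nat_lit 19], [nat_lit 3, nat_lit 9, nat_lit 19], [nat_lit 1, nat_lit 2, nat_lit 3, nat_lit 1, nat_lit 2], [nat_lit 4, nat_lit 9, nat_lit 19], [nat_lit 4, nat_lit 1, nat_lit 2, nat_lit 3,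 nat_lit 18], [nat_lit 1, nat_lit 2, nat_lit 3, nat_lit 1, nat_lit 2, nat_lit 10], [nat_lit 3, nat_lit 10, nat_lit 19], [nat_lit 9, nat_lit 19, nat_lit 2, nat_lit 4], [nat_lit 1, nat_lit 3, nat_lit 1, nat_lit 18], [nat_lit 4, nat_lit 1, nat_lit 2, nat_lit 3, nat_lit 9, nat_lit 17], [nat_lit 4, nat_lit 17, nat_lit 18, nat_lit 19], [nat_lit 2, nat_lit 4, nat_lit 2, nat_lit 1, nat_lit 10, nat_lit 19], [nat_lit 3, nat_lit 1, nat_lit 4, nat_lit 10], [nat_lit 2, nat_lit 4, nat_lit 1, nat_lit 2, nat_lit 10, nat_lit 19], [nat_lit 5, nat_lit 1, nat_lit 10, nat_lit 18, nat_lit 5], [nat_lit 1, nat_lit 3, nat_lit 2, nat_lit 1, nat_lit 3], [nat_lit 1, nat_lit 9, nat_lit 17, nat_lit 19, nat_lit 2], [nat_lit 1, nat_lit 3, nat_lit 1, nat_lit 2, nat_lit 3], [nat_lit 1, nat_lit 9, nat_lit 18, nat_lit 19, nat_lit 2], [nat_lit 2, nat_lit 3, nat_lit 2, nat_lit 9, nat_lit 18], [nat_lit 17, nat_lit 18, nat_lit 19, nat_lit 1, nat_lit 4], [nat_lit 2, nat_lit 3, nat_lit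 2, nat_lit 9, nat_lit 17], [nat_lit 19, nat_lit 1, nat_lit 4], [nat_lit 1, nat_lit 3, nat_lit 10], [nat_lit 1, nat_lit 2, nat_lit 3, nat_lit 1, nat_lit 10, nat_lit 19], [nat_lit 1, nat_lit 4, nat_lit 17, nat_lit 19, nat_lit 1], [nat_lit 3, nat_lit 1, nat_lit 4, nat_lit 2, nat_lit 9], [nat_lit 1, nat_lit 2, nat_lit 3, nat_lit 2, nat_lit 17], [nat_lit 2, nat_lit 3, nat_lit 9, nat_lit 18, nat_lit 19], [nat_lit 2, nat_lit 10, nat_lit 18], [nat_lit 1, nat_lit 4, nat_lit 2, nat_lit 10, nat_lit 17, nat_lit 19], [nat_lit 3, nat_lit 1, nat_lit 4, nat_lit 10, nat_lit 17], [nat_lit 1, nat_lit 4, nat_lit 10, nat_lit 19, nat_lit 1, nat_lit 2], [nat_lit 4, nat_lit 17, nat_lit 19, nat_lit 2], [nat_lit 1, nat_lit 3, nat_lit 2, nat_lit 1, nat_lit 4, nat_lit 9], [nat_lit 1, nat_lit 2, nat_lit 9, nat_lit 17, nat_lit 19, nat_lit 1], [nat_lit 1, nat_lit 2, nat_lit 4, nat_lit 1, nat_lit 17], [nat_lit 2, nat_lit 4, nat_lit 1, nat_lit 3, nat_lit 9], [nat_lit 1, nat_lit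 4, nat_lit 17, nat_lit 18, nat_lit 19], [nat_lit 1, nat_lit 9, nat_lit 19, nat_lit 2], [nat_lit 2, nat_lit 4, nat_lit 2, nat_lit 1], [nat_lit 3, nat_lit 1, nat_lit 9, nat_lit 17, nat_lit 19], [nat_lit 1, nat_lit 3, nat_lit 2, nat_lit 1], [nat_lit 1, nat_lit 3, nat_lit 17, nat_lit 19], [nat_lit 1, nat_lit 2, nat_lit 3, nat_lit 1, nat_lit 9, nat_lit 17], [nat_lit 4, nat_lit 2, nat_lit 1, nat_lit 4], [nat_lit 3, nat_lit 9, nat_lit 17, nat_lit 19], [nat_lit 1, nat_lit 2, nat_lit 1, nat_lit 3, nat_lit 2, nat_lit 9], [nat_lit 18, nat_lit 19, nat_lit 1, nat_lit 4], [nat_lit 1, nat_lit 10, nat_lit 17], [nat_lit 2, nat_lit 4, nat_lit 1, nat_lit 10, nat_lit 18, nat_lit 19], [nat_lit 4, nat_lit 2, nat_lit 3, nat_lit 10], [nat_lit 4, nat_lit 2, nat_lit 10, nat_lit 17, nat_lit 19], [nat_lit 1, nat_lit 2, nat_lit 4, nat_lit 2, nat_lit 9], [nat_lit 1, nat_lit 2, nat_lit 19, nat_lit 2], [nat_lit 2, nat_lit 4, nat_lit 1, nat_lit 2, nat_lit 3, nat_lit 10], [nat_lit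 4, nat_lit 10, nat_lit 17, nat_lit 18, nat_lit 19, nat_lit 2], [nat_lit 1, nat_lit 2, nat_lit 3, nat_lit 1], [nat_lit 1, nat_lit 3, nat_lit 9, nat_lit 19], [nat_lit 1, nat_lit 4, nat_lit 9, nat_lit 19, nat_lit 1, nat_lit 2], [nat_lit 3, nat_lit 1, nat_lit 4, nat_lit 17], [nat_lit 2, nat_lit 3, nat_lit 2, nat_lit 1, nat_lit 4], [nat_lit 4, nat_lit 9, nat_lit 17, nat_lit 19, nat_lit 1], [nat_lit 1, nat_lit 2, nat_lit 9, nat_lit 18, nat_lit 19, nat_lit 1], [nat_lit 1, nat_lit 2, nat_lit 4, nat_lit 1, nat_lit 18], [nat_lit 1, nat_lit 2, nat_lit 10, nat_lit 19], [nat_lit 1, nat_lit 2, nat_lit 4, nat_lit 10], [nat_lit 10, nat_lit 17, nat_lit 18, nat_lit 19, nat_lit 2], [nat_lit 4, nat_lit 1, nat_lit 10, nat_lit 17], [nat_lit 10, nat_lit 19, nat_lit 1, nat_lit 2, nat_lit 4], [nat_lit 3, nat_lit 10, nat_lit 17], [nat_lit 10, nat_lit 18, nat_lit 19, nat_lit 2], [nat_lit 4, nat_lit 1, nat_lit 10], [nat_lit 2, nat_lit 4, nat_lit 2, nat_lit 1, nat_lit 9, nat_lit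 19], [nat_lit 3, nat_lit 1, nat_lit 4], [nat_lit 2, nat_lit 4, nat_lit 10, nat_lit 19, nat_lit 2, nat_lit 1], [nat_lit 3, nat_lit 2, nat_lit 4, nat_lit 10, nat_lit 18], [nat_lit 4, nat_lit 9, nat_lit 19, nat_lit 2], [nat_lit 2, nat_lit 4, nat_lit 2, nat_lit 1, nat_lit 3], [nat_lit 3, nat_lit 1, nat_lit 19, nat_lit 1], [nat_lit 1, nat_lit 3, nat_lit 2, nat_lit 9, nat_lit 17], [nat_lit 2, nat_lit 10, nat_lit 18, nat_lit 19, nat_lit 1], [nat_lit 1, nat_lit 4, nat_lit 1, nat_lit 2, nat_lit 10, nat_lit 18], [nat_lit 3, nat_lit 1, nat_lit 2, nat_lit 17], [nat_lit 3, nat_lit 1, nat_lit 2, nat_lit 9, nat_lit 18, nat_lit 19], [nat_lit 10, nat_lit 19, nat_lit 2, nat_lit 4], [nat_lit 1, nat_lit 3, nat_lit 1, nat_lit 10, nat_lit 18], [nat_lit 2, nat_lit 4, nat_lit 1, nat_lit 3, nat_lit 10], [nat_lit 1, nat_lit 4, nat_lit 10, nat_lit 17, nat_lit 18, nat_lit 19], [nat_lit 3, nat_lit 2, nat_lit 1, nat_lit 10, nat_lit 19], [nat_lit 3, nat_lit 1, nat_lit 2, nat_lit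 10], [nat_lit 1, nat_lit 4, nat_lit 2, nat_lit 18], [nat_lit 2, nat_lit 9, nat_lit 17, nat_lit 19], [nat_lit 1, nat_lit 4, nat_lit 1, nat_lit 2, nat_lit 3], [nat_lit 4, nat_lit 9, nat_lit 19, nat_lit 1], [nat_lit 4, nat_lit 1, nat_lit 19, nat_lit 1], [nat_lit 3, nat_lit 1, nat_lit 4, nat_lit 9, nat_lit 18], [nat_lit 2, nat_lit 18, nat_lit 19, nat_lit 1], [nat_lit 1, nat_lit 4, nat_lit 1, nat_lit 2, nat_lit 9, nat_lit 18], [nat_lit 1, nat_lit 4, nat_lit 2, nat_lit 17, nat_lit 19], [nat_lit 2, nat_lit 9, nat_lit 18], [nat_lit 4, nat_lit 2, nat_lit 9, nat_lit 17, nat_lit 19], [nat_lit 4, nat_lit 2, nat_lit 3], [nat_lit 2, nat_lit 9, nat_lit 19, nat_lit 2, nat_lit 1], [nat_lit 1, nat_lit 4, nat_lit 1, nat_lit 17, nat_lit 18], [nat_lit 1, nat_lit 4, nat_lit 1, nat_lit 10, nat_lit 17], [nat_lit 2, nat_lit 10, nat_lit 17, nat_lit 19, nat_lit 1, nat_lit 2], [nat_lit 3, nat_lit 9, nat_lit 18], [nat_lit 19, nat_lit 2, nat_lit 1, nat_lit 4], [nat_lit 1, nat_lit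 2, nat_lit 4, nat_lit 10, nat_lit 18], [nat_lit 1, nat_lit 2, nat_lit 10, nat_lit 18, nat_lit 19], [nat_lit 1, nat_lit 2, nat_lit 1, nat_lit 4, nat_lit 2, nat_lit 10], [nat_lit 1, nat_lit 10, nat_lit 19, nat_lit 1, nat_lit 2], [nat_lit 1, nat_lit 2, nat_lit 3, nat_lit 2, nat_lit 10, nat_lit 17], [nat_lit 2, nat_lit 3, nat_lit 10, nat_lit 18, nat_lit 19], [nat_lit 4, nat_lit 2, nat_lit 9, nat_lit 19], [nat_lit 4, nat_lit 2, nat_lit 3, nat_lit 17], [nat_lit 4, nat_lit 1, nat_lit 3, nat_lit 2, nat_lit 10], [nat_lit 1, nat_lit 4, nat_lit 10, nat_lit 18, nat_lit 19], [nat_lit 1, nat_lit 4, nat_lit 1, nat_lit 2, nat_lit 1], [nat_lit 2, nat_lit 9, nat_lit 19], [nat_lit 1, nat_lit 2, nat_lit 1, nat_lit 19, nat_lit 1], [nat_lit 1, nat_lit 4, nat_lit 2, nat_lit 1, nat_lit 9], [nat_lit 2, nat_lit 4, nat_lit 2, nat_lit 17], [nat_lit 1, nat_lit 9, nat_lit 17, nat_lit 19, nat_lit 2, nat_lit 1], [nat_lit 3, nat_lit 1, nat_lit 2, nat_lit 4, nat_lit 10, nat_lit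 17], [nat_lit 4, nat_lit 10, nat_lit 17, nat_lit 19, nat_lit 1, nat_lit 2], [nat_lit 2, nat_lit 3, nat_lit 1, nat_lit 4, nat_lit 9, nat_lit 17], [nat_lit 1, nat_lit 4, nat_lit 18, nat_lit 19, nat_lit 1], [nat_lit 1, nat_lit 3, nat_lit 1, nat_lit 2, nat_lit 4], [nat_lit 4, nat_lit 9, nat_lit 18, nat_lit 19, nat_lit 2], [nat_lit 1, nat_lit 4, nat_lit 1, nat_lit 18], [nat_lit 2, nat_lit 9, nat_lit 17, nat_lit 19, nat_lit 2, nat_lit 1], [nat_lit 2, nat_lit 10], [nat_lit 2, nat_lit 1, nat_lit 4, nat_lit 10, nat_lit 19, nat_lit 1], [nat_lit 4, nat_lit 2, nat_lit 1, nat_lit 3], [nat_lit 4, nat_lit 9, nat_lit 17, nat_lit 19], [nat_lit 10, nat_lit 17, nat_lit 18, nat_lit 19], [nat_lit 4, nat_lit 1, nat_lit 2, nat_lit 10, nat_lit 17], [nat_lit 4, nat_lit 1, nat_lit 10, nat_lit 19, nat_lit 1], [nat_lit 3, nat_lit 1, nat_lit 4, nat_lit 10, nat_lit 18], [nat_lit 1, nat_lit 3, nat_lit 1, nat_lit 10, nat_lit 17], [nat_lit 10, nat_lit 17, nat_lit 18, nat_lit 19,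 nat_lit 2, nat_lit 4], [nat_lit 1, nat_lit 3, nat_lit 9, nat_lit 17, nat_lit 18, nat_lit 19], [nat_lit 2, nat_lit 1, nat_lit 3, nat_lit 1], [nat_lit 4, nat_lit 2, nat_lit 3, nat_lit 9, nat_lit 18], [nat_lit 4, nat_lit 1, nat_lit 2, nat_lit 1, nat_lit 19], [nat_lit 2, nat_lit 3, nat_lit 1, nat_lit 2, nat_lit 10], [nat_lit 3, nat_lit 2, nat_lit 10, nat_lit 18, nat_lit 19], [nat_lit 2, nat_lit 17, nat_lit 19, nat_lit 1], [nat_lit 1, nat_lit 4, nat_lit 1, nat_lit 2, nat_lit 9, nat_lit 17], [nat_lit 1, nat_lit 4, nat_lit 2, nat_lit 9, nat_lit 18, nat_lit 19], [nat_lit 2, nat_lit 17], [nat_lit 4, nat_lit 9, nat_lit 18, nat_lit 19, nat_lit 1], [nat_lit 2, nat_lit 3, nat_lit 1, nat_lit 2, nat_lit 4], [nat_lit 2, nat_lit 4, nat_lit 2, nat_lit 1, nat_lit 19], [nat_lit 3, nat_lit 1, nat_lit 4, nat_lit 9], [nat_lit 2, nat_lit 19, nat_lit 1], [nat_lit 1, nat_lit 4, nat_lit 1, nat_lit 2, nat_lit 9], [nat_lit 2, nat_lit 9], [nat_lit 2, nat_lit 1, nat_lit 4, nat_lit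 19, nat_lit 1], [nat_lit 4, nat_lit 1, nat_lit 10, nat_lit 17, nat_lit 19], [nat_lit 1, nat_lit 5, nat_lit 1, nat_lit 10, nat_lit 18, nat_lit 5], [nat_lit 4, nat_lit 19, nat_lit 1, nat_lit 2], [nat_lit 3, nat_lit 1, nat_lit 2, nat_lit 4, nat_lit 9], [nat_lit 2, nat_lit 1, nat_lit 4, nat_lit 1, nat_lit 10], [nat_lit 2, nat_lit 1, nat_lit 10, nat_lit 19, nat_lit 1], [nat_lit 4, nat_lit 10, nat_lit 18, nat_lit 19], [nat_lit 4, nat_lit 1, nat_lit 2, nat_lit 3, nat_lit 10], [nat_lit 10, nat_lit 18, nat_lit 19, nat_lit 1], [nat_lit 4, nat_lit 1, nat_lit 2, nat_lit 1, nat_lit 10], [nat_lit 3, nat_lit 1, nat_lit 4, nat_lit 2, nat_lit 10], [nat_lit 1, nat_lit 4, nat_lit 10, nat_lit 17, nat_lit 19, nat_lit 1], [nat_lit 1, nat_lit 2, nat_lit 4, nat_lit 19], [nat_lit 1, nat_lit 2, nat_lit 9], [nat_lit 4, nat_lit 1, nat_lit 17, nat_lit 19], [nat_lit 1, nat_lit 5, nat_lit 1, nat_lit 9, nat_lit 18, nat_lit 5], [nat_lit 4, nat_lit 1, nat_lit 10, nat_lit 17, nat_lit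 18, nat_lit 19], [nat_lit 4, nat_lit 1, nat_lit 3, nat_lit 10, nat_lit 17], [nat_lit 4, nat_lit 2, nat_lit 3, nat_lit 9], [nat_lit 4, nat_lit 2, nat_lit 17, nat_lit 19], [nat_lit 10, nat_lit 17, nat_lit 19, nat_lit 2, nat_lit 4], [nat_lit 1, nat_lit 3, nat_lit 1, nat_lit 10, nat_lit 17, nat_lit 18], [nat_lit 1, nat_lit 4, nat_lit 2, nat_lit 1, nat_lit 3], [nat_lit 4, nat_lit 9, nat_lit 17, nat_lit 18, nat_lit 19, nat_lit 1], [nat_lit 3, nat_lit 1, nat_lit 9, nat_lit 19, nat_lit 1], [nat_lit 1, nat_lit 3, nat_lit 2, nat_lit 17], [nat_lit 4, nat_lit 10, nat_lit 17, nat_lit 18, nat_lit 19], [nat_lit 4, nat_lit 1, nat_lit 2, nat_lit 3, nat_lit 10, nat_lit 17], [nat_lit 4, nat_lit 2, nat_lit 19], [nat_lit 4, nat_lit 2, nat_lit 3, nat_lit 9, nat_lit 17], [nat_lit 1, nat_lit 2, nat_lit 3, nat_lit 1, nat_lit 19], [nat_lit 1, nat_lit 3, nat_lit 9], [nat_lit 2, nat_lit 3, nat_lit 1, nat_lit 10, nat_lit 17], [nat_lit 1, nat_lit 3, nat_lit 2, nat_lit 10, nat_lit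 18, nat_lit 19], [nat_lit 4, nat_lit 2, nat_lit 10, nat_lit 18], [nat_lit 10, nat_lit 17, nat_lit 18, nat_lit 19, nat_lit 1], [nat_lit 4, nat_lit 2, nat_lit 10, nat_lit 17], [nat_lit 10, nat_lit 19, nat_lit 1], [nat_lit 3, nat_lit 1], [nat_lit 2, nat_lit 9, nat_lit 19, nat_lit 1, nat_lit 2, nat_lit 4], [nat_lit 3, nat_lit 1, nat_lit 17, nat_lit 18], [nat_lit 2, nat_lit 9, nat_lit 19, nat_lit 2, nat_lit 1, nat_lit 4], [nat_lit 4, nat_lit 18, nat_lit 19, nat_lit 2], [nat_lit 1, nat_lit 3, nat_lit 1, nat_lit 2, nat_lit 4, nat_lit 9], [nat_lit 4, nat_lit 1, nat_lit 2, nat_lit 17], [nat_lit 9, nat_lit 17, nat_lit 18, nat_lit 19], [nat_lit 4, nat_lit 1, nat_lit 9, nat_lit 17], [nat_lit 17, nat_lit 18, nat_lit 19, nat_lit 2], [nat_lit 1, nat_lit 4, nat_lit 2, nat_lit 3, nat_lit 10], [nat_lit 1, nat_lit 2, nat_lit 1, nat_lit 4, nat_lit 10, nat_lit 19], [nat_lit 4, nat_lit 1, nat_lit 2, nat_lit 3, nat_lit 10, nat_lit 18], [nat_lit 4, nat_lit 10, nat_lit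 19], [nat_lit 1, nat_lit 2, nat_lit 3, nat_lit 1, nat_lit 9], [nat_lit 1, nat_lit 3, nat_lit 19], [nat_lit 1, nat_lit 3, nat_lit 2, nat_lit 4, nat_lit 10, nat_lit 18], [nat_lit 2, nat_lit 4, nat_lit 10, nat_lit 17, nat_lit 19, nat_lit 2], [nat_lit 2, nat_lit 4, nat_lit 9, nat_lit 18, nat_lit 19, nat_lit 2], [nat_lit 3, nat_lit 2, nat_lit 4, nat_lit 1], [nat_lit 2, nat_lit 4, nat_lit 1, nat_lit 9, nat_lit 19], [nat_lit 1, nat_lit 17, nat_lit 18], [nat_lit 1, nat_lit 3, nat_lit 10, nat_lit 17, nat_lit 19], [nat_lit 1, nat_lit 2, nat_lit 3, nat_lit 1, nat_lit 10, nat_lit 17], [nat_lit 2, nat_lit 4, nat_lit 1, nat_lit 10, nat_lit 17], [nat_lit 1, nat_lit 10, nat_lit 18, nat_lit 19], [nat_lit 3, nat_lit 1, nat_lit 18], [nat_lit 1, nat_lit 3, nat_lit 1, nat_lit 2, nat_lit 9, nat_lit 19], [nat_lit 2, nat_lit 3, nat_lit 17], [nat_lit 9, nat_lit 19, nat_lit 1, nat_lit 4, nat_lit 2], [nat_lit 2, nat_lit 4, nat_lit 1, nat_lit 2, nat_lit 3, nat_lit 9], [nat_lit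 4, nat_lit 17, nat_lit 18, nat_lit 19, nat_lit 2], [nat_lit 1, nat_lit 2, nat_lit 3, nat_lit 1, nat_lit 10], [nat_lit 1, nat_lit 3, nat_lit 10, nat_lit 19], [nat_lit 3, nat_lit 1, nat_lit 10, nat_lit 18, nat_lit 19], [nat_lit 1, nat_lit 3, nat_lit 1, nat_lit 2, nat_lit 10], [nat_lit 1, nat_lit 3, nat_lit 1, nat_lit 10], [nat_lit 10, nat_lit 18, nat_lit 19, nat_lit 2, nat_lit 4], [nat_lit 1, nat_lit 2, nat_lit 1, nat_lit 3, nat_lit 1], [nat_lit 1, nat_lit 3, nat_lit 2, nat_lit 9, nat_lit 19], [nat_lit 1, nat_lit 2, nat_lit 4, nat_lit 1, nat_lit 9, nat_lit 19], [nat_lit 1, nat_lit 3, nat_lit 2, nat_lit 4], [nat_lit 4, nat_lit 1, nat_lit 2, nat_lit 10, nat_lit 19], [nat_lit 10, nat_lit 18], [nat_lit 2, nat_lit 4, nat_lit 1, nat_lit 19], [nat_lit 1, nat_lit 9, nat_lit 17, nat_lit 18], [nat_lit 19, nat_lit 1, nat_lit 2, nat_lit 4], [nat_lit 3, nat_lit 9, nat_lit 17], [nat_lit 3, nat_lit 1, nat_lit 10, nat_lit 17, nat_lit 18, nat_lit 19], [nat_lit 1,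 nat_lit 3, nat_lit 1, nat_lit 2, nat_lit 10, nat_lit 17], [nat_lit 10, nat_lit 17, nat_lit 19, nat_lit 1, nat_lit 2, nat_lit 4], [nat_lit 3, nat_lit 10], [nat_lit 4, nat_lit 9, nat_lit 18, nat_lit 19], [nat_lit 4, nat_lit 1, nat_lit 2, nat_lit 3], [nat_lit 1, nat_lit 2, nat_lit 4, nat_lit 2, nat_lit 9, nat_lit 18], [nat_lit 1, nat_lit 2, nat_lit 18, nat_lit 19, nat_lit 2], [nat_lit 1, nat_lit 2, nat_lit 1, nat_lit 3, nat_lit 10, nat_lit 19], [nat_lit 1, nat_lit 2, nat_lit 3, nat_lit 2, nat_lit 10], [nat_lit 9, nat_lit 17, nat_lit 18, nat_lit 19, nat_lit 1], [nat_lit 4, nat_lit 2, nat_lit 18], [nat_lit 1, nat_lit 9, nat_lit 17, nat_lit 18, nat_lit 19], [nat_lit 2, nat_lit 4, nat_lit 1], [nat_lit 4, nat_lit 9, nat_lit 19, nat_lit 1, nat_lit 2], [nat_lit 3, nat_lit 1, nat_lit 2, nat_lit 4], [nat_lit 1, nat_lit 3, nat_lit 1, nat_lit 2, nat_lit 9, nat_lit 17], [nat_lit 3, nat_lit 1, nat_lit 17, nat_lit 18, nat_lit 19], [nat_lit 10, nat_lit 17, nat_lit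 18], [nat_lit 1, nat_lit 4, nat_lit 2, nat_lit 10, nat_lit 19, nat_lit 2], [nat_lit 3, nat_lit 1, nat_lit 2, nat_lit 1, nat_lit 19], [nat_lit 1, nat_lit 4, nat_lit 2, nat_lit 1, nat_lit 4, nat_lit 9], [nat_lit 3, nat_lit 1, nat_lit 2, nat_lit 4, nat_lit 10], [nat_lit 4, nat_lit 10, nat_lit 19, nat_lit 1, nat_lit 2], [nat_lit 1, nat_lit 2, nat_lit 1, nat_lit 19], [nat_lit 1, nat_lit 4, nat_lit 2, nat_lit 9], [nat_lit 2, nat_lit 18, nat_lit 19], [nat_lit 1, nat_lit 4, nat_lit 2, nat_lit 9, nat_lit 17], [nat_lit 4, nat_lit 9, nat_lit 17, nat_lit 19, nat_lit 1, nat_lit 2], [nat_lit 3, nat_lit 1, nat_lit 2, nat_lit 4, nat_lit 17], [nat_lit 2, nat_lit 4, nat_lit 9, nat_lit 19, nat_lit 2, nat_lit 1], [nat_lit 3, nat_lit 2, nat_lit 4, nat_lit 18], [nat_lit 9, nat_lit 19, nat_lit 2, nat_lit 4, nat_lit 1], [nat_lit 1, nat_lit 3, nat_lit 18], [nat_lit 1, nat_lit 4, nat_lit 2, nat_lit 10], [nat_lit 1, nat_lit 2, nat_lit 1, nat_lit 10, nat_lit 19], [nat_lit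 2, nat_lit 3, nat_lit 1, nat_lit 9, nat_lit 19], [nat_lit 1, nat_lit 3, nat_lit 1, nat_lit 2, nat_lit 1], [nat_lit 1, nat_lit 3, nat_lit 1, nat_lit 9, nat_lit 17, nat_lit 18], [nat_lit 17, nat_lit 19, nat_lit 2, nat_lit 4], [nat_lit 2, nat_lit 1, nat_lit 9, nat_lit 19, nat_lit 1], [nat_lit 2, nat_lit 1, nat_lit 4, nat_lit 1], [nat_lit 2, nat_lit 4, nat_lit 10, nat_lit 17, nat_lit 19], [nat_lit 4, nat_lit 2, nat_lit 3, nat_lit 1, nat_lit 10], [nat_lit 2, nat_lit 1, nat_lit 4, nat_lit 2, nat_lit 3, nat_lit 10], [nat_lit 2, nat_lit 4, nat_lit 10, nat_lit 19, nat_lit 2], [nat_lit 2, nat_lit 4, nat_lit 1, nat_lit 18], [nat_lit 1, nat_lit 9, nat_lit 17, nat_lit 19], [nat_lit 1], [nat_lit 1, nat_lit 2, nat_lit 4, nat_lit 9, nat_lit 19, nat_lit 2], [nat_lit 2, nat_lit 4, nat_lit 2, nat_lit 18], [nat_lit 1, nat_lit 9, nat_lit 17, nat_lit 19, nat_lit 1, nat_lit 2], [nat_lit 3, nat_lit 1, nat_lit 9, nat_lit 19], [nat_lit 1, nat_lit 3, nat_lit 1, nat_lit 2,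 nat_lit 18], [nat_lit 1, nat_lit 10, nat_lit 17, nat_lit 18, nat_lit 19, nat_lit 2], [nat_lit 2, nat_lit 4, nat_lit 1, nat_lit 2, nat_lit 10], [nat_lit 1, nat_lit 9, nat_lit 18], [nat_lit 2, nat_lit 4, nat_lit 1, nat_lit 17, nat_lit 19], [nat_lit 3, nat_lit 2, nat_lit 4, nat_lit 17], [nat_lit 4, nat_lit 2, nat_lit 9, nat_lit 19, nat_lit 2], [nat_lit 1, nat_lit 2, nat_lit 1, nat_lit 4, nat_lit 1], [nat_lit 1, nat_lit 9, nat_lit 19], [nat_lit 1, nat_lit 3, nat_lit 10, nat_lit 17, nat_lit 18, nat_lit 19], [nat_lit 2, nat_lit 1, nat_lit 3, nat_lit 1, nat_lit 10], [nat_lit 1, nat_lit 2, nat_lit 3, nat_lit 1, nat_lit 10, nat_lit 18], [nat_lit 1, nat_lit 3, nat_lit 10, nat_lit 18, nat_lit 19], [nat_lit 3, nat_lit 17], [nat_lit 9, nat_lit 19, nat_lit 1, nat_lit 2, nat_lit 4], [nat_lit 4, nat_lit 1, nat_lit 3, nat_lit 18], [nat_lit 4, nat_lit 1, nat_lit 9, nat_lit 19], [nat_lit 3, nat_lit 2, nat_lit 17, nat_lit 19], [nat_lit 2, nat_lit 3, nat_lit 2, nat_lit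 1, nat_lit 9], [nat_lit 1, nat_lit 4, nat_lit 2, nat_lit 1, nat_lit 4, nat_lit 10], [nat_lit 3, nat_lit 1, nat_lit 2, nat_lit 1, nat_lit 10, nat_lit 19], [nat_lit 1, nat_lit 2, nat_lit 10, nat_lit 18], [nat_lit 1, nat_lit 2, nat_lit 4, nat_lit 10, nat_lit 18, nat_lit 19], [nat_lit 9, nat_lit 19, nat_lit 1], [nat_lit 4, nat_lit 2, nat_lit 17], [nat_lit 1, nat_lit 2, nat_lit 4, nat_lit 1, nat_lit 2], [nat_lit 1, nat_lit 2, nat_lit 9, nat_lit 19, nat_lit 1, nat_lit 2], [nat_lit 1, nat_lit 3, nat_lit 1, nat_lit 9, nat_lit 17], [nat_lit 17, nat_lit 18, nat_lit 19, nat_lit 2, nat_lit 4], [nat_lit 2, nat_lit 3], [nat_lit 2, nat_lit 1, nat_lit 3, nat_lit 2, nat_lit 9, nat_lit 19], [nat_lit 2, nat_lit 17, nat_lit 19, nat_lit 2, nat_lit 1], [nat_lit 1, nat_lit 4, nat_lit 1, nat_lit 9, nat_lit 18], [nat_lit 1, nat_lit 4, nat_lit 1, nat_lit 9], [nat_lit 2, nat_lit 19, nat_lit 1, nat_lit 2], [nat_lit 1, nat_lit 3, nat_lit 1, nat_lit 9], [nat_lit 18, nat_lit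 19, nat_lit 2, nat_lit 4], [nat_lit 3, nat_lit 2, nat_lit 1, nat_lit 19], [nat_lit 3, nat_lit 1, nat_lit 2, nat_lit 9], [nat_lit 2, nat_lit 1], [nat_lit 2, nat_lit 1, nat_lit 4, nat_lit 9, nat_lit 19], [nat_lit 1, nat_lit 2, nat_lit 9, nat_lit 19, nat_lit 2, nat_lit 4], [nat_lit 1, nat_lit 3, nat_lit 2], [nat_lit 1, nat_lit 10, nat_lit 19], [nat_lit 1, nat_lit 2, nat_lit 1, nat_lit 4, nat_lit 1, nat_lit 10], [nat_lit 17, nat_lit 19, nat_lit 1, nat_lit 2], [nat_lit 4, nat_lit 9], [nat_lit 1, nat_lit 10, nat_lit 17, nat_lit 19], [nat_lit 2, nat_lit 4, nat_lit 1, nat_lit 10, nat_lit 18], [nat_lit 1, nat_lit 19, nat_lit 1, nat_lit 4], [nat_lit 1, nat_lit 2, nat_lit 1, nat_lit 3, nat_lit 9], [nat_lit 9, nat_lit 17, nat_lit 19, nat_lit 2, nat_lit 1], [nat_lit 4, nat_lit 17, nat_lit 18], [nat_lit 2, nat_lit 10, nat_lit 19, nat_lit 2], [nat_lit 1, nat_lit 4, nat_lit 10, nat_lit 17, nat_lit 18], [nat_lit 1, nat_lit 4, nat_lit 2, nat_lit 1, nat_lit 10, nat_lit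 19], [nat_lit 3, nat_lit 1, nat_lit 2, nat_lit 1, nat_lit 4, nat_lit 10], [nat_lit 3, nat_lit 2, nat_lit 1, nat_lit 4, nat_lit 9], [nat_lit 4, nat_lit 19, nat_lit 2, nat_lit 1], [nat_lit 19, nat_lit 1, nat_lit 4, nat_lit 2], [nat_lit 2, nat_lit 3, nat_lit 9, nat_lit 17], [nat_lit 2, nat_lit 10, nat_lit 19, nat_lit 2, nat_lit 1], [nat_lit 1, nat_lit 4, nat_lit 1, nat_lit 10, nat_lit 17, nat_lit 18], [nat_lit 4, nat_lit 1, nat_lit 2, nat_lit 10], [nat_lit 10, nat_lit 18, nat_lit 19], [nat_lit 2, nat_lit 1, nat_lit 3, nat_lit 2, nat_lit 10], [nat_lit 2, nat_lit 3, nat_lit 10, nat_lit 19], [nat_lit 1, nat_lit 3, nat_lit 2, nat_lit 1, nat_lit 3, nat_lit 9], [nat_lit 1, nat_lit 17, nat_lit 19, nat_lit 2], [nat_lit 1, nat_lit 4, nat_lit 2, nat_lit 10, nat_lit 17], [nat_lit 2, nat_lit 10, nat_lit 18, nat_lit 19], [nat_lit 2, nat_lit 10, nat_lit 17], [nat_lit 1, nat_lit 4, nat_lit 2, nat_lit 10, nat_lit 18, nat_lit 19], [nat_lit 1, nat_lit 4, nat_lit 1,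 nat_lit 2], [nat_lit 2, nat_lit 9, nat_lit 19, nat_lit 1], [nat_lit 4, nat_lit 9, nat_lit 17, nat_lit 18, nat_lit 19], [nat_lit 4, nat_lit 1, nat_lit 2, nat_lit 3, nat_lit 17], [nat_lit 1, nat_lit 2, nat_lit 1, nat_lit 4, nat_lit 19], [nat_lit 1, nat_lit 4, nat_lit 2, nat_lit 3, nat_lit 9], [nat_lit 1, nat_lit 2, nat_lit 1, nat_lit 4, nat_lit 2], [nat_lit 1, nat_lit 9, nat_lit 19, nat_lit 1, nat_lit 2], [nat_lit 1, nat_lit 4, nat_lit 1, nat_lit 9, nat_lit 17], [nat_lit 2, nat_lit 17, nat_lit 19, nat_lit 1, nat_lit 2], [nat_lit 4, nat_lit 10, nat_lit 17], [nat_lit 10, nat_lit 19, nat_lit 1, nat_lit 2], [nat_lit 1, nat_lit 2, nat_lit 3, nat_lit 2, nat_lit 10, nat_lit 18], [nat_lit 2, nat_lit 3, nat_lit 10, nat_lit 17, nat_lit 19], [nat_lit 1, nat_lit 2, nat_lit 3, nat_lit 18], [nat_lit 1, nat_lit 2, nat_lit 3, nat_lit 9, nat_lit 18, nat_lit 19], [nat_lit 3, nat_lit 1, nat_lit 2, nat_lit 18, nat_lit 19], [nat_lit 3, nat_lit 1, nat_lit 2, nat_lit 9,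 nat_lit 17], [nat_lit 19, nat_lit 1, nat_lit 2], [nat_lit 4, nat_lit 9, nat_lit 17], [nat_lit 4, nat_lit 1, nat_lit 2], [nat_lit 9, nat_lit 18, nat_lit 19], [nat_lit 1, nat_lit 2, nat_lit 9, nat_lit 18, nat_lit 19], [nat_lit 1, nat_lit 2, nat_lit 4, nat_lit 18], [nat_lit 2, nat_lit 1, nat_lit 9, nat_lit 19], [nat_lit 2, nat_lit 1, nat_lit 4], [nat_lit 1, nat_lit 2, nat_lit 18, nat_lit 19, nat_lit 1], [nat_lit 1, nat_lit 2, nat_lit 4, nat_lit 1, nat_lit 9, nat_lit 18], [nat_lit 9, nat_lit 18, nat_lit 19, nat_lit 2], [nat_lit 4, nat_lit 1], [nat_lit 9, nat_lit 17, nat_lit 19, nat_lit 1], [nat_lit 4, nat_lit 2], [nat_lit 1, nat_lit 2, nat_lit 9, nat_lit 19, nat_lit 2, nat_lit 1], [nat_lit 1, nat_lit 2, nat_lit 4, nat_lit 2, nat_lit 1], [nat_lit 4, nat_lit 10, nat_lit 18, nat_lit 19, nat_lit 1], [nat_lit 2, nat_lit 3, nat_lit 1, nat_lit 2, nat_lit 4, nat_lit 10], [nat_lit 3, nat_lit 2, nat_lit 17], [nat_lit 2, nat_lit 3, nat_lit 2, nat_lit 1, nat_lit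 9, nat_lit 19], [nat_lit 2, nat_lit 10, nat_lit 19], [nat_lit 1, nat_lit 4, nat_lit 1, nat_lit 2, nat_lit 1, nat_lit 10], [nat_lit 2, nat_lit 10, nat_lit 19, nat_lit 2, nat_lit 1, nat_lit 4], [nat_lit 3, nat_lit 1, nat_lit 10, nat_lit 17, nat_lit 18], [nat_lit 1, nat_lit 3, nat_lit 2, nat_lit 9, nat_lit 18, nat_lit 19], [nat_lit 2, nat_lit 3, nat_lit 1, nat_lit 17], [nat_lit 1, nat_lit 3, nat_lit 2, nat_lit 4, nat_lit 9], [nat_lit 1, nat_lit 2, nat_lit 4, nat_lit 1, nat_lit 19], [nat_lit 2, nat_lit 1, nat_lit 9, nat_lit 19, nat_lit 1, nat_lit 4], [nat_lit 2, nat_lit 3, nat_lit 1], [nat_lit 2, nat_lit 1, nat_lit 19, nat_lit 1], [nat_lit 2, nat_lit 1, nat_lit 4, nat_lit 1, nat_lit 9], [nat_lit 3, nat_lit 2], [nat_lit 1, nat_lit 9, nat_lit 19, nat_lit 2, nat_lit 1, nat_lit 4], [nat_lit 3, nat_lit 2, nat_lit 1, nat_lit 3], [nat_lit 3, nat_lit 1, nat_lit 2, nat_lit 4, nat_lit 9, nat_lit 19], [nat_lit 1, nat_lit 4, nat_lit 2, nat_lit 1, nat_lit 19],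 [nat_lit 3, nat_lit 1, nat_lit 2, nat_lit 1, nat_lit 4, nat_lit 9], [nat_lit 4, nat_lit 1, nat_lit 17], [nat_lit 9, nat_lit 17, nat_lit 18, nat_lit 19, nat_lit 2], [nat_lit 1, nat_lit 3, nat_lit 1, nat_lit 2, nat_lit 10, nat_lit 19], [nat_lit 3, nat_lit 1, nat_lit 10, nat_lit 18], [nat_lit 2, nat_lit 1, nat_lit 4, nat_lit 2], [nat_lit 2, nat_lit 1, nat_lit 9, nat_lit 19, nat_lit 2], [nat_lit 2, nat_lit 4, nat_lit 19, nat_lit 2, nat_lit 1], [nat_lit 3, nat_lit 2, nat_lit 4, nat_lit 9, nat_lit 18], [nat_lit 1, nat_lit 4, nat_lit 9, nat_lit 17], [nat_lit 2, nat_lit 18, nat_lit 19, nat_lit 2], [nat_lit 1, nat_lit 3, nat_lit 2, nat_lit 1, nat_lit 9], [nat_lit 3, nat_lit 1, nat_lit 17, nat_lit 19], [nat_lit 1, nat_lit 4, nat_lit 2, nat_lit 19], [nat_lit 1, nat_lit 2, nat_lit 1, nat_lit 9], [nat_lit 2, nat_lit 3, nat_lit 1, nat_lit 9, nat_lit 18], [nat_lit 3, nat_lit 2, nat_lit 19, nat_lit 2], [nat_lit 17, nat_lit 19, nat_lit 1, nat_lit 4], [nat_lit 2,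 nat_lit 3, nat_lit 2, nat_lit 9], [nat_lit 2, nat_lit 4, nat_lit 9, nat_lit 18, nat_lit 19], [nat_lit 1, nat_lit 4, nat_lit 2, nat_lit 3, nat_lit 17], [nat_lit 19, nat_lit 2, nat_lit 4, nat_lit 1], [nat_lit 1, nat_lit 3, nat_lit 9, nat_lit 18], [nat_lit 1, nat_lit 3, nat_lit 1, nat_lit 2, nat_lit 9, nat_lit 18], [nat_lit 3, nat_lit 1, nat_lit 19], [nat_lit 3, nat_lit 2, nat_lit 10, nat_lit 19, nat_lit 2], [nat_lit 2, nat_lit 3, nat_lit 1, nat_lit 10, nat_lit 18], [nat_lit 1, nat_lit 4, nat_lit 17, nat_lit 19], [nat_lit 2, nat_lit 4, nat_lit 1, nat_lit 3, nat_lit 9, nat_lit 18], [nat_lit 2, nat_lit 3, nat_lit 2, nat_lit 1, nat_lit 4, nat_lit 9], [nat_lit 4, nat_lit 17, nat_lit 19, nat_lit 1], [nat_lit 1, nat_lit 4, nat_lit 2, nat_lit 3], [nat_lit 1, nat_lit 2, nat_lit 1, nat_lit 4, nat_lit 9, nat_lit 19], [nat_lit 1, nat_lit 4, nat_lit 1, nat_lit 2, nat_lit 3, nat_lit 9], [nat_lit 4, nat_lit 19, nat_lit 1], [nat_lit 2, nat_lit 9, nat_lit 19, nat_lit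 2, nat_lit 4], [nat_lit 1, nat_lit 3, nat_lit 17, nat_lit 18], [nat_lit 1, nat_lit 2, nat_lit 3, nat_lit 1, nat_lit 4, nat_lit 9], [nat_lit 1, nat_lit 4, nat_lit 19], [nat_lit 9, nat_lit 19, nat_lit 2, nat_lit 1, nat_lit 4], [nat_lit 3, nat_lit 18], [nat_lit 4, nat_lit 2, nat_lit 1, nat_lit 3, nat_lit 9], [nat_lit 4, nat_lit 17, nat_lit 19], [nat_lit 4, nat_lit 1, nat_lit 2, nat_lit 3, nat_lit 9, nat_lit 18], [nat_lit 4, nat_lit 19], [nat_lit 1, nat_lit 2, nat_lit 1, nat_lit 19, nat_lit 2], [nat_lit 1, nat_lit 4, nat_lit 9], [nat_lit 1, nat_lit 3, nat_lit 1, nat_lit 17, nat_lit 18], [nat_lit 9, nat_lit 17, nat_lit 19, nat_lit 2, nat_lit 4], [nat_lit 2, nat_lit 3, nat_lit 9, nat_lit 18], [nat_lit 1, nat_lit 17, nat_lit 19, nat_lit 1, nat_lit 4], [nat_lit 1, nat_lit 4, nat_lit 1, nat_lit 10], [nat_lit 2, nat_lit 10, nat_lit 19, nat_lit 1, nat_lit 2], [nat_lit 10, nat_lit 17, nat_lit 19], [nat_lit 4, nat_lit 2, nat_lit 1, nat_lit 10], [nat_lit 2,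 nat_lit 19, nat_lit 2, nat_lit 4], [nat_lit 1, nat_lit 3, nat_lit 9, nat_lit 17, nat_lit 18], [nat_lit 1, nat_lit 2, nat_lit 1, nat_lit 3, nat_lit 1, nat_lit 9], [nat_lit 1, nat_lit 3, nat_lit 2, nat_lit 19], [nat_lit 9, nat_lit 19], [nat_lit 4, nat_lit 1, nat_lit 2, nat_lit 18], [nat_lit 3, nat_lit 1, nat_lit 2, nat_lit 10, nat_lit 17], [nat_lit 3, nat_lit 1, nat_lit 2, nat_lit 10, nat_lit 18, nat_lit 19], [nat_lit 4, nat_lit 1, nat_lit 2, nat_lit 4, nat_lit 10], [nat_lit 3, nat_lit 10, nat_lit 18, nat_lit 19], [nat_lit 1, nat_lit 4, nat_lit 1, nat_lit 2, nat_lit 3, nat_lit 10], [nat_lit 4, nat_lit 10, nat_lit 19, nat_lit 1], [nat_lit 3, nat_lit 1, nat_lit 4, nat_lit 9, nat_lit 17], [nat_lit 1, nat_lit 4, nat_lit 19, nat_lit 1, nat_lit 2], [nat_lit 2, nat_lit 3, nat_lit 2, nat_lit 10, nat_lit 17], [nat_lit 10, nat_lit 19, nat_lit 1, nat_lit 4], [nat_lit 18, nat_lit 19, nat_lit 1], [nat_lit 4, nat_lit 1, nat_lit 2, nat_lit 1, nat_lit 9], [nat_lit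 4, nat_lit 17, nat_lit 18, nat_lit 19, nat_lit 1], [nat_lit 1, nat_lit 4, nat_lit 2, nat_lit 1, nat_lit 3, nat_lit 9], [nat_lit 2, nat_lit 10, nat_lit 17, nat_lit 19, nat_lit 1], [nat_lit 1, nat_lit 4, nat_lit 1, nat_lit 2, nat_lit 10, nat_lit 17], [nat_lit 1, nat_lit 2, nat_lit 4, nat_lit 1, nat_lit 10], [nat_lit 1, nat_lit 2, nat_lit 10, nat_lit 19, nat_lit 1], [nat_lit 1, nat_lit 17, nat_lit 19, nat_lit 2, nat_lit 1], [nat_lit 2, nat_lit 4, nat_lit 2, nat_lit 9, nat_lit 17], [nat_lit 1, nat_lit 3, nat_lit 1, nat_lit 2, nat_lit 17], [nat_lit 3, nat_lit 1, nat_lit 9, nat_lit 17, nat_lit 18, nat_lit 19], [nat_lit 2, nat_lit 1, nat_lit 4, nat_lit 10], [nat_lit 2, nat_lit 1, nat_lit 10, nat_lit 19], [nat_lit 1, nat_lit 10, nat_lit 17, nat_lit 19, nat_lit 2, nat_lit 1], [nat_lit 2, nat_lit 4, nat_lit 2, nat_lit 10, nat_lit 17], [nat_lit 2, nat_lit 3, nat_lit 1, nat_lit 2, nat_lit 10, nat_lit 19], [nat_lit 3, nat_lit 2, nat_lit 10, nat_lit 18], [nat_lit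 4, nat_lit 1, nat_lit 2, nat_lit 10, nat_lit 18, nat_lit 19], [nat_lit 10], [nat_lit 2, nat_lit 3, nat_lit 2, nat_lit 10], [nat_lit 10, nat_lit 17, nat_lit 19, nat_lit 1, nat_lit 4], [nat_lit 4, nat_lit 1, nat_lit 2, nat_lit 1, nat_lit 9, nat_lit 19], [nat_lit 4, nat_lit 2, nat_lit 3, nat_lit 18], [nat_lit 2, nat_lit 4, nat_lit 1, nat_lit 3, nat_lit 18], [nat_lit 1, nat_lit 4, nat_lit 9, nat_lit 17, nat_lit 19], [nat_lit 2, nat_lit 19, nat_lit 2, nat_lit 1], [nat_lit 1, nat_lit 4, nat_lit 1, nat_lit 9, nat_lit 17, nat_lit 18], [nat_lit 2, nat_lit 4, nat_lit 2, nat_lit 10], [nat_lit 1, nat_lit 10, nat_lit 19, nat_lit 2, nat_lit 1], [nat_lit 1, nat_lit 10, nat_lit 19, nat_lit 1, nat_lit 2, nat_lit 4], [nat_lit 3, nat_lit 1, nat_lit 2, nat_lit 1, nat_lit 10], [nat_lit 4, nat_lit 2, nat_lit 1, nat_lit 10, nat_lit 19], [nat_lit 10, nat_lit 17], [nat_lit 1, nat_lit 2, nat_lit 4, nat_lit 2, nat_lit 17], [nat_lit 1, nat_lit 2, nat_lit 9, nat_lit 17, nat_lit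 19, nat_lit 2], [nat_lit 1, nat_lit 2, nat_lit 4, nat_lit 9], [nat_lit 1, nat_lit 2, nat_lit 19], [nat_lit 3, nat_lit 9], [nat_lit 17, nat_lit 19, nat_lit 1, nat_lit 2, nat_lit 4], [nat_lit 2, nat_lit 3, nat_lit 9], [nat_lit 2, nat_lit 1, nat_lit 3, nat_lit 2, nat_lit 19], [nat_lit 1, nat_lit 2, nat_lit 10, nat_lit 17, nat_lit 19, nat_lit 2], [nat_lit 1, nat_lit 2, nat_lit 4, nat_lit 2, nat_lit 10, nat_lit 17], [nat_lit 10, nat_lit 19, nat_lit 1, nat_lit 4, nat_lit 2], [nat_lit 2, nat_lit 3, nat_lit 10, nat_lit 17], [nat_lit 1, nat_lit 3, nat_lit 1, nat_lit 2, nat_lit 1, nat_lit 10], [nat_lit 2, nat_lit 3, nat_lit 1, nat_lit 10, nat_lit 19], [nat_lit 2, nat_lit 3, nat_lit 2], [nat_lit 9, nat_lit 17, nat_lit 19, nat_lit 1, nat_lit 4], [nat_lit 3, nat_lit 10, nat_lit 17, nat_lit 18, nat_lit 19], [nat_lit 1, nat_lit 2, nat_lit 3, nat_lit 2, nat_lit 1, nat_lit 10], [nat_lit 2, nat_lit 3, nat_lit 2, nat_lit 1, nat_lit 4, nat_lit 10], [nat_lit 4, nat_lit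 10, nat_lit 17, nat_lit 19, nat_lit 1], [nat_lit 3, nat_lit 1, nat_lit 2, nat_lit 9, nat_lit 18], [nat_lit 3, nat_lit 1, nat_lit 2, nat_lit 17, nat_lit 19], [nat_lit 9, nat_lit 19, nat_lit 1, nat_lit 4], [nat_lit 2, nat_lit 3, nat_lit 2, nat_lit 17], [nat_lit 1, nat_lit 4], [nat_lit 1, nat_lit 2, nat_lit 1, nat_lit 9, nat_lit 19, nat_lit 2], [nat_lit 1, nat_lit 10, nat_lit 17, nat_lit 18], [nat_lit 2, nat_lit 4, nat_lit 1, nat_lit 10, nat_lit 19], [nat_lit 5, nat_lit 1, nat_lit 18, nat_lit 5], [nat_lit 2, nat_lit 4, nat_lit 1, nat_lit 2, nat_lit 9, nat_lit 19], [nat_lit 3, nat_lit 1, nat_lit 2], [nat_lit 3, nat_lit 2, nat_lit 1, nat_lit 9, nat_lit 19], [nat_lit 4, nat_lit 10, nat_lit 17, nat_lit 19, nat_lit 2], [nat_lit 1, nat_lit 3, nat_lit 2, nat_lit 1, nat_lit 4, nat_lit 10], [nat_lit 1, nat_lit 3, nat_lit 17, nat_lit 18, nat_lit 19], [nat_lit 2, nat_lit 1, nat_lit 3, nat_lit 1, nat_lit 9], [nat_lit 2, nat_lit 3, nat_lit 1, nat_lit 4, nat_lit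 10], [nat_lit 2, nat_lit 1, nat_lit 4, nat_lit 2, nat_lit 10, nat_lit 19], [nat_lit 1, nat_lit 4, nat_lit 17], [nat_lit 2, nat_lit 9, nat_lit 18, nat_lit 19, nat_lit 2], [nat_lit 9, nat_lit 17, nat_lit 19, nat_lit 2], [nat_lit 4, nat_lit 1, nat_lit 17, nat_lit 18], [nat_lit 1, nat_lit 2, nat_lit 3, nat_lit 2, nat_lit 9, nat_lit 18], [nat_lit 2, nat_lit 3, nat_lit 17, nat_lit 19], [nat_lit 2, nat_lit 3, nat_lit 1, nat_lit 4, nat_lit 10, nat_lit 17], [nat_lit 1, nat_lit 4, nat_lit 10, nat_lit 18, nat_lit 19, nat_lit 1], [nat_lit 4, nat_lit 1, nat_lit 18, nat_lit 19], [nat_lit 4, nat_lit 1, nat_lit 3, nat_lit 9], [nat_lit 1, nat_lit 3, nat_lit 2, nat_lit 1, nat_lit 19], [nat_lit 3, nat_lit 1, nat_lit 9, nat_lit 17], [nat_lit 4, nat_lit 1, nat_lit 17, nat_lit 18, nat_lit 19], [nat_lit 4, nat_lit 1, nat_lit 3, nat_lit 9, nat_lit 17], [nat_lit 2, nat_lit 4, nat_lit 10, nat_lit 18, nat_lit 19, nat_lit 2], [nat_lit 3, nat_lit 2, nat_lit 4, nat_lit 1, nat_lit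 10], [nat_lit 1, nat_lit 2, nat_lit 1, nat_lit 4, nat_lit 1, nat_lit 9], [nat_lit 1, nat_lit 19], [nat_lit 2, nat_lit 10, nat_lit 17, nat_lit 19], [nat_lit 1, nat_lit 4, nat_lit 2, nat_lit 10, nat_lit 18], [nat_lit 1, nat_lit 4, nat_lit 9, nat_lit 19, nat_lit 1], [nat_lit 1, nat_lit 2, nat_lit 4, nat_lit 1, nat_lit 3], [nat_lit 2, nat_lit 10, nat_lit 19, nat_lit 1], [nat_lit 1, nat_lit 4, nat_lit 1, nat_lit 2, nat_lit 10], [nat_lit 3, nat_lit 2, nat_lit 9, nat_lit 18, nat_lit 19], [nat_lit 2, nat_lit 3, nat_lit 1, nat_lit 2], [nat_lit 2, nat_lit 9, nat_lit 19, nat_lit 1, nat_lit 2], [nat_lit 1, nat_lit 4, nat_lit 1], [nat_lit 1, nat_lit 4, nat_lit 9, nat_lit 17, nat_lit 19, nat_lit 1], [nat_lit 3, nat_lit 1, nat_lit 4, nat_lit 2], [nat_lit 1, nat_lit 4, nat_lit 2, nat_lit 1, nat_lit 4], [nat_lit 3, nat_lit 1, nat_lit 2, nat_lit 1, nat_lit 9, nat_lit 19], [nat_lit 4, nat_lit 2, nat_lit 9, nat_lit 18, nat_lit 19], [nat_lit 4, nat_lit 1, nat_lit 2,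 nat_lit 1, nat_lit 3], [nat_lit 1, nat_lit 2, nat_lit 3, nat_lit 1, nat_lit 4], [nat_lit 1, nat_lit 4, nat_lit 9, nat_lit 19], [nat_lit 2, nat_lit 4, nat_lit 9, nat_lit 19, nat_lit 2], [nat_lit 2, nat_lit 1, nat_lit 4, nat_lit 2, nat_lit 3], [nat_lit 2, nat_lit 3, nat_lit 9, nat_lit 17, nat_lit 19], [nat_lit 1, nat_lit 2, nat_lit 3, nat_lit 2, nat_lit 18], [nat_lit 1, nat_lit 10, nat_lit 18], [nat_lit 2, nat_lit 4, nat_lit 1, nat_lit 10, nat_lit 17, nat_lit 19], [nat_lit 3, nat_lit 1, nat_lit 4, nat_lit 18], [nat_lit 4, nat_lit 1, nat_lit 9, nat_lit 19, nat_lit 1], [nat_lit 4, nat_lit 2, nat_lit 1, nat_lit 9], [nat_lit 17, nat_lit 19], [nat_lit 2, nat_lit 4, nat_lit 9, nat_lit 17, nat_lit 19, nat_lit 2], [nat_lit 1, nat_lit 3, nat_lit 2, nat_lit 4, nat_lit 18], [nat_lit 19, nat_lit 2, nat_lit 1], [nat_lit 4, nat_lit 9, nat_lit 18], [nat_lit 1, nat_lit 10, nat_lit 18, nat_lit 19, nat_lit 2], [nat_lit 1, nat_lit 3, nat_lit 1, nat_lit 2, nat_lit 3,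 nat_lit 10], [nat_lit 2, nat_lit 1, nat_lit 3, nat_lit 2, nat_lit 4], [nat_lit 2, nat_lit 4, nat_lit 9, nat_lit 19], [nat_lit 3, nat_lit 2, nat_lit 4, nat_lit 1, nat_lit 9], [nat_lit 2, nat_lit 4, nat_lit 18, nat_lit 19, nat_lit 2], [nat_lit 17, nat_lit 18, nat_lit 19, nat_lit 1], [nat_lit 4, nat_lit 2, nat_lit 9, nat_lit 18], [nat_lit 3, nat_lit 1, nat_lit 2, nat_lit 4, nat_lit 19], [nat_lit 3, nat_lit 2, nat_lit 1, nat_lit 3, nat_lit 9], [nat_lit 1, nat_lit 2, nat_lit 9, nat_lit 19, nat_lit 2], [nat_lit 1, nat_lit 2, nat_lit 4, nat_lit 2], [nat_lit 1, nat_lit 2, nat_lit 4, nat_lit 9, nat_lit 17], [nat_lit 1, nat_lit 2, nat_lit 17, nat_lit 19], [nat_lit 4, nat_lit 1, nat_lit 9], [nat_lit 18, nat_lit 19, nat_lit 2], [nat_lit 10, nat_lit 19], [nat_lit 4, nat_lit 1, nat_lit 2, nat_lit 10, nat_lit 18], [nat_lit 3, nat_lit 2, nat_lit 9, nat_lit 19], [nat_lit 1, nat_lit 4, nat_lit 1, nat_lit 2, nat_lit 4], [nat_lit 1, nat_lit 2, nat_lit 17, nat_lit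 19, nat_lit 1], [nat_lit 1, nat_lit 2, nat_lit 4, nat_lit 1, nat_lit 9, nat_lit 17], [nat_lit 1, nat_lit 2, nat_lit 19, nat_lit 2, nat_lit 1], [nat_lit 1, nat_lit 2, nat_lit 4, nat_lit 2, nat_lit 1, nat_lit 9], [nat_lit 2, nat_lit 3, nat_lit 2, nat_lit 1], [nat_lit 3, nat_lit 2, nat_lit 9, nat_lit 17, nat_lit 19], [nat_lit 1, nat_lit 2, nat_lit 4, nat_lit 1, nat_lit 10, nat_lit 19], [nat_lit 1, nat_lit 3, nat_lit 2, nat_lit 4, nat_lit 10], [nat_lit 1, nat_lit 2, nat_lit 3, nat_lit 17, nat_lit 19], [nat_lit 1, nat_lit 2, nat_lit 3, nat_lit 9, nat_lit 17], [nat_lit 1, nat_lit 2, nat_lit 4, nat_lit 9, nat_lit 17, nat_lit 19], [nat_lit 1, nat_lit 2, nat_lit 17], [nat_lit 1, nat_lit 9, nat_lit 17], [nat_lit 2, nat_lit 4, nat_lit 1, nat_lit 18, nat_lit 19], [nat_lit 4, nat_lit 2, nat_lit 10, nat_lit 19, nat_lit 2], [nat_lit 3, nat_lit 2, nat_lit 4, nat_lit 10, nat_lit 17], [nat_lit 1, nat_lit 3, nat_lit 1, nat_lit 9, nat_lit 18], [nat_lit 19, nat_lit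 2, nat_lit 4], [nat_lit 1, nat_lit 4, nat_lit 2, nat_lit 3, nat_lit 10, nat_lit 17], [nat_lit 2, nat_lit 4, nat_lit 10, nat_lit 18, nat_lit 19], [nat_lit 2, nat_lit 9, nat_lit 17, nat_lit 19, nat_lit 1, nat_lit 2], [nat_lit 1, nat_lit 4, nat_lit 1, nat_lit 17], [nat_lit 1, nat_lit 2, nat_lit 19, nat_lit 1], [nat_lit 1, nat_lit 2, nat_lit 4, nat_lit 1, nat_lit 9], [nat_lit 1, nat_lit 4, nat_lit 2, nat_lit 18, nat_lit 19], [nat_lit 2, nat_lit 9, nat_lit 17], [nat_lit 1, nat_lit 2, nat_lit 3, nat_lit 10, nat_lit 17, nat_lit 19], [nat_lit 1, nat_lit 2, nat_lit 3, nat_lit 10, nat_lit 17], [nat_lit 3, nat_lit 10, nat_lit 17, nat_lit 18], [nat_lit 10, nat_lit 17, nat_lit 19, nat_lit 2, nat_lit 1, nat_lit 4], [nat_lit 2, nat_lit 3, nat_lit 1, nat_lit 4], [nat_lit 2, nat_lit 1, nat_lit 4, nat_lit 2, nat_lit 9, nat_lit 19], [nat_lit 17, nat_lit 19, nat_lit 2, nat_lit 1], [nat_lit 4, nat_lit 9, nat_lit 17, nat_lit 18], [nat_lit 9, nat_lit 17, nat_lit 19],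 [nat_lit 4, nat_lit 2, nat_lit 1], [nat_lit 4, nat_lit 2, nat_lit 1, nat_lit 3, nat_lit 10], [nat_lit 4, nat_lit 10, nat_lit 17, nat_lit 19], [nat_lit 3, nat_lit 10, nat_lit 18], [nat_lit 10, nat_lit 19, nat_lit 2, nat_lit 1, nat_lit 4], [nat_lit 2, nat_lit 4, nat_lit 1, nat_lit 2, nat_lit 9], [nat_lit 1, nat_lit 17, nat_lit 18, nat_lit 19, nat_lit 2], [nat_lit 1, nat_lit 2, nat_lit 4, nat_lit 2, nat_lit 18], [nat_lit 1, nat_lit 2, nat_lit 9, nat_lit 18, nat_lit 19, nat_lit 2], [nat_lit 2, nat_lit 1, nat_lit 3, nat_lit 2, nat_lit 10, nat_lit 19], [nat_lit 2, nat_lit 3, nat_lit 10], [nat_lit 2, nat_lit 1, nat_lit 4, nat_lit 9, nat_lit 19, nat_lit 1], [nat_lit 2], [nat_lit 2, nat_lit 4, nat_lit 9, nat_lit 17, nat_lit 19], [nat_lit 4, nat_lit 2, nat_lit 3, nat_lit 1], [nat_lit 2, nat_lit 1, nat_lit 10], [nat_lit 2, nat_lit 1, nat_lit 4, nat_lit 10, nat_lit 19], [nat_lit 1, nat_lit 10, nat_lit 17, nat_lit 18, nat_lit 19], [nat_lit 2, nat_lit 4, nat_lit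 1, nat_lit 10], [nat_lit 1, nat_lit 2, nat_lit 4, nat_lit 19, nat_lit 2], [nat_lit 1, nat_lit 9], [nat_lit 9, nat_lit 17], [nat_lit 4, nat_lit 2, nat_lit 1, nat_lit 19], [nat_lit 2, nat_lit 3, nat_lit 1, nat_lit 18], [nat_lit 3, nat_lit 2, nat_lit 9, nat_lit 19, nat_lit 2], [nat_lit 1, nat_lit 2, nat_lit 10], [nat_lit 1, nat_lit 2, nat_lit 4, nat_lit 10, nat_lit 19], [nat_lit 1, nat_lit 2, nat_lit 3, nat_lit 19], [nat_lit 1, nat_lit 2, nat_lit 3, nat_lit 9], [nat_lit 1, nat_lit 2, nat_lit 10, nat_lit 17], [nat_lit 1, nat_lit 2, nat_lit 4, nat_lit 10, nat_lit 17, nat_lit 19], [nat_lit 4, nat_lit 1, nat_lit 2, nat_lit 18, nat_lit 19], [nat_lit 9], [nat_lit 1, nat_lit 4, nat_lit 1, nat_lit 2, nat_lit 4, nat_lit 9], [nat_lit 3, nat_lit 2, nat_lit 19], [nat_lit 1, nat_lit 9, nat_lit 17, nat_lit 18, nat_lit 19, nat_lit 2], [nat_lit 2, nat_lit 4, nat_lit 1, nat_lit 2], [nat_lit 2, nat_lit 4], [nat_lit 1, nat_lit 9, nat_lit 17, nat_lit 18, nat_lit 19,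 nat_lit 1], [nat_lit 1, nat_lit 19, nat_lit 2, nat_lit 1], [nat_lit 2, nat_lit 4, nat_lit 2, nat_lit 9], [nat_lit 1, nat_lit 4, nat_lit 2, nat_lit 17], [nat_lit 2, nat_lit 9, nat_lit 18, nat_lit 19], [nat_lit 1, nat_lit 2, nat_lit 3, nat_lit 2, nat_lit 1], [nat_lit 3, nat_lit 9, nat_lit 17, nat_lit 18, nat_lit 19], [nat_lit 4, nat_lit 1, nat_lit 10, nat_lit 17, nat_lit 18], [nat_lit 10, nat_lit 17, nat_lit 19, nat_lit 2], [nat_lit 1, nat_lit 3, nat_lit 17], [nat_lit 2, nat_lit 9, nat_lit 18, nat_lit 19, nat_lit 2, nat_lit 4], [nat_lit 1, nat_lit 3, nat_lit 1, nat_lit 2, nat_lit 10, nat_lit 18], [nat_lit 3, nat_lit 1, nat_lit 10, nat_lit 19], [nat_lit 1, nat_lit 3], [nat_lit 1, nat_lit 2, nat_lit 3, nat_lit 1, nat_lit 9, nat_lit 19], [nat_lit 4, nat_lit 1, nat_lit 2, nat_lit 4], [nat_lit 3, nat_lit 9, nat_lit 18, nat_lit 19], [nat_lit 1, nat_lit 4, nat_lit 2], [nat_lit 1, nat_lit 2, nat_lit 1, nat_lit 9, nat_lit 19], [nat_lit 1, nat_lit 3, nat_lit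 2, nat_lit 1, nat_lit 10], [nat_lit 3, nat_lit 1, nat_lit 10, nat_lit 17, nat_lit 19], [nat_lit 1, nat_lit 9, nat_lit 18, nat_lit 19, nat_lit 1], [nat_lit 2, nat_lit 4, nat_lit 17], [nat_lit 2, nat_lit 4, nat_lit 9], [nat_lit 1, nat_lit 17, nat_lit 18, nat_lit 19, nat_lit 1], [nat_lit 2, nat_lit 4, nat_lit 9, nat_lit 18], [nat_lit 1, nat_lit 17, nat_lit 19, nat_lit 1], [nat_lit 4, nat_lit 2, nat_lit 3, nat_lit 10, nat_lit 17], [nat_lit 4, nat_lit 2, nat_lit 10, nat_lit 19], [nat_lit 1, nat_lit 10, nat_lit 18, nat_lit 19, nat_lit 1], [nat_lit 2, nat_lit 4, nat_lit 10, nat_lit 17], [nat_lit 2, nat_lit 4, nat_lit 1, nat_lit 9, nat_lit 18], [nat_lit 1, nat_lit 17, nat_lit 19], [nat_lit 2, nat_lit 4, nat_lit 9, nat_lit 17], [nat_lit 1, nat_lit 18, nat_lit 19, nat_lit 1], [nat_lit 4, nat_lit 19, nat_lit 2], [nat_lit 2, nat_lit 4, nat_lit 2, nat_lit 1, nat_lit 3, nat_lit 9], [nat_lit 3, nat_lit 1, nat_lit 9], [nat_lit 2, nat_lit 19, nat_lit 1, nat_lit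 2, nat_lit 4], [nat_lit 1, nat_lit 3, nat_lit 18, nat_lit 19], [nat_lit 1, nat_lit 2, nat_lit 3, nat_lit 1, nat_lit 9, nat_lit 18], [nat_lit 1, nat_lit 2, nat_lit 1, nat_lit 4, nat_lit 9], [nat_lit 1, nat_lit 19, nat_lit 1], [nat_lit 1, nat_lit 10, nat_lit 17, nat_lit 18, nat_lit 19, nat_lit 1], [nat_lit 2, nat_lit 4, nat_lit 10], [nat_lit 2, nat_lit 3, nat_lit 1, nat_lit 10, nat_lit 17, nat_lit 19], [nat_lit 1, nat_lit 3, nat_lit 2, nat_lit 10, nat_lit 18], [nat_lit 1, nat_lit 2, nat_lit 3, nat_lit 1, nat_lit 17], [nat_lit 1, nat_lit 3, nat_lit 9, nat_lit 17, nat_lit 19], [nat_lit 1, nat_lit 2, nat_lit 3, nat_lit 10, nat_lit 18], [nat_lit 1, nat_lit 2, nat_lit 3, nat_lit 10, nat_lit 18, nat_lit 19], [nat_lit 1, nat_lit 4, nat_lit 1, nat_lit 2, nat_lit 9, nat_lit 19], [nat_lit 3, nat_lit 2, nat_lit 4], [nat_lit 1, nat_lit 10, nat_lit 17, nat_lit 19, nat_lit 2], [nat_lit 1, nat_lit 3, nat_lit 2, nat_lit 1, nat_lit 3, nat_lit 10], [nat_lit 4, nat_lit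 1, nat_lit 10, nat_lit 18], [nat_lit 10, nat_lit 19, nat_lit 2], [nat_lit 2, nat_lit 10, nat_lit 17, nat_lit 19, nat_lit 2, nat_lit 1], [nat_lit 1, nat_lit 4, nat_lit 1, nat_lit 10, nat_lit 18], [nat_lit 2, nat_lit 4, nat_lit 2, nat_lit 1, nat_lit 10], [nat_lit 1, nat_lit 10, nat_lit 19, nat_lit 2], [nat_lit 1, nat_lit 2, nat_lit 4, nat_lit 1, nat_lit 2, nat_lit 9], [nat_lit 1, nat_lit 2, nat_lit 19, nat_lit 1, nat_lit 2], [nat_lit 1, nat_lit 18], [nat_lit 2, nat_lit 4, nat_lit 1, nat_lit 9, nat_lit 17, nat_lit 19], [nat_lit 1, nat_lit 3, nat_lit 2, nat_lit 1, nat_lit 9, nat_lit 19], [nat_lit 3, nat_lit 1, nat_lit 17], [nat_lit 3, nat_lit 2, nat_lit 9], [nat_lit 1, nat_lit 19, nat_lit 2, nat_lit 1, nat_lit 4], [nat_lit 1, nat_lit 4, nat_lit 10, nat_lit 19], [nat_lit 1, nat_lit 2, nat_lit 3, nat_lit 1, nat_lit 4, nat_lit 10], [nat_lit 3, nat_lit 1, nat_lit 2, nat_lit 3, nat_lit 9], [nat_lit 3, nat_lit 2, nat_lit 1, nat_lit 4, nat_lit 19], [nat_lit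 3, nat_lit 2, nat_lit 9, nat_lit 17], [nat_lit 2, nat_lit 3, nat_lit 2, nat_lit 1, nat_lit 19], [nat_lit 2, nat_lit 4, nat_lit 1, nat_lit 3, nat_lit 10, nat_lit 18], [nat_lit 1, nat_lit 4, nat_lit 10, nat_lit 17, nat_lit 19], [nat_lit 4, nat_lit 2, nat_lit 9], [nat_lit 17, nat_lit 19, nat_lit 1], [nat_lit 1, nat_lit 2, nat_lit 10, nat_lit 17, nat_lit 19, nat_lit 1], [nat_lit 1, nat_lit 2, nat_lit 4, nat_lit 1, nat_lit 10, nat_lit 17], [nat_lit 3, nat_lit 1, nat_lit 2, nat_lit 4, nat_lit 9, nat_lit 18], [nat_lit 4, nat_lit 17, nat_lit 19, nat_lit 2, nat_lit 1], [nat_lit 4, nat_lit 2, nat_lit 9, nat_lit 17], [nat_lit 19, nat_lit 1], [nat_lit 1, nat_lit 3, nat_lit 2, nat_lit 1, nat_lit 10, nat_lit 19], [nat_lit 3, nat_lit 1, nat_lit 10, nat_lit 17], [nat_lit 3, nat_lit 1, nat_lit 2, nat_lit 10, nat_lit 17, nat_lit 19], [nat_lit 3, nat_lit 1, nat_lit 2, nat_lit 10, nat_lit 18], [nat_lit 1, nat_lit 19, nat_lit 1, nat_lit 2], [nat_lit 1, nat_lit 2, nat_lit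 1, nat_lit 4, nat_lit 2, nat_lit 9], [nat_lit 2, nat_lit 1, nat_lit 3, nat_lit 10], [nat_lit 2, nat_lit 1, nat_lit 3, nat_lit 10, nat_lit 19], [nat_lit 2, nat_lit 4, nat_lit 10, nat_lit 19], [nat_lit 2, nat_lit 1, nat_lit 3, nat_lit 2, nat_lit 4, nat_lit 10], [nat_lit 3, nat_lit 1, nat_lit 2, nat_lit 10, nat_lit 19], [nat_lit 3, nat_lit 2, nat_lit 1, nat_lit 10], [nat_lit 1, nat_lit 17, nat_lit 19, nat_lit 1, nat_lit 2], [nat_lit 2, nat_lit 4, nat_lit 2, nat_lit 9, nat_lit 18], [nat_lit 9, nat_lit 18, nat_lit 19, nat_lit 1], [nat_lit 4, nat_lit 1, nat_lit 2, nat_lit 1], [nat_lit 17, nat_lit 18], [nat_lit 1, nat_lit 4, nat_lit 2, nat_lit 9, nat_lit 19, nat_lit 2], [nat_lit 18], [nat_lit 4, nat_lit 1, nat_lit 2, nat_lit 9, nat_lit 19], [nat_lit 3, nat_lit 2, nat_lit 18, nat_lit 19], [nat_lit 2, nat_lit 3, nat_lit 1, nat_lit 2, nat_lit 9], [nat_lit 3, nat_lit 2, nat_lit 1, nat_lit 4, nat_lit 10], [nat_lit 4, nat_lit 10, nat_lit 19, nat_lit 2, nat_lit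 1], [nat_lit 3, nat_lit 1, nat_lit 2, nat_lit 4, nat_lit 10, nat_lit 18], [nat_lit 4, nat_lit 10, nat_lit 17, nat_lit 19, nat_lit 2, nat_lit 1], [nat_lit 1, nat_lit 4, nat_lit 1, nat_lit 2, nat_lit 10, nat_lit 19], [nat_lit 3, nat_lit 2, nat_lit 4, nat_lit 10], [nat_lit 2, nat_lit 9, nat_lit 17, nat_lit 19, nat_lit 1], [nat_lit 1, nat_lit 4, nat_lit 1, nat_lit 2, nat_lit 17], [nat_lit 2, nat_lit 1, nat_lit 3, nat_lit 2], [nat_lit 2, nat_lit 3, nat_lit 9, nat_lit 19], [nat_lit 1, nat_lit 2, nat_lit 4, nat_lit 1], [nat_lit 1, nat_lit 2, nat_lit 9, nat_lit 19, nat_lit 1], [nat_lit 2, nat_lit 10, nat_lit 19, nat_lit 1, nat_lit 2, nat_lit 4], [nat_lit 3, nat_lit 1, nat_lit 10], [nat_lit 1, nat_lit 4, nat_lit 10, nat_lit 17], [nat_lit 2, nat_lit 10, nat_lit 18, nat_lit 19, nat_lit 2], [nat_lit 1, nat_lit 5, nat_lit 1, nat_lit 18, nat_lit 5], [nat_lit 4, nat_lit 1, nat_lit 9, nat_lit 17, nat_lit 19], [nat_lit 4, nat_lit 1, nat_lit 3], [nat_lit 4, nat_lit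 1, nat_lit 9, nat_lit 18, nat_lit 19], [nat_lit 2, nat_lit 1, nat_lit 10, nat_lit 19, nat_lit 2], [nat_lit 2, nat_lit 1, nat_lit 4, nat_lit 2, nat_lit 10], [nat_lit 1, nat_lit 3, nat_lit 9, nat_lit 18, nat_lit 19], [nat_lit 1, nat_lit 2, nat_lit 3, nat_lit 1, nat_lit 18], [nat_lit 9, nat_lit 19, nat_lit 2, nat_lit 1], [nat_lit 4, nat_lit 18], [nat_lit 1, nat_lit 3, nat_lit 10, nat_lit 18], [nat_lit 10, nat_lit 19, nat_lit 2, nat_lit 4, nat_lit 1], [nat_lit 1, nat_lit 4, nat_lit 1, nat_lit 2, nat_lit 18], [nat_lit 2, nat_lit 9, nat_lit 18, nat_lit 19, nat_lit 1], [nat_lit 1, nat_lit 2, nat_lit 3, nat_lit 10, nat_lit 19], [nat_lit 1, nat_lit 2, nat_lit 3, nat_lit 10], [nat_lit 2, nat_lit 3, nat_lit 1, nat_lit 4, nat_lit 17], [nat_lit 1, nat_lit 4, nat_lit 9, nat_lit 18, nat_lit 19, nat_lit 1], [nat_lit 1, nat_lit 2, nat_lit 10, nat_lit 19, nat_lit 2, nat_lit 1], [nat_lit 1, nat_lit 2, nat_lit 4, nat_lit 2, nat_lit 1, nat_lit 10], [nat_lit 19], [nat_lit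 4, nat_lit 1, nat_lit 2, nat_lit 9, nat_lit 18], [nat_lit 1, nat_lit 3, nat_lit 10, nat_lit 17, nat_lit 18], [nat_lit 2, nat_lit 10, nat_lit 19, nat_lit 2, nat_lit 4], [nat_lit 3, nat_lit 1, nat_lit 2, nat_lit 4, nat_lit 10, nat_lit 19], [nat_lit 3, nat_lit 2, nat_lit 1, nat_lit 3, nat_lit 10], [nat_lit 3, nat_lit 2, nat_lit 1, nat_lit 9], [nat_lit 3, nat_lit 1, nat_lit 2, nat_lit 19], [nat_lit 1, nat_lit 2, nat_lit 1, nat_lit 10], [nat_lit 1, nat_lit 4, nat_lit 2, nat_lit 10, nat_lit 19], [nat_lit 1, nat_lit 10, nat_lit 19, nat_lit 1, nat_lit 4], [nat_lit 1, nat_lit 2, nat_lit 1, nat_lit 3, nat_lit 10], [nat_lit 1, nat_lit 10, nat_lit 17, nat_lit 19, nat_lit 1, nat_lit 4], [nat_lit 2, nat_lit 3, nat_lit 10, nat_lit 18], [nat_lit 4, nat_lit 1, nat_lit 3, nat_lit 17], [nat_lit 4, nat_lit 1, nat_lit 9, nat_lit 17, nat_lit 18, nat_lit 19], [nat_lit 2, nat_lit 3, nat_lit 1, nat_lit 4, nat_lit 9], [nat_lit 2, nat_lit 1, nat_lit 4, nat_lit 2, nat_lit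 19], [nat_lit 4, nat_lit 10, nat_lit 18, nat_lit 19, nat_lit 2], [nat_lit 1, nat_lit 3, nat_lit 1, nat_lit 2, nat_lit 4, nat_lit 10], [nat_lit 1, nat_lit 2, nat_lit 4, nat_lit 1, nat_lit 3, nat_lit 10], [nat_lit 1, nat_lit 4, nat_lit 10, nat_lit 19, nat_lit 1], [nat_lit 4, nat_lit 1, nat_lit 10, nat_lit 19], [nat_lit 4, nat_lit 1, nat_lit 3, nat_lit 10, nat_lit 18], [nat_lit 4, nat_lit 10], [nat_lit 10, nat_lit 17, nat_lit 19, nat_lit 1, nat_lit 2], [nat_lit 1, nat_lit 3, nat_lit 2, nat_lit 10, nat_lit 19], [nat_lit 1, nat_lit 2, nat_lit 1, nat_lit 3, nat_lit 1, nat_lit 10], [nat_lit 1, nat_lit 2, nat_lit 18], [nat_lit 1, nat_lit 2, nat_lit 4, nat_lit 9, nat_lit 18, nat_lit 19], [nat_lit 2, nat_lit 4, nat_lit 2], [nat_lit 1, nat_lit 9, nat_lit 19, nat_lit 2, nat_lit 1], [nat_lit 3, nat_lit 1, nat_lit 18, nat_lit 19], [nat_lit 1, nat_lit 3, nat_lit 1, nat_lit 2, nat_lit 9], [nat_lit 1, nat_lit 2, nat_lit 19, nat_lit 2, nat_lit 4], [nat_lit 1, nat_lit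 3, nat_lit 2, nat_lit 9], [nat_lit 2, nat_lit 4, nat_lit 18, nat_lit 19], [nat_lit 1, nat_lit 4, nat_lit 2, nat_lit 3, nat_lit 9, nat_lit 17], [nat_lit 2, nat_lit 19, nat_lit 2], [nat_lit 1, nat_lit 4, nat_lit 9, nat_lit 17, nat_lit 18], [nat_lit 2, nat_lit 17, nat_lit 19, nat_lit 2], [nat_lit 1, nat_lit 4, nat_lit 9, nat_lit 18], [nat_lit 1, nat_lit 2, nat_lit 1, nat_lit 3, nat_lit 2, nat_lit 10], [nat_lit 10, nat_lit 18, nat_lit 19, nat_lit 1, nat_lit 4], [nat_lit 2, nat_lit 3, nat_lit 2, nat_lit 10, nat_lit 18], [nat_lit 10, nat_lit 17, nat_lit 18, nat_lit 19, nat_lit 1, nat_lit 4]]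

theorem enumK {p : Grp} (h : p ∈ Kh) : ∃ w ∈ LK, evL ev w = p :=
  hφ.enum (bs := bs) ubK (fun w hw => leK (mem_of_letChk (by decide +kernel) w hw))
    (by decide +kernel) h

theorem L0_eq : LK.filter (fun w => !movB img 5040 38 bs (w ++ [18] ++ invW inv w ++ [18])) = L0 := by
  decide +kernel

theorem enum0 {p : Grp} (h : Commute p (ev 18)) : ∃ w ∈ L0, evL ev w = p := by
  obtain ⟨w, hw, rfl⟩ := enumK (p := p) ⟨1, one_mem _, by rw [mul_one, h.eq]⟩
  refine ⟨w, ?_, rfl⟩
  rw [← L0_eq, List.mem_filter, Bool.not_eq_true', ← Bool.not_eq_true]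
  refine ⟨hw, fun c => hφ.mov c ?_⟩
  rw [evL_append, evL_append, evL_append, evL_invW hev, evL_singleton, h.eq, mul_inv_cancel_right,
    ← evL_singleton ev, ← evL_append]
  exact ora _ (by decide +kernel)

def KS : List (List ℕ) := [[], [nat_lit 7, nat_lit 8, nat_lit 4, nat_lit 8, nat_lit 19, nat_lit 2], [], [], [], [nat_lit 8, nat_lit 3, nat_lit 8, nat_lit 4, nat_lit 8], [], [nat_lit 5, nat_lit 8, nat_lit 3, nat_lit 8, nat_lit 7, nat_lit 1, nat_lit 4], [nat_lit 5, nat_lit 7, nat_lit 8, nat_lit 4, nat_lit 8, nat_lit 19, nat_lit 2], [], [], [], [nat_lit 5, nat_lit 8, nat_lit 3, nat_lit 8, nat_lit 14], [], [nat_lit 8, nat_lit 3, nat_lit 8, nat_lit 7, nat_lit 1], [], [], [nat_lit 5, nat_lit 8, nat_lit 5, nat_lit 15, nat_lit 4, nat_lit 8, nat_lit 6], [], [nat_lit 5, nat_lit 12], [], [], [], [], [], [], [], [nat_lit 8, nat_lit 13, nat_lit 4, nat_lit 8, nat_lit 19, nat_lit 14], [], [], [], [], [], [], [nat_lit 7, nat_lit 8, nat_lit 4, nat_lit 8], [],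 [], [], [], [], [], [], [nat_lit 8, nat_lit 3, nat_lit 8, nat_lit 2, nat_lit 11], [], [], [], [], [], [], [], [], [], [], [], [], [], [], [], [], [], [], [], [], [], [], [], [], [], [], [], [], [], [], [], [], [], [], [], [], [], [], [], [], [], [], [], [], [], [], [], [], [nat_lit 5, nat_lit 8, nat_lit 13, nat_lit 4, nat_lit 8, nat_lit 10], [nat_lit 5, nat_lit 8, nat_lit 3, nat_lit 8, nat_lit 7, nat_lit 1], [], [], [], [], [], [], [], [], [], [nat_lit 5, nat_lit 7, nat_lit 8, nat_lit 4, nat_lit 8], [], [], [], [], [], [], [], [], [nat_lit 7, nat_lit 3], [nat_lit 12], [], [], [nat_lit 8, nat_lit 1, nat_lit 3, nat_lit 7, nat_lit 8, nat_lit 19], [nat_lit 8, nat_lit 13, nat_lit 4, nat_lit 8, nat_lit 10], [], [], [], [], [], [], [], [nat_lit 7, nat_lit 1, nat_lit 19], [], [nat_lit 6, nat_lit 19], [], [], [], [], [nat_lit 8, nat_lit 3, nat_lit 8, nat_lit 7, nat_lit 1, nat_lit 4], [], [], [], [], [], [], [], [], [], [], [], [], [], [], [], [], [], [],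 [], [], [], [nat_lit 8, nat_lit 7, nat_lit 4, nat_lit 1, nat_lit 8, nat_lit 3], [], [], [], [], [], [], [], [], [], [], [], [], [], [], [nat_lit 5, nat_lit 8, nat_lit 3, nat_lit 8, nat_lit 7, nat_lit 4, nat_lit 10], [], [], [], [nat_lit 12, nat_lit 4], [], [], [nat_lit 8, nat_lit 3, nat_lit 8, nat_lit 14], [], [], [], [], [], [], [], [], [], [], [], [], [], [], [], [], [], [], [], [], [], [], [], [], [], [], [], [nat_lit 8, nat_lit 5, nat_lit 15, nat_lit 4, nat_lit 8, nat_lit 6], [], [], [], [], [], [], [], [nat_lit 8, nat_lit 3, nat_lit 8, nat_lit 7, nat_lit 4, nat_lit 10], [], [], [], [], [nat_lit 5, nat_lit 6, nat_lit 19], [], [nat_lit 5, nat_lit 12, nat_lit 4], [], [], [], [], [], [], [], [], [], [], [], [], [], [], [nat_lit 8, nat_lit 3, nat_lit 8, nat_lit 7], [], [], [], [], [nat_lit 8, nat_lit 3, nat_lit 8, nat_lit 7, nat_lit 1, nat_lit 3], [], [], [], [nat_lit 12, nat_lit 19], [], [], [], [], [], [], [], [], [], [], [], [], [], [], [],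 [], [], [], [], [], [], [], [], [], [], [], [], [], [], [], [], [], [nat_lit 5, nat_lit 8, nat_lit 3, nat_lit 8, nat_lit 7, nat_lit 9], [], [], [], [], [], [], [], [], [], [], [], [], [], [], [nat_lit 7, nat_lit 8, nat_lit 4, nat_lit 8, nat_lit 1, nat_lit 4], [], [], [], [], [], [], [], [], [], [], [], [], [], [], [], [], [], [], [], [], [], [], [], [], [], [], [], [], [], [nat_lit 5, nat_lit 8, nat_lit 13, nat_lit 4, nat_lit 8, nat_lit 19], [], [], [], [], [], [], [nat_lit 6, nat_lit 8, nat_lit 3, nat_lit 8, nat_lit 19, nat_lit 8], [], [], [], [], [], [], [nat_lit 8, nat_lit 4, nat_lit 19, nat_lit 2, nat_lit 8, nat_lit 19], [], [], [], [], [], [], [], [nat_lit 8, nat_lit 3, nat_lit 8, nat_lit 4, nat_lit 16], [], [], [], [], [], [], [], [], [], [], [], [], [], [], [], [nat_lit 5, nat_lit 8, nat_lit 3, nat_lit 8, nat_lit 4, nat_lit 16], [], [], [], [], [], [], [], [], [], [], [], [], [], [], [], [], [], [], [], [], [], [], [], [], [], [], [], [],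 [], [], [], [], [], [nat_lit 8, nat_lit 4, nat_lit 19, nat_lit 2, nat_lit 8, nat_lit 2], [], [], [], [], [], [], [], [], [], [], [], [], [], [], [], [], [], [], [], [], [], [], [nat_lit 8, nat_lit 3, nat_lit 8, nat_lit 11, nat_lit 14], [], [], [nat_lit 8, nat_lit 3, nat_lit 8, nat_lit 2, nat_lit 7], [], [], [], [], [], [], [], [], [], [], [nat_lit 5, nat_lit 8, nat_lit 3, nat_lit 8, nat_lit 7], [], [], [], [], [nat_lit 5, nat_lit 8, nat_lit 3, nat_lit 8, nat_lit 7, nat_lit 5], [], [nat_lit 8, nat_lit 3, nat_lit 2, nat_lit 7, nat_lit 8, nat_lit 12], [], [], [nat_lit 5, nat_lit 8, nat_lit 3, nat_lit 8, nat_lit 7, nat_lit 19], [], [], [], [], [nat_lit 8, nat_lit 2, nat_lit 9, nat_lit 15, nat_lit 4, nat_lit 8], [], [], [nat_lit 8, nat_lit 3, nat_lit 8, nat_lit 7, nat_lit 19], [], [], [], [], [], [], [], [], [], [], [nat_lit 8, nat_lit 3, nat_lit 8, nat_lit 7, nat_lit 5], [], [], [], [], [], [], [], [], [], [], [], [], [], [], [], [], [], [], [nat_lit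 5, nat_lit 7, nat_lit 8, nat_lit 4, nat_lit 8, nat_lit 4], [], [], [], [], [], [], [], [], [nat_lit 5, nat_lit 8, nat_lit 3, nat_lit 8, nat_lit 2, nat_lit 7], [], [], [], [nat_lit 7, nat_lit 8, nat_lit 4, nat_lit 8, nat_lit 4, nat_lit 10], [], [], [], [], [nat_lit 5, nat_lit 8, nat_lit 3, nat_lit 8, nat_lit 11, nat_lit 14], [], [], [], [], [], [], [], [], [], [], [], [], [], [], [], [nat_lit 7, nat_lit 8, nat_lit 4, nat_lit 8, nat_lit 5, nat_lit 9], [], [], [], [nat_lit 8, nat_lit 3, nat_lit 2, nat_lit 8, nat_lit 15, nat_lit 3], [], [], [], [], [], [], [], [], [nat_lit 7, nat_lit 8, nat_lit 4, nat_lit 16, nat_lit 7, nat_lit 8], [], [], [], [], [], [nat_lit 7, nat_lit 8, nat_lit 4, nat_lit 8, nat_lit 19, nat_lit 1], [], [], [], [], [nat_lit 8, nat_lit 2, nat_lit 15, nat_lit 4, nat_lit 8], [], [nat_lit 8, nat_lit 3, nat_lit 10, nat_lit 16, nat_lit 2, nat_lit 8], [], [], [], [], [], [nat_lit 8, nat_lit 2, nat_lit 4, nat_lit 19, nat_lit 8, nat_lit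 1], [], [], [], [], [], [], [], [], [], [], [], [], [], [], [], [], [], [], [], [], [], [], [nat_lit 7, nat_lit 8, nat_lit 4, nat_lit 8, nat_lit 3, nat_lit 9], [], [], [], [], [], [], [], [], [], [], [], [], [], [], [], [], [], [], [], [], [], [], [], [], [], [], [], [], [], [], [], [], [nat_lit 8, nat_lit 3, nat_lit 8, nat_lit 9, nat_lit 14], [], [], [], [], [], [nat_lit 7, nat_lit 8, nat_lit 7, nat_lit 15, nat_lit 4, nat_lit 8], [], [], [], [], [], [], [], [], [], [], [], [], [], [], [], [], [], [], [], [], [], [], [], [nat_lit 5, nat_lit 7, nat_lit 12], [nat_lit 13], [], [], [], [], [], [], [], [], [], [], [], [], [], [], [], [], [], [], [], [], [], [], [], [], [], [], [], [], [], [], [], [], [], [], [], [], [], [], [], [], [nat_lit 7, nat_lit 12], [], [], [], [], [], [], [], [], [], [], [], [], [], [], [], [], [], [], [], [], [], [], [], [], [], [], [], [], [], [], [], [], [], [], [], [], [], [], [], [], [], [], [], [], [], [], [], [], [],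 [nat_lit 11, nat_lit 14], [], [nat_lit 5, nat_lit 14], [], [], [], [], [], [], [], [], [], [], [], [], [], [], [], [], [], [], [], [], [], [nat_lit 7, nat_lit 1], [], [], [], [], [], [], [], [], [], [], [], [], [], [], [], [], [], [], [], [nat_lit 5, nat_lit 8, nat_lit 2, nat_lit 4, nat_lit 19, nat_lit 8], [], [], [], [], [], [], [], [], [], [], [], [], [], [], [], [nat_lit 8, nat_lit 4, nat_lit 1, nat_lit 5, nat_lit 8, nat_lit 9], [], [], [nat_lit 7, nat_lit 8, nat_lit 4, nat_lit 8, nat_lit 12, nat_lit 4], [], [], [], [], [nat_lit 14], [], [], [], [], [], [], [], [], [], [], [], [], [], [], [], [], [], [], [], [], [], [], [], [nat_lit 7, nat_lit 1, nat_lit 4], [], [], [], [], [], [], [], [], [], [], [], [], [], [], [], [], [], [], [], [], [], [], [], [], [], [], [nat_lit 8, nat_lit 3, nat_lit 2, nat_lit 8, nat_lit 15, nat_lit 1], [], [], [], [], [], [], [], [nat_lit 5, nat_lit 13], [], [], [nat_lit 7, nat_lit 8, nat_lit 4, nat_lit 8, nat_lit 3],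 [], [], [], [], [], [], [], [], [], [], [], [], [], [], [], [], [], [], [], [], [], [], [], [], [], [], [], [], [], [], [], [], [], [], [], [], [], [], [nat_lit 7, nat_lit 8, nat_lit 4, nat_lit 8, nat_lit 12, nat_lit 3], [], [], [], [], [], [], [], [], [], [], [], [], [], [], [], [], [nat_lit 7, nat_lit 8, nat_lit 4, nat_lit 8, nat_lit 2, nat_lit 10], [], [nat_lit 7, nat_lit 8, nat_lit 4, nat_lit 8, nat_lit 1, nat_lit 10], [], [], [], [], [], [nat_lit 8, nat_lit 7, nat_lit 4, nat_lit 6, nat_lit 8, nat_lit 1], [], [], [], [], [], [], [], [nat_lit 8, nat_lit 7, nat_lit 6, nat_lit 4, nat_lit 8], [], [], [], [], [], [], [], [nat_lit 5, nat_lit 7, nat_lit 8, nat_lit 4, nat_lit 8, nat_lit 2, nat_lit 3], [], [], [], [], [nat_lit 7, nat_lit 8, nat_lit 4, nat_lit 8, nat_lit 2, nat_lit 19], [], [], [nat_lit 6, nat_lit 4], [], [], [], [], [], [], [], [], [], [nat_lit 5, nat_lit 7, nat_lit 8, nat_lit 4, nat_lit 8, nat_lit 1, nat_lit 10], [], [], [], [], [],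 [], [], [], [], [], [], [], [], [], [], [], [], [], [], [], [], [], [], [], [], [], [], [], [], [], [], [], [], [], [nat_lit 5, nat_lit 7, nat_lit 8, nat_lit 4, nat_lit 8, nat_lit 2, nat_lit 19], [], [nat_lit 7, nat_lit 8, nat_lit 4, nat_lit 8, nat_lit 1, nat_lit 5], [], [], [], [], [], [], [], [], [], [], [], [], [], [], [], [], [], [], [], [nat_lit 5, nat_lit 7, nat_lit 8, nat_lit 4, nat_lit 8, nat_lit 12, nat_lit 19], [], [], [], [], [], [], [], [], [], [], [], [], [], [], [], [], [], [], [], [], [], [], [], [], [nat_lit 8, nat_lit 1, nat_lit 3, nat_lit 7, nat_lit 8, nat_lit 2], [], [], [], [], [], [], [], [], [], [], [], [], [], [], [], [], [], [], [], [], [], [], [], [], [], [], [], [nat_lit 7, nat_lit 5], [], [], [], [], [], [], [], [], [], [], [], [], [], [], [], [], [], [], [nat_lit 11, nat_lit 3], [], [], [nat_lit 7, nat_lit 8, nat_lit 4, nat_lit 8, nat_lit 2, nat_lit 3], [], [], [nat_lit 11, nat_lit 4], [], [], [], [nat_lit 11, nat_lit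 5], [], [nat_lit 6, nat_lit 4, nat_lit 2], [], [], [], [nat_lit 12, nat_lit 3], [], [], [], [], [], [], [], [], [], [], [], [], [], [], [], [], [], [nat_lit 6, nat_lit 16, nat_lit 13], [], [], [], [], [], [], [], [], [], [], [], [], [], [], [], [], [], [], [], [], [], [], [], [], [], [], [], [], [], [nat_lit 5, nat_lit 6], [], [], [], [], [], [], [], [], [], [], [], [], [], [], [], [], [], [], [], [], [nat_lit 8, nat_lit 3, nat_lit 8, nat_lit 7, nat_lit 4, nat_lit 9], [], [], [], [], [], [], [], [], [], [], [], [], [], [], [], [], [], [], [], [], [], [], [], [], [], [], [], [], [], [], [], [], [], [], [], [], [], [], [], [], [], [], [], [], [], [], [], [], [], [], [], [], [], [], [], [], [], [], [], [], [nat_lit 7, nat_lit 8, nat_lit 4, nat_lit 8, nat_lit 4], [], [], [], [], [], [], [], [], [], [], [], [], [], [], [], [], [], [], [], [], [nat_lit 5, nat_lit 7, nat_lit 8, nat_lit 4, nat_lit 8, nat_lit 12, nat_lit 4], [], [], [], [], [], [], [],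 [], [], [], [], [], [], [], [], [], [], [], [], [], [], [], [], [], [], [], [nat_lit 7, nat_lit 8, nat_lit 4, nat_lit 8, nat_lit 12, nat_lit 19], [], [], [], [], [], [], [], [], [], [nat_lit 8, nat_lit 13, nat_lit 4, nat_lit 8, nat_lit 19], [], [], [], [], [], [], [], [], [], [], [], [], [], [], [nat_lit 8, nat_lit 3, nat_lit 8, nat_lit 7, nat_lit 9], [], [], [], [], [], [], [], [], [], [], [], [], [], [nat_lit 8, nat_lit 4, nat_lit 19, nat_lit 2, nat_lit 8, nat_lit 1], [], [], [], [], [], [], [], [], [], [], [], [], [], [], [], [], [], [], [nat_lit 8, nat_lit 7, nat_lit 4, nat_lit 1, nat_lit 8], [], [nat_lit 5, nat_lit 13, nat_lit 3], [], [], [], [], [nat_lit 7, nat_lit 8, nat_lit 4, nat_lit 8, nat_lit 10], [], [], [nat_lit 7, nat_lit 8, nat_lit 4, nat_lit 8, nat_lit 1], [], [], [], [], [nat_lit 8, nat_lit 3, nat_lit 8, nat_lit 4, nat_lit 16, nat_lit 3], [], [], [], [], [], [], [], [nat_lit 5, nat_lit 7, nat_lit 8, nat_lit 4, nat_lit 8, nat_lit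 10], [], [], [], [], [], [nat_lit 5, nat_lit 8, nat_lit 7, nat_lit 4, nat_lit 1, nat_lit 8], [], [], [], [], [], [], [], [], [nat_lit 5, nat_lit 7, nat_lit 8, nat_lit 4, nat_lit 8, nat_lit 1], [], [], [], [], [], [], [], [], [], [], [nat_lit 8, nat_lit 2, nat_lit 4, nat_lit 19, nat_lit 8, nat_lit 3], [], [], [], [], [], [], [], [], [], [], [], [], [], [], [], [], [], [], [], [], [], [], [], [], [], [], [], [], [], [], [], [], [], [], [], [], [], [], [], [], [], [nat_lit 8, nat_lit 4, nat_lit 1, nat_lit 5, nat_lit 8], [], [], [], [], [], [nat_lit 5, nat_lit 8, nat_lit 4, nat_lit 1, nat_lit 5, nat_lit 8], [nat_lit 6, nat_lit 8, nat_lit 3, nat_lit 15, nat_lit 5, nat_lit 8], [], [], [], [], [], [], [], [nat_lit 5, nat_lit 7, nat_lit 8, nat_lit 4, nat_lit 8, nat_lit 4, nat_lit 2], [], [], [], [], [], [], [], [], [], [], [], [nat_lit 6, nat_lit 8, nat_lit 3, nat_lit 13, nat_lit 15, nat_lit 2, nat_lit 8], [], [], [], [], [], [], [], [], [], [], [nat_lit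 5, nat_lit 7, nat_lit 8, nat_lit 4, nat_lit 8, nat_lit 12], [], [nat_lit 8, nat_lit 3, nat_lit 2, nat_lit 7, nat_lit 8], [], [], [], [], [], [], [], [], [], [], [nat_lit 5, nat_lit 14, nat_lit 4], [], [], [], [], [nat_lit 8, nat_lit 3, nat_lit 16, nat_lit 2, nat_lit 8], [], [], [], [], [], [], [], [], [], [], [], [], [], [], [], [], [], [], [], [], [], [], [], [], [], [], [], [], [], [], [], [], [], [], [nat_lit 7, nat_lit 8, nat_lit 4, nat_lit 8, nat_lit 1, nat_lit 2], [], [nat_lit 8, nat_lit 13, nat_lit 4, nat_lit 8], [], [nat_lit 7, nat_lit 8, nat_lit 4, nat_lit 8, nat_lit 2, nat_lit 5], [], [], [], [nat_lit 5, nat_lit 8, nat_lit 13, nat_lit 4, nat_lit 8], [], [], [], [], [], [], [], [], [nat_lit 5, nat_lit 7], [], [], [], [], [], [], [], [], [], [], [], [], [], [], [], [], [], [nat_lit 5, nat_lit 8, nat_lit 13, nat_lit 4, nat_lit 8, nat_lit 1], [], [], [nat_lit 8, nat_lit 1, nat_lit 3, nat_lit 7, nat_lit 8, nat_lit 4], [], [nat_lit 7, nat_lit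 8, nat_lit 4, nat_lit 8, nat_lit 3, nat_lit 2], [], [], [], [], [], [], [], [], [], [], [], [], [], [], [], [], [], [], [], [], [], [], [], [], [], [], [], [nat_lit 13, nat_lit 3], [], [], [], [], [], [], [], [], [], [], [], [], [], [], [], [nat_lit 7, nat_lit 8, nat_lit 4, nat_lit 8, nat_lit 12], [], [], [], [], [], [], [], [], [], [], [nat_lit 5, nat_lit 6, nat_lit 8, nat_lit 3, nat_lit 16, nat_lit 5, nat_lit 8], [], [], [], [], [], [], [], [], [nat_lit 6, nat_lit 3], [], [], [], [], [], [], [], [], [], [], [], [], [], [], [], [], [nat_lit 8, nat_lit 1, nat_lit 3, nat_lit 7, nat_lit 8], [], [], [], [nat_lit 6, nat_lit 8, nat_lit 3, nat_lit 16, nat_lit 5, nat_lit 8], [], [], [], [], [], [], [], [], [], [], [], [], [], [], [], [nat_lit 8, nat_lit 3, nat_lit 2, nat_lit 8, nat_lit 15], [], [], [], [], [], [], [], [], [nat_lit 8, nat_lit 3, nat_lit 8, nat_lit 1, nat_lit 12, nat_lit 13], [], [], [], [nat_lit 15, nat_lit 3, nat_lit 8, nat_lit 4, nat_lit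 8], [], [], [], [], [], [], [], [], [], [], [], [nat_lit 14, nat_lit 4], [], [], [], [nat_lit 7, nat_lit 8, nat_lit 4, nat_lit 8, nat_lit 19], [], [], [], [], [], [], [], [], [], [nat_lit 5, nat_lit 7, nat_lit 8, nat_lit 4, nat_lit 8, nat_lit 19], [], [], [], [], [], [], [], [], [], [], [], [], [nat_lit 7], [], [], [], [], [nat_lit 8, nat_lit 3, nat_lit 8, nat_lit 7, nat_lit 5, nat_lit 9], [], [], [], [], [], [nat_lit 7, nat_lit 13], [], [], [], [], [nat_lit 6, nat_lit 19, nat_lit 8, nat_lit 2, nat_lit 4, nat_lit 8], [nat_lit 7, nat_lit 8, nat_lit 4, nat_lit 8, nat_lit 1, nat_lit 19], [], [], [], [], [], [], [], [], [], [], [], [], [], [], [nat_lit 8, nat_lit 13, nat_lit 4, nat_lit 8, nat_lit 2], [], [], [], [nat_lit 8, nat_lit 1, nat_lit 4, nat_lit 8, nat_lit 3, nat_lit 14], [], [], [], [], [nat_lit 8, nat_lit 2, nat_lit 19, nat_lit 2, nat_lit 8], [], [], [], [], [], [], [], [nat_lit 7, nat_lit 8, nat_lit 4, nat_lit 8, nat_lit 4, nat_lit 2], [],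 [], [], [], [], [], [], [], [], [], [], [], [], [nat_lit 8, nat_lit 3, nat_lit 6, nat_lit 7, nat_lit 8], [], [], [], [], [], [], [], [], [nat_lit 5, nat_lit 8, nat_lit 13, nat_lit 4, nat_lit 8, nat_lit 2], [nat_lit 5, nat_lit 15, nat_lit 3, nat_lit 8, nat_lit 4, nat_lit 8], [], [], [], [nat_lit 8, nat_lit 3, nat_lit 6, nat_lit 7, nat_lit 8, nat_lit 3], [], [], [], [], [], [], [], [], [], [], [], [], [], [], [], [], [], [], [], [], [], [nat_lit 8, nat_lit 15, nat_lit 14, nat_lit 4, nat_lit 8, nat_lit 3], [], [], [], [], [], [], [], [], [], [], [nat_lit 8, nat_lit 6, nat_lit 3, nat_lit 7, nat_lit 8], [], [], [], [], [], [], [], [], [], [], [nat_lit 6, nat_lit 8, nat_lit 3, nat_lit 8, nat_lit 19, nat_lit 8, nat_lit 2], [], [], [], [], [nat_lit 5, nat_lit 8, nat_lit 7, nat_lit 6, nat_lit 4, nat_lit 8], [], [], [], [], [], [], [], [], [], [], [], [], [], [nat_lit 6, nat_lit 19, nat_lit 1], [], [], [], [], [], [], [], [], [], [], [], [], [], [], [],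 [nat_lit 5, nat_lit 8, nat_lit 3, nat_lit 8, nat_lit 7, nat_lit 3], [], [], [nat_lit 5, nat_lit 13, nat_lit 19], [nat_lit 8, nat_lit 2, nat_lit 15, nat_lit 4, nat_lit 8, nat_lit 2], [], [], [], [], [], [], [], [], [], [], [], [], [], [], [], [], [nat_lit 8, nat_lit 2, nat_lit 19, nat_lit 2, nat_lit 8, nat_lit 3], [], [], [], [], [], [], [], [nat_lit 8, nat_lit 3, nat_lit 8, nat_lit 7, nat_lit 3], [], [], [], [], [], [], [], [], [], [nat_lit 13, nat_lit 19], [nat_lit 8, nat_lit 3, nat_lit 8, nat_lit 2, nat_lit 9, nat_lit 11], [], [], [], [], [], [], [], [], [], [nat_lit 8, nat_lit 7, nat_lit 4, nat_lit 6, nat_lit 8], [], [], [], [], [], [], [], [nat_lit 7, nat_lit 8, nat_lit 4, nat_lit 8, nat_lit 10, nat_lit 12], [], [], [], [], [], [], [], [], [], [], [], [nat_lit 8, nat_lit 3, nat_lit 8, nat_lit 7, nat_lit 1, nat_lit 9], [], [], [], [], [nat_lit 8, nat_lit 4, nat_lit 19, nat_lit 2, nat_lit 8], [], [], [], [], [], [], [nat_lit 5, nat_lit 8, nat_lit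 3, nat_lit 8, nat_lit 13, nat_lit 15], [], [], [], [nat_lit 5, nat_lit 8, nat_lit 13, nat_lit 4, nat_lit 8, nat_lit 9], [], [nat_lit 5, nat_lit 11, nat_lit 4], [], [], [], [nat_lit 8, nat_lit 2, nat_lit 19, nat_lit 2, nat_lit 8, nat_lit 2], [], [], [nat_lit 7, nat_lit 8, nat_lit 4, nat_lit 8, nat_lit 2, nat_lit 4], [], [], [], [], [nat_lit 8, nat_lit 3, nat_lit 8, nat_lit 13, nat_lit 15], [], [], [], [nat_lit 7, nat_lit 8, nat_lit 4, nat_lit 8, nat_lit 2, nat_lit 9], [], [], [], [], [], [nat_lit 8, nat_lit 3, nat_lit 6, nat_lit 7, nat_lit 8, nat_lit 2], [], [], [], [], [], [], [nat_lit 8, nat_lit 5, nat_lit 7, nat_lit 4, nat_lit 8, nat_lit 16], [], [], [], [], [], [], [], [], [], [], [], [], [], [], [nat_lit 8, nat_lit 3, nat_lit 8, nat_lit 7, nat_lit 10], [], [nat_lit 8, nat_lit 3, nat_lit 8, nat_lit 14, nat_lit 1], [], [], [], [], [], [nat_lit 7, nat_lit 12, nat_lit 19], [], [], [], [], [], [], [], [], [], [], [], [nat_lit 8, nat_lit 3, nat_lit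 8, nat_lit 1, nat_lit 12], [], [], [], [], [], [], [], [], [], [], [], [nat_lit 8, nat_lit 3, nat_lit 8, nat_lit 7, nat_lit 4], [], [], [], [], [], [], [nat_lit 5, nat_lit 6, nat_lit 4], [], [], [], [nat_lit 8, nat_lit 7, nat_lit 4, nat_lit 6, nat_lit 8, nat_lit 3], [], [], [], [], [nat_lit 5, nat_lit 7, nat_lit 8, nat_lit 4, nat_lit 8, nat_lit 9], [], [], [], [nat_lit 8, nat_lit 13, nat_lit 4, nat_lit 8, nat_lit 9], [], [], [], [nat_lit 5, nat_lit 8, nat_lit 3, nat_lit 8, nat_lit 7, nat_lit 4], [], [nat_lit 7, nat_lit 8, nat_lit 4, nat_lit 8, nat_lit 9], [], [], [], [], [], [], [], [], [], [], [], [], [], [], [], [], [], [], [nat_lit 5, nat_lit 7, nat_lit 8, nat_lit 4, nat_lit 8, nat_lit 2], [], [], [], [], [], [], [], [], [], [], [nat_lit 5, nat_lit 8, nat_lit 3, nat_lit 8, nat_lit 7, nat_lit 10], [], [], [], [], [], [], [], [], [], [], [nat_lit 5], [nat_lit 8, nat_lit 3, nat_lit 8, nat_lit 7, nat_lit 10, nat_lit 19], [], [nat_lit 5, nat_lit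 8, nat_lit 3, nat_lit 8, nat_lit 7, nat_lit 10, nat_lit 19], [], [], [], [], [], [], [], [], [], [], [], [], [nat_lit 5, nat_lit 11], [], [], [], [], [], [], [], [], [], [], [], [], [], [], [], [], [nat_lit 11], [], [], [], [], [nat_lit 13, nat_lit 4], [], [], [nat_lit 8, nat_lit 13, nat_lit 4, nat_lit 8, nat_lit 1], [], [], [], [], [], [], [nat_lit 7, nat_lit 8, nat_lit 4, nat_lit 8, nat_lit 2], [], [], [], [nat_lit 5, nat_lit 13, nat_lit 4], [], [], [], [], [nat_lit 8, nat_lit 1, nat_lit 3, nat_lit 7, nat_lit 8, nat_lit 3], [], [], [], [], [], [], [], [], [], [], [], [], [], [], [], [], [], [], [nat_lit 6], [], [nat_lit 7, nat_lit 12, nat_lit 4], [], [], [], [], [], [], [], [], [], [], [], [], [], [nat_lit 7, nat_lit 8, nat_lit 4, nat_lit 8, nat_lit 2, nat_lit 13], [], [], [], [], [nat_lit 5, nat_lit 8, nat_lit 6, nat_lit 3, nat_lit 7, nat_lit 8], [], [], [nat_lit 8, nat_lit 15, nat_lit 14, nat_lit 4, nat_lit 8], [], [], [], [nat_lit 8, nat_lit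 3, nat_lit 8, nat_lit 16, nat_lit 3, nat_lit 13], [], [], [], [], [], [], [], [nat_lit 8, nat_lit 19, nat_lit 6, nat_lit 7, nat_lit 8], [], [], [], [], [], [], [], [], [], [], [], [], [], [], [], [nat_lit 5, nat_lit 7, nat_lit 12, nat_lit 4], [], [], [], [], [nat_lit 8, nat_lit 2, nat_lit 4, nat_lit 19, nat_lit 8], [], [], [], [], [], [nat_lit 7, nat_lit 8, nat_lit 4, nat_lit 8, nat_lit 5], [], [], [], [], [], [], [], [], [], [], [], [], [], [], [], [], [], [], [], [], [], [], [], [], [], [], [], [], [], [], [], [], [], [], [], [], [], [], [], [], [], [], [], [], [], [], [], [], [], [], [], [], [nat_lit 7, nat_lit 8, nat_lit 4, nat_lit 8, nat_lit 4, nat_lit 9], [], [], [], [], [], [nat_lit 8, nat_lit 2, nat_lit 19, nat_lit 2, nat_lit 8, nat_lit 1], [], [], [], [], [], [], [], [], [], [], [], [], []]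

theorem invol {p : Grp} (h2 : p * p = 1) (h1 : p ≠ 1) : p = ev 17 ∨ ∃ k, k⁻¹ * ev 18 * k = p := by
  obtain ⟨g, hg⟩ := exists_conj_mem_of_not_dvd (T := Kh) Nat.prime_two (by rw [idxK]; norm_num)
    (x := p) (k := 1) (by rw [pow_one, pow_two, h2])
  obtain ⟨w, hw, e⟩ := enumK hg
  obtain ⟨k, hk⟩ := zip_all (W := KS) (f := fun x => movB img 5040 38 bs (x.1 ++ x.1) ||
    fixB img 38 bs x.1 || fixB img 38 bs (x.1 ++ invW inv [17]) ||
    fixB img 38 bs (invW inv x.2 ++ [18] ++ x.2 ++ invW inv x.1)) (by decide +kernel) w hw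
  have e' : p = g * evL ev w * g⁻¹ := by rw [e]; group
  simp only [Bool.or_eq_true] at hk
  rcases hk with ((c | c) | c) | c
  · exact absurd (by rw [evL_append, e, sq_cj h2]) (hφ.mov c)
  · exact absurd (by rw [e', ora _ c]; group) h1
  · left
    rw [e', eq_of_chk hev ora c, evL_singleton, Subgroup.mem_center_iff.mp cen g, mul_inv_cancel_right]
  · exact Or.inr ⟨evL ev k * g⁻¹, by
      rw [e', ← cj_of_chk hev ora c, evL_singleton]; group⟩

theorem three {w : List ℕ} (hw : w ∈ L0) (h3 : evL ev w ^ 3 = 1) (h1 : evL ev w ≠ 1) :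
    evL ev w = ev 9 ∨ evL ev w = (ev 9)⁻¹ ∨ (inR 38 w = true ∧ 4 ≤ mvd A.img 11 w ∧ ∃ n ∈ [1, 2],
      ev n * evL ev w * ev n ≠ evL ev w ∧ ev n * evL ev w * ev n ≠ (evL ev w)⁻¹) := by
  have h := List.all_eq_true.mp (show (L0.all fun w => movB img 5040 38 bs (rp 3 w) ||
    fixB img 38 bs w || fixB img 38 bs (w ++ invW inv [9]) || fixB img 38 bs (w ++ [9]) ||
    (inR 38 w && Nat.ble 4 (mvd A.img 11 w) && [1, 2].any fun n =>
      movB img 5040 38 bs ([n] ++ w ++ [n] ++ invW inv w) &&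
      movB img 5040 38 bs ([n] ++ w ++ [n] ++ w))) = true by decide +kernel) w hw
  simp only [Bool.or_eq_true, Bool.and_eq_true, Nat.ble_eq, List.any_eq_true] at h
  rcases h with (((c | c) | c) | c) | ⟨⟨c0, c⟩, n, hn, c1, c2⟩
  · exact absurd (by rw [evL_rp, h3]) (hφ.mov c)
  · exact absurd (ora _ c) h1
  · exact Or.inl (by rw [eq_of_chk hev ora c, evL_singleton])
  · have := ora _ c
    rw [evL_append, evL_singleton] at this
    exact Or.inr (Or.inl (eq_inv_of_mul_eq_one_left this))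
  · refine Or.inr (Or.inr ⟨c0, c, n, hn, fun e => hφ.mov c1 ?_, fun e => hφ.mov c2 ?_⟩)
    · rw [evL_append, evL_append, evL_append, evL_singleton, e, evL_invW hev, mul_inv_cancel]
    · rw [evL_append, evL_append, evL_append, evL_singleton, e, inv_mul_cancel]

theorem normx {p : Grp} (h : Commute p (ev 18)) :
    p⁻¹ * ev 9 * p = ev 9 ∨ p⁻¹ * ev 9 * p = (ev 9)⁻¹ := by
  obtain ⟨w, hw, rfl⟩ := enum0 h
  have h := List.all_eq_true.mp (show (L0.all fun w =>
    fixB img 38 bs (invW inv w ++ [9] ++ w ++ invW inv [9]) ||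
    fixB img 38 bs (invW inv w ++ [9] ++ w ++ invW inv [10])) = true by decide +kernel) w hw
  rw [Bool.or_eq_true] at h
  refine h.imp (fun c => ?_) fun c => ?_ <;> have := cj_of_chk hev ora c <;>
    rw [evL_singleton] at this
  · exact this
  · rw [this, evL_singleton]; exact hev.inv 9

theorem x3 : ev 9 ^ 3 = 1 := by
  rw [← evL_singleton ev, ← evL_rp]; exact ora _ (by decide +kernel)

theorem x1 : ev 9 ≠ 1 := evL_singleton ev 9 ▸ hφ.mov (bs := bs) (by decide +kernel)

theorem cm {a b : ℕ} (h : fixB img 38 bs ([a] ++ [b] ++ invW inv ([b] ++ [a])) = true) :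
    Commute (ev a) (ev b) := by
  have := comm_of h
  rwa [evL_singleton, evL_singleton] at this

theorem mx : (ev 19)⁻¹ * ev 9 * ev 19 = (ev 9)⁻¹ := by
  have := cj_of_chk hev ora (c := [19]) (u := [9]) (v := [10]) (by decide +kernel)
  rw [evL_singleton, evL_singleton, evL_singleton] at this
  rw [this]; exact hev.inv 9

theorem invol_x {p : Grp} (h2 : p * p = 1) (h1 : p ≠ 1) (hx : Commute p (ev 9)) :
    p = ev 17 ∨ ∃ k, Commute k (ev 9) ∧ k⁻¹ * ev 18 * k = p := by
  refine (invol h2 h1).imp_right fun ⟨k, hk⟩ => ?_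
  obtain ⟨w, hw, e⟩ := enum0 (p := k * ev 9 * k⁻¹) (by
    have := commute_cj hx.symm k⁻¹
    rwa [← hk, inv_inv, show k * (k⁻¹ * ev 18 * k) * k⁻¹ = ev 18 by group] at this)
  rcases three hw (by rw [e, conj_pow, x3]; group) (fun c => x1 (by
    rw [show ev 9 = k⁻¹ * (k * ev 9 * k⁻¹) * k by group, ← e, c]; group)) with c | c | ⟨c0, c, _⟩
  · exact ⟨k, by rw [e, mul_inv_eq_iff_eq_mul] at c; exact c, hk⟩
  · have ms : Commute (ev 19) (ev 18) := cm (by decide +kernel)
    refine ⟨ev 19 * k, commute_of_cj ?_, ?_⟩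
    · rw [show (ev 19 * k)⁻¹ * ev 9 * (ev 19 * k) = k⁻¹ * ((ev 19)⁻¹ * ev 9 * ev 19) * k by group, mx,
        ← c, e]
      group
    · rw [← hk, mul_inv_rev, mul_assoc, mul_assoc, ← mul_assoc (ev 18), ← ms.eq]; group
  · have := mvd_le hφA hlt (u := [9]) (by decide +kernel) c0 (k := k) (by rw [evL_singleton, e])
    rw [show mvd A.img 11 [9] = 3 by decide +kernel] at this
    omega

def ta0 : List (List ℕ) := [[], [], [], [], [], [], [], [], [], [], [], [], [], [], [], [], [], [17], [], [], [20], [21], [22], [23], [24], [25], [26], [27], [28], [29], [30], [31], [32], [33], [36], [37], [34], [35]]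

theorem aut : ∃ σ : Grp →* Grp, Function.Bijective σ ∧ σ (ev 9) = ev 10 ∧ σ (ev 10) = ev 9 ∧
    ∀ l ∈ [1, 2, 3, 4, 17, 18], σ (ev l) = ev l := by
  obtain ⟨σ, hσ⟩ := pg_lift (inv := inv0) (R := R0) (ev := evS ev ta0)
    (ora.good_evS (by decide +kernel)) (ora.rels_evS (by decide +kernel))
  have key : ∀ a b, fixB img 38 bs (subst ta0 (sg.getD a []) ++ invW inv [b]) = true →
      σ (ev a) = ev b := fun a b h => by
    show σ (evL (pgEv inv0 R0) _) = _
    rw [map_evL, funext hσ, evL_subst, eq_of_chk hev ora h, evL_singleton]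
  have sj : Function.Surjective σ := fun p => by
    have : p ∈ σ.range := by
      refine (show ⊤ ≤ σ.range from hX0 ▸ gen_le fun w hw => ?_) (Subgroup.mem_top p)
      refine ⟨evL ev0 (subst ta0 w), ?_⟩
      rw [map_evL, ev0, funext hσ, evL_subst, ev, evL_subst]
      have h : red inv0 (subst sg (subst ta0 (subst ta0 w))) = red inv0 w := by
        revert w; decide +kernel
      rw [← evL_red hev0, h, evL_red hev0]
      rfl
    exact this
  exact ⟨σ, ⟨Finite.injective_iff_surjective.mpr sj, sj⟩, key 9 10 (by decide +kernel),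
    key 10 9 (by decide +kernel), fun l hl => key l l (by revert l; decide +kernel)⟩


end Cfsg.H6.LR.P
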