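import Cfsg.Agent.H6.PG
import Cfsg.Agent.H6.DCE2

set_option autoImplicit false
set_option maxRecDepth 100000
set_option Elab.async false

namespace Cfsg.H6.LR.P

def R0 : List (List ℕ) := [[17,17], [20,20,20], [22,22,22], [24,24,24], [26,26,26], [28,28,28], [30,30,30], [32,32,32], [34,34,34], [36,36,36], [22,20,22,20,17], [24,20,24,20,17], [24,22,24,22,17], [26,20,26,20,17], [26,22,26,22,17], [26,24,26,24,17], [28,20,28,20,17], [28,22,28,22,17], [28,24,28,24,17], [28,26,28,26,17], [30,20,30,20,17], [30,22,30,22,17], [30,24,30,24,17], [30,26,30,26,17], [30,28,30,28,17], [32,20,32,20,17], [32,22,32,22,17], [32,24,32,24,17], [32,26,32,26,17], [32,28,32,28,17], [32,30,32,30,17], [34,20,34,20,17], [34,22,34,22,17], [34,24,34,24,17], [34,26,34,26,17], [34,28,34,28,17], [34,30,34,30,17], [34,32,34,32,17], [36,20,36,20,17], [36,22,36,22,17], [36,24,36,24,17], [36,26,36,26,17], [36,28,36,28,17], [36,30,36,30,17], [36,32,36,32,17], [36,34,36,34,17], [20,17,21,17], [22,17,23,17], [24,17,25,17], [26,17,27,17], [28,17,29,17],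 [30,17,31,17], [32,17,33,17], [34,17,35,17], [36,17,37,17]]

def RE : List (List ℕ) := [[17,17], [20,20,20], [22,22,22], [24,24,24], [26,26,26], [28,28,28], [30,30,30], [32,32,32], [34,34,34], [36,36,36], [22,20,22,20,17], [24,20,24,20,17], [24,22,24,22,17], [26,20,26,20,17], [26,22,26,22,17], [26,24,26,24,17], [28,20,28,20,17], [28,22,28,22,17], [28,24,28,24,17], [28,26,28,26,17], [30,20,30,20,17], [30,22,30,22,17], [30,24,30,24,17], [30,26,30,26,17], [30,28,30,28,17], [32,20,32,20,17], [32,22,32,22,17], [32,24,32,24,17], [32,26,32,26,17], [32,28,32,28,17], [32,30,32,30,17], [34,20,34,20,17], [34,22,34,22,17], [34,24,34,24,17], [34,26,34,26,17], [34,28,34,28,17], [34,30,34,30,17], [34,32,34,32,17], [36,20,36,20,17], [36,22,36,22,17], [36,24,36,24,17], [36,26,36,26,17], [36,28,36,28,17], [36,30,36,30,17], [36,32,36,32,17], [36,34,36,34,17], [20,17,21,17], [22,17,23,17], [24,17,25,17], [26,17,27,17], [28,17,29,17], [30,17,31,17], [32,17,33,17], [34,17,35,17], [36,17,37,17], [1,20,22,24,21,27,22,29,31,17],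 [2,20,22,24,26,28,25,31,26,17], [4,20,22,24,26,28,21,31,22,17], [5,20,24,22,26,20,28,27,30,25], [6,20,22,24,30,20,22,26,28], [7,20,22,24,26,20,30,27,29], [8,20,22,29,33,20,30,35,30,37,28], [10,32,35,36,33,17], [12,20,31,28,21,17], [14,24,27,17], [16,25,22,17], [18,20,23,20,24,27,24,28,31,28], [19,20,23,20,24,26,29,26,30,25,34,37,34]]

def sg : List (List ℕ) := [[], [20,22,24,21,27,22,29,31,17], [20,22,24,26,28,25,31,26,17], [20,22,24,26,28,21,31,22,17], [17,23,30,20,29,27,25,23,21], [20,24,22,26,20,28,27,30,25], [20,22,24,30,20,22,26,28], [20,22,24,26,20,30,27,29], [20,22,29,33,20,30,35,30,37,28], [32,35,36,33,17], [17,32,37,34,33], [20,31,28,21,17], [17,20,29,30,21], [24,27,17], [17,26,25], [25,22,17], [17,23,24], [17], [20,23,20,24,27,24,28,31,28], [20,23,20,24,26,29,26,30,25,34,37,34], [20], [21], [22], [23], [24], [25], [26], [27], [28], [29], [30], [31], [32], [33], [34], [35], [36], [37]]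

def ta : List (List ℕ) := [[], [], [], [], [], [], [], [], [], [], [], [], [], [], [], [], [], [17], [], [], [20], [21], [22], [23], [24], [25], [26], [27], [28], [29], [30], [31], [32], [33], [34], [35], [36], [37]]

def inv0 : ℕ := 4601798223793757641967235317486930856385528569749504879878151656874185087494652905264250880

def inv : ℕ := 4601798223793757641967235317486930856385528678621748064675590268617106973086074753284964608

/-- The presented double cover. -/
abbrev Grp : Type := PG inv0 R0

def ev0 : ℕ → Grp := pgEv inv0 R0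

/-- The letters of the larger alphabet. -/
def ev : ℕ → Grp := evS ev0 sg

theorem act_of {img : ℕ → ℕ → ℕ} {n : ℕ} (h : Good (evR img n 38) 4601798223793757641967235317486930856385528678621748064675590268617106973086074753284964608 ∧ Rels (evR img n 38) RE ∧
    IsAct (MonoidHom.id _) (evR img n 38) img n 38) :
    ∃ φ : Grp →* Equiv.Perm ℕ, IsAct φ ev img n 38 := by
  obtain ⟨ψ, hψ⟩ := pg_lift (inv := inv0) (R := R0) (ev := evS (evR img n 38) ta)
    (good_evS h.1 h.2.1 (by decide +kernel)) (rels_evS h.1 h.2.1 (by decide +kernel))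
  refine ⟨ψ, fun x h1 h2 p hp => ?_⟩
  have e : ψ (ev x) = evR img n 38 x := by
    rw [ev, evS, map_evL, ev0, funext hψ, evL_subst, ← evL_singleton (evR img n 38) x, ← mul_inv_eq_one,
      ← evL_invW h.1, ← evL_append]
    refine cyc_sound h.1 h.2.1 ?_
    interval_cases x <;> decide +kernel
  rw [e]
  exact h.2.2 x h1 h2 p hp

end Cfsg.H6.LR.P
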